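import Groth.Agent.BunLib68.TF.Beta

/-!
# Decomposition of a modification, and restriction of quotients to their supports
-/

set_option autoImplicit false
set_option backward.isDefEq.respectTransparency false
set_option backward.isDefEq.respectTransparency.types false
set_option linter.style.haveILetI false
set_option linter.unusedSectionVars false
set_option linter.overlappingInstances false

universe u

open CategoryTheory CategoryTheory.Limits AlgebraicGeometry TopologicalSpace Opposite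

noncomputable section

namespace Groth.Agent.BunLib68.TF

variable {X : Scheme.{u}} (k : Type u) [Field k] [X.Over (Spec (CommRingCat.of k))]
  [IsProper (X ↘ Spec (CommRingCat.of k))] [IsReduced X] [IsNoetherian X]
  (hpure : ∀ C ∈ irreducibleComponents (X : Type u), topologicalKrullDim C = 1)
  {M M' : X.Modules}

include hpure in
/-- A sheaf is the sum of two complementary quotients when the Euler characteristics add up. -/
theorem isIso_lift_iff (hM : TFOne.IsTF1 X M) {P : X → Prop} {Z₁ Z₂ : Set X} {G₁ G₂ : X.Modules}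
    {π₁ : M ⟶ G₁} {π₂ : M ⟶ G₂} (h₁ : TFOne.IsQuotOn X M Z₁ G₁ π₁) (h₂ : TFOne.IsQuotOn X M Z₂ G₂ π₂)
    (hZ₁ : ∀ η, IsGen η → (η ∈ Z₁ ↔ P η)) (hZ₂ : ∀ η, IsGen η → (η ∈ Z₂ ↔ ¬ P η)) :
    IsIso (biprod.lift π₁ π₂) ↔ chiQ k M P + chiQ k M (fun η => ¬ P η) = Curv2.euler k X M := by
  rw [← euler_eq_chiQ k hM h₁ hZ₁, ← euler_eq_chiQ k hM h₂ hZ₂]
  obtain ⟨hBc, hBe⟩ := euler_biprod k h₁.2.1 h₂.2.1
  rw [← hBe]
  constructor
  · intro h
    exact (CurveCohLib.euler_congr (k := k) (@asIso _ _ _ _ (biprod.lift π₁ π₂) h)).symm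
  · intro he
    haveI : Mono (biprod.lift π₁ π₂) := mono_of_gen _ hM.1.1 hM.2.1 fun η hη v hv => by
      by_cases hP : P η
      · refine quot_injective hM.2.2 h₁ hη ((hZ₁ η hη).2 hP) ?_
        rw [← biprod.lift_fst π₁ π₂, sm_comp, hv, map_zero]
      · refine quot_injective hM.2.2 h₂ hη ((hZ₂ η hη).2 hP) ?_
        rw [← biprod.lift_snd π₁ π₂, sm_comp, hv, map_zero]
    refine (euler_le_of_mono k hpure (biprod.lift π₁ π₂) hM.1 hBc fun η hη w => ?_).2 he.symm
    haveI := h₁.1
    haveI := h₂.1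
    by_cases hP : P η
    · haveI := quot_subsingleton h₂ (x := η) fun h => (hZ₂ η hη).1 h hP
      obtain ⟨v, hv⟩ := sm_surjective π₁ η (sm biprod.fst η w)
      refine ⟨v, ?_⟩
      rw [← sm_biprod_total η w, ← sm_biprod_total η (sm (biprod.lift π₁ π₂) η v), ← sm_comp _ biprod.fst,
        ← sm_comp _ biprod.snd, biprod.lift_fst, biprod.lift_snd, hv,
        Subsingleton.elim (sm π₂ η v) (sm biprod.snd η w)]
    · haveI := quot_subsingleton h₁ (x := η) fun h => hP ((hZ₁ η hη).1 h)
      obtain ⟨v, hv⟩ := sm_surjective π₂ η (sm biprod.snd η w)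
      refine ⟨v, ?_⟩
      rw [← sm_biprod_total η w, ← sm_biprod_total η (sm (biprod.lift π₁ π₂) η v), ← sm_comp _ biprod.fst,
        ← sm_comp _ biprod.snd, biprod.lift_fst, biprod.lift_snd, hv,
        Subsingleton.elim (sm π₁ η v) (sm biprod.fst η w)]

include hpure in
/-- The modification decomposes along the subcurve exactly when `β` is unchanged there. -/
theorem IsModif.beta_eq_iff_decomp {E : X.Modules} {r : ℕ} (hE : FlatMod.IsFinLocFreeOfRank r E) (hr : 0 < r)
    {Y : X → Prop} (h : IsModif k M M' Y) (hM : TFOne.IsTF1 X M) {Z₁ Z₂ : Set X} {G₁ G₂ : X.Modules}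
    {π₁ : M' ⟶ G₁} {π₂ : M' ⟶ G₂} (h₁ : TFOne.IsQuotOn X M' Z₁ G₁ π₁) (h₂ : TFOne.IsQuotOn X M' Z₂ G₂ π₂)
    (hZ₁ : ∀ η, IsGen η → (η ∈ Z₁ ↔ Y η)) (hZ₂ : ∀ η, IsGen η → (η ∈ Z₂ ↔ ¬ Y η)) :
    beta k hE M' Y = beta k hE M Y ↔ IsIso (biprod.lift π₁ π₂) := by
  rw [isIso_lift_iff k hpure h.tf1 h₁ h₂ hZ₁ hZ₂, h.euler_eq,
    h.eq (fun η => ¬ Y η) (Or.inr fun η _ hh => hh.1 hh.2),
    chiQ_congr k hM (P := fun η => ¬ Y η ∧ Y η) (Q := fun _ => False) (fun η _ => iff_of_false (fun hh => hh.1 hh.2) not_false),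
    chiQ_congr k hM (P := fun η => ¬ Y η ∨ Y η) (Q := fun _ => True) (fun η _ => iff_of_true (em (Y η)).symm trivial),
    chiQ_false k hM, chiQ_true k hM]
  unfold beta
  constructor
  · intro hh
    have := mul_left_cancel₀ (show (r : ℤ) ≠ 0 by positivity) (add_right_cancel hh)
    omega
  · intro hh
    have : chiQ k M' Y = chiQ k M Y := by omega
    rw [this]

section Sub

omit [IsProper (X ↘ Spec (CommRingCat.of k))]

variable {Y : Set X} {G : X.Modules} {T : Scheme.{u}} [IsReduced T] (j : T ⟶ X) [IsClosedImmersion j]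

/-- A torsion-free quotient on a subcurve is a direct image from it. -/
theorem isIso_unit_of_quot {π : M ⟶ G} (hG : TFOne.IsQuotOn X M Y G π) (hr : Set.range j = Y) :
    IsIso ((Scheme.Modules.pullbackPushforwardAdjunction j).unit.app G) := by
  refine (QCoh.isIso_unit_closed_iff j hG.2.1.1).2 fun U a ha s => ?_
  refine eq_zero_of_gen hG.2.1.1 hG.2.2.1 _ fun η hη hg => ?_
  by_cases hm : η ∈ Y
  · obtain ⟨z, rfl⟩ := hr.ge hm
    rw [Scheme.Hom.ker_apply, RingHom.mem_ker] at ha
    rw [QCoh.germ_smul']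
    have h0 : (j.stalkMap z).hom (X.presheaf.germ U.1 (j z) hη a) = 0 := by
      rw [show (j.stalkMap z).hom (X.presheaf.germ U.1 (j z) hη a) =
        T.presheaf.germ (j ⁻¹ᵁ U.1) z hη (j.app U.1 a) from Scheme.Hom.germ_stalkMap_apply j U.1 z hη a, ha, map_zero]
    haveI := (isGen_of_isGen_apply j hg).nontrivial
    letI := hg.toField
    rw [(j.stalkMap z).hom.injective (h0.trans (map_zero _).symm), zero_smul]
  · haveI := quot_subsingleton hG hm
    exact Subsingleton.elim _ _

/-- The restriction of a quotient to its subcurve is torsion-free of rank one. -/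
theorem isTF1_pullback_quot (hM : TFOne.IsTF1 X M) {π : M ⟶ G} (hG : TFOne.IsQuotOn X M Y G π)
    (hr : Set.range j = Y) (hY : Y = compUnion (· ∈ Y)) [IsLocallyNoetherian T] :
    TFOne.IsTF1 T ((Scheme.Modules.pullback j).obj G) := by
  haveI := isIso_unit_of_quot j hG hr
  let N := (Scheme.Modules.pullback j).obj G
  let e : G ⟶ (Scheme.Modules.pushforward j).obj N := (Scheme.Modules.pullbackPushforwardAdjunction j).unit.app G
  haveI : IsIso e := isIso_unit_of_quot j hG hr
  have hNc : Coh.IsCoh N := KZ.ClosedDev.isCoh_pull j hG.2.1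
  have hP : TorSh.IsTorsionFree ((Scheme.Modules.pushforward j).obj N) :=
    isTorsionFree_of_mono (inv e) hG.2.1.1 hG.2.2.1
  haveI : CompactSpace T := j.isClosedEmbedding.compactSpace
  haveI : IsNoetherian T := {}
  refine ⟨hNc, isTorsionFree_of_gen fun V s hs => ?_, fun z hz' => ?_⟩
  · obtain ⟨O, hO, hOV⟩ := j.isClosedEmbedding.isInducing.isOpen_iff.1 V.2
    obtain rfl : (TopologicalSpace.Opens.map j.base).obj ⟨O, hO⟩ = V := TopologicalSpace.Opens.ext hOV
    exact eq_zero_of_gen (QCoh.isQCoh_pushforward j hNc.1) hP (U := ⟨O, hO⟩) s fun η hη hg => by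
      by_cases hm : η ∈ Set.range j
      · obtain ⟨w, rfl⟩ := hm
        refine (pushStalk j N w).injective ?_
        rw [map_zero]
        exact (pushStalk_germ j N w hη s).trans (hs w hη (isGen_of_isGen_apply j hg))
      · haveI := subsingleton_push j hNc.1 hm
        exact Subsingleton.elim _ _
  · have hz := isGen_of_mem_genericPoints hz'
    have hη : IsGen (j z) := isGen_apply j (hr.trans hY) hz
    obtain ⟨e₀⟩ := hM.2.2 (j z) hη.mem_genericPoints
    haveI := hG.1
    have hπ : Function.Bijective (sm π (j z)) := ⟨(injective_iff_map_eq_zero _).2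
      fun v hv => quot_injective hM.2.2 hG hη (hr ▸ ⟨z, rfl⟩) hv, sm_surjective π (j z)⟩
    have he : Function.Bijective (sm e (j z)) := ⟨sm_injective e (j z), sm_surjective e (j z)⟩
    let L : X.presheaf.stalk (j z) ≃ₗ[X.presheaf.stalk (j z)] ((Coh.push j).obj N).presheaf.stalk (j z) :=
      e₀.symm.trans ((LinearEquiv.ofBijective _ hπ).trans (LinearEquiv.ofBijective _ he))
    let φ := (j.stalkMap z).hom
    haveI := hz.nontrivial
    letI := hη.toField
    have hφ : Function.Bijective φ := ⟨φ.injective, j.stalkMap_surjective z⟩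
    let A : N.presheaf.stalk z ≃+ T.presheaf.stalk z :=
      (pushStalk j N z).symm.trans (L.symm.toAddEquiv.trans (RingEquiv.ofBijective φ hφ).toAddEquiv)
    refine ⟨{ A with map_smul' := fun c v => ?_ }⟩
    obtain ⟨a, rfl⟩ := hφ.2 c
    obtain ⟨w, rfl⟩ := (pushStalk j N z).surjective v
    have h1 : φ a • pushStalk j N z w = pushStalk j N z (a • w) :=
      (VarBase.pushStalkEquiv_smul j _ _ N a w).symm
    show φ (L.symm ((pushStalk j N z).symm (φ a • pushStalk j N z w))) =
      φ a • φ (L.symm ((pushStalk j N z).symm (pushStalk j N z w)))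
    rw [h1, AddEquiv.symm_apply_apply, AddEquiv.symm_apply_apply, map_smul, smul_eq_mul, map_mul, smul_eq_mul]

/-- Quotients on the subcurve push forward to quotients. -/
theorem isQuotOn_push {π : M ⟶ G} (hG : TFOne.IsQuotOn X M Y G π) (hr : Set.range j = Y)
    (hY : Y = compUnion (· ∈ Y)) [IsLocallyNoetherian T] {S : Set T} {H : T.Modules}
    {ρ : (Scheme.Modules.pullback j).obj G ⟶ H} (hH : TFOne.IsQuotOn T ((Scheme.Modules.pullback j).obj G) S H ρ) :
    TFOne.IsQuotOn X M (j '' S) ((Scheme.Modules.pushforward j).obj H)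
      (π ≫ (Scheme.Modules.pullbackPushforwardAdjunction j).unit.app G ≫ (Scheme.Modules.pushforward j).map ρ) := by
  haveI := isIso_unit_of_quot j hG hr
  haveI := hG.1
  haveI := hH.1
  haveI : Epi ((Scheme.Modules.pushforward j).map ρ) :=
    AmpleVan.epi_push j (QCoh.isQCoh_pullback j hG.2.1.1) hH.2.1.1 ρ
  refine ⟨inferInstance, QCoh.isCoh_pushforward_finite j hH.2.1,
    isTorsionFree_push j hH.2.1.1 hH.2.2.1 (hr.trans hY), ?_⟩
  ext x
  constructor
  · intro hx
    obtain ⟨z, rfl⟩ := QCoh.support_push_subset j hH.2.1.1 hx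
    exact ⟨z, hH.2.2.2.le fun hs => hx (@Equiv.subsingleton _ _ (pushStalk j H z).toEquiv hs), rfl⟩
  · rintro ⟨z, hz, rfl⟩ hs
    exact hH.2.2.2.ge hz (@Equiv.subsingleton _ _ (pushStalk j H z).symm.toEquiv hs)

end Sub

include hpure in
/-- `β` on the subcurve computed in the ambient curve. -/
theorem rBeta_subsch {E : X.Modules} {r : ℕ} (hE : FlatMod.IsFinLocFreeOfRank r E) {Y : Set X} (hY : IsClosed Y)
    (S : Set (VecSt.subsch X Y hY)) (hS : IsClosed S) {H : (VecSt.subsch X Y hY).Modules} (hH : Coh.IsQCoh H) :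
    TFOne.rBeta (VecSt.subsch X Y hY) k (VecSt.subschι X Y hY ≫ (X ↘ Spec (CommRingCat.of k))) S hS
        ((Scheme.Modules.pullback (VecSt.subschι X Y hY)).obj E) r H =
      (r : ℤ) * Curv2.euler k X ((Scheme.Modules.pushforward (VecSt.subschι X Y hY)).obj H) +
        dsum k hE (· ∈ VecSt.subschι X Y hY '' S) := by
  let j := VecSt.subschι X Y hY
  let l := VecSt.subschι (VecSt.subsch X Y hY) S hS
  letI : (VecSt.subsch X Y hY).Over (Spec (CommRingCat.of k)) := ⟨j ≫ (X ↘ Spec (CommRingCat.of k))⟩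
  letI : (VecSt.subsch (VecSt.subsch X Y hY) S hS).Over (Spec (CommRingCat.of k)) :=
    ⟨l ≫ j ≫ (X ↘ Spec (CommRingCat.of k))⟩
  have hd := deg_pullback_eq_dsum k hpure hE (l ≫ j)
  have hrg : Set.range (l ≫ j) = j '' S := by
    rw [show Set.range (l ≫ j) = Set.range (fun z => j (l z)) from rfl, Set.range_comp' j l, range_subschι]
  rw [hrg] at hd
  rw [← hd]
  show (r : ℤ) * Curv2.euler k (VecSt.subsch X Y hY) H + _ = _
  rw [VarBase.euler_push j k rfl hH]
  congr 1
  unfold Curv2.deg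
  exact congrArg (· - _) (CurveCohLib.euler_congr (k := k) ((Scheme.Modules.pullbackComp l j).app E))

end Groth.Agent.BunLib68.TF
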