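import Groth.Agent.BunLib68.TF.Hat
import Groth.Agent.BunLib68.TF.Decomp

/-!
# Improving an extension by elementary modifications
-/

set_option autoImplicit false
set_option backward.isDefEq.respectTransparency false
set_option backward.isDefEq.respectTransparency.types false
set_option linter.style.haveILetI false
set_option linter.unusedSectionVars false
set_option linter.overlappingInstances false

universe u

open CategoryTheory CategoryTheory.Limits AlgebraicGeometry TopologicalSpace Opposite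

noncomputable section

namespace Groth.Agent.BunLib68.TF

variable {R : Type u} [CommRing R] [IsDomain R] [IsDiscreteValuationRing R]
  {X : Scheme.{u}} [X.Over (Spec (CommRingCat.of R))] [IsProper (X ↘ Spec (CommRingCat.of R))]
  [Flat (X ↘ Spec (CommRingCat.of R))]
  {Xs : Scheme.{u}} [Xs.Over (Spec (CommRingCat.of (IsLocalRing.ResidueField R)))]
  [IsProper (Xs ↘ Spec (CommRingCat.of (IsLocalRing.ResidueField R)))] [IsReduced Xs] [IsNoetherian Xs]
  [GeometricallyReduced (Xs ↘ Spec (CommRingCat.of (IsLocalRing.ResidueField R)))]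
  {i : Xs ⟶ X}
  (hsq : IsPullback i (Xs ↘ Spec (CommRingCat.of (IsLocalRing.ResidueField R))) (X ↘ Spec (CommRingCat.of R))
    (Spec.map (CommRingCat.ofHom (IsLocalRing.residue R))))
  (hpure : ∀ C ∈ irreducibleComponents (Xs : Type u), topologicalKrullDim C = 1)
  {t : R} (ht : Irreducible t) {E : X.Modules} {r : ℕ} (hE : FlatMod.IsFinLocFreeOfRank r E) (hr : 0 < r)

/-- Two families with isomorphic general fibres. -/
def GenIso (I J : X.Modules) : Prop :=
  ∀ (Ω : Type u) [Field Ω] [Algebra R Ω], Function.Injective (algebraMap R Ω) →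
    ∀ (W : Scheme.{u}) (φ : W ⟶ X) (q : W ⟶ Spec (CommRingCat.of Ω)),
      IsPullback φ q (X ↘ Spec (CommRingCat.of R)) (Spec.map (CommRingCat.ofHom (algebraMap R Ω))) →
      Nonempty ((Scheme.Modules.pullback φ).obj I ≅ (Scheme.Modules.pullback φ).obj J)

theorem GenIso.refl (I : X.Modules) : GenIso (R := R) I I := fun _ _ _ _ _ _ _ _ => ⟨Iso.refl _⟩

theorem GenIso.trans {I J K : X.Modules} (h : GenIso (R := R) I J) (h' : GenIso (R := R) J K) :
    GenIso (R := R) I K := fun Ω _ _ hΩ W φ q hp => by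
  obtain ⟨e⟩ := h Ω hΩ W φ q hp
  obtain ⟨e'⟩ := h' Ω hΩ W φ q hp
  exact ⟨e ≪≫ e'⟩

theorem GenSS.congr {I J : X.Modules} (h : GenIso (R := R) I J) (hs : GenSS (R := R) I E r) :
    GenSS (R := R) J E r := fun Ω _ _ _ hΩ W φ q hp => by
  obtain ⟨e⟩ := h Ω hΩ W φ q hp
  exact isSemistable_iso Ω q e (Iso.refl _) (hs Ω hΩ W φ q hp)

theorem GenSimple.congr {I J : X.Modules} (h : GenIso (R := R) I J) (hs : GenSimple (R := R) I) :
    GenSimple (R := R) J := fun Ω _ _ _ hΩ W φ q hp => by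
  obtain ⟨e⟩ := h Ω hΩ W φ q hp
  exact ⟨isTF1_iso e (hs Ω hΩ W φ q hp).1, isSimple_iso Ω q e (hs Ω hΩ W φ q hp).2⟩

/-- The generic fibres of `I` are quasistable along `σ`. -/
def GenQS (I E : X.Modules) (σ : Spec (CommRingCat.of R) ⟶ X) (r : ℕ) : Prop :=
  GenCond (R := R) (X := X) fun Ω _ _ W q φ => ∀ y : Spec (CommRingCat.of Ω) ⟶ W, y ≫ q = 𝟙 _ →
    y ≫ φ = y ≫ φ ≫ (X ↘ Spec (CommRingCat.of R)) ≫ σ →
    TFOne.IsQuasistableAtPt W Ω q ((Scheme.Modules.pullback φ).obj I) ((Scheme.Modules.pullback φ).obj E) r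
      (y.base (IsLocalRing.closedPoint Ω))

theorem GenQS.congr {I J : X.Modules} {σ : Spec (CommRingCat.of R) ⟶ X} (h : GenIso (R := R) I J)
    (hs : GenQS (R := R) I E σ r) : GenQS (R := R) J E σ r := fun Ω _ _ _ hΩ W φ q hp y hy hy' => by
  obtain ⟨e⟩ := h Ω hΩ W φ q hp
  exact isQuasistableAtPt_iso Ω q e (Iso.refl _) (hs Ω hΩ W φ q hp y hy hy')

/-- The states of the algorithms. -/
structure Good (i : Xs ⟶ X) (t : R) (I : X.Modules) : Prop where
  coh : Coh.IsCoh I
  mono : Mono (Formal.smulMod R I t)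
  tf1 : TFOne.IsTF1 Xs ((Scheme.Modules.pullback i).obj I)

/-- The elementary modification along the components selected by `P`. -/
def nxt (i : Xs ⟶ X) (P : Xs → Prop) (I : X.Modules) : X.Modules :=
  kernel ((Scheme.Modules.pullbackPushforwardAdjunction i).unit.app I ≫
    (Scheme.Modules.pushforward i).map (quotπ ((Scheme.Modules.pullback i).obj I) P))

/-- The sequence of modifications. -/
def iter (i : Xs ⟶ X) (P : Xs → Prop) (I : X.Modules) : ℕ → X.Modules
  | 0 => I
  | n + 1 => nxt i P (iter i P I n)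

theorem isNoetherian_total (f : X ⟶ Spec (CommRingCat.of R)) [IsProper f] : IsNoetherian X := {
  toIsLocallyNoetherian := LocallyOfFiniteType.isLocallyNoetherian f
  toCompactSpace := QuasiCompact.compactSpace_of_compactSpace f }

theorem IsModif.congr {M M' : Xs.Modules} {Y Y' : Xs → Prop} (hM : TFOne.IsTF1 Xs M)
    (hY : ∀ η, IsGen η → (Y η ↔ Y' η)) (h : IsModif (IsLocalRing.ResidueField R) M M' Y) :
    IsModif (IsLocalRing.ResidueField R) M M' Y' := by
  have c : ∀ P : Xs → Prop,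
      chiQ (IsLocalRing.ResidueField R) M (fun η => P η ∧ Y η) + chiQ (IsLocalRing.ResidueField R) M (fun η => P η ∨ Y η) -
        chiQ (IsLocalRing.ResidueField R) M Y =
      chiQ (IsLocalRing.ResidueField R) M (fun η => P η ∧ Y' η) + chiQ (IsLocalRing.ResidueField R) M (fun η => P η ∨ Y' η) -
        chiQ (IsLocalRing.ResidueField R) M Y' := fun P => by
    rw [chiQ_congr _ hM (P := fun η => P η ∧ Y η) (Q := fun η => P η ∧ Y' η) fun η hη => by rw [hY η hη],
      chiQ_congr _ hM (P := fun η => P η ∨ Y η) (Q := fun η => P η ∨ Y' η) fun η hη => by rw [hY η hη],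
      chiQ_congr _ hM (P := Y) (Q := Y') hY]
  refine ⟨h.tf1, h.euler_eq, fun P => c P ▸ h.le P, fun P hP => c P ▸ h.eq P ?_⟩
  rcases hP with hP | hP
  · exact Or.inl fun η hη => (hP η hη).imp id (hY η hη).2
  · exact Or.inr fun η hη hh => hP η hη ⟨hh.1, (hY η hη).1 hh.2⟩

include hsq hpure ht in
/-- The properties of one step. -/
theorem Good.step {I : X.Modules} (h : Good i t I) (P : Xs → Prop) :
    Good i t (nxt i P I) ∧ IsModif (IsLocalRing.ResidueField R) ((Scheme.Modules.pullback i).obj I)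
      ((Scheme.Modules.pullback i).obj (nxt i P I)) P ∧ GenIso (R := R) I (nxt i P I) := by
  haveI := isNoetherian_total (X ↘ Spec (CommRingCat.of R))
  have hQ := isQuotOn_quotM h.tf1 P
  have hm := isModif_pullback (IsLocalRing.ResidueField R) hpure (X ↘ Spec (CommRingCat.of R)) i
    (Xs ↘ Spec (CommRingCat.of (IsLocalRing.ResidueField R))) hsq h.coh
    (isFlatOver_of_mono_smulMod ht h.mono) h.tf1 hQ (nxt i P I) rfl
  have hm' := IsModif.congr h.tf1 (fun η hη => mem_compUnion_gen hη) hm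
  obtain ⟨hc, a, u, hau, hua, -, -⟩ := exists_modTower_step hsq ht _ hQ (nxt i P I) rfl h.coh
  refine ⟨⟨hc, mono_smulMod_step ht _ _ rfl h.mono, hm.tf1⟩, hm', fun Ω _ _ hΩ W φ q hp => ?_⟩
  letI : W.Over (Spec (CommRingCat.of Ω)) := ⟨q⟩
  have hne : algebraMap R Ω t ≠ 0 := (map_ne_zero_iff _ hΩ).2 ht.ne_zero
  let L := Scheme.Modules.pullback φ
  let s := fun M : W.Modules => Formal.smulMod Ω M (algebraMap R Ω t)⁻¹
  have hcancel : ∀ M : W.Modules, Formal.smulMod Ω M (algebraMap R Ω t) ≫ s M = 𝟙 _ := fun M => by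
    show _ ≫ Formal.smulMod Ω M _ = _
    rw [← FFun.smulMod_mul, inv_mul_cancel₀ hne, FFun.smulMod_one]
  have e1 : L.map u ≫ L.map a = Formal.smulMod Ω (L.obj I) (algebraMap R Ω t) := by
    rw [← L.map_comp, hua, pullback_smulMod_baseChange φ hp.w]
  have e2 : L.map a ≫ L.map u = Formal.smulMod Ω (L.obj (nxt i P I)) (algebraMap R Ω t) := by
    rw [← L.map_comp, hau, pullback_smulMod_baseChange φ hp.w]
  refine ⟨⟨L.map u, L.map a ≫ s _, ?_, ?_⟩⟩
  · rw [← Category.assoc, e1, hcancel]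
  · rw [Category.assoc, show s (L.obj I) ≫ L.map u = L.map u ≫ s (L.obj (nxt i P I)) from
      FFun.smulMod_naturality _ _, ← Category.assoc, e2, hcancel]

include hsq hpure ht in
theorem Good.iterate {I : X.Modules} (h : Good i t I) (P : Xs → Prop) (n : ℕ) :
    Good i t (iter i P I n) ∧ GenIso (R := R) I (iter i P I n) := by
  induction n with
  | zero => exact ⟨h, GenIso.refl I⟩
  | succ n ih =>
    obtain ⟨h1, -, h3⟩ := ih.1.step hsq hpure ht P
    exact ⟨h1, ih.2.trans h3⟩

include hsq hpure ht in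
/-- A sequence of steps decomposing forever gives a tower. -/
theorem exists_decTower {I : X.Modules} (h : Good i t I) (P : Xs → Prop)
    (hd : ∀ n, Dec (IsLocalRing.ResidueField R) ((Scheme.Modules.pullback i).obj (iter i P I n)) P) :
    ∃ T : DecTower (R := R) i t (compUnion P) (compUnion fun η => ¬ P η),
      T.In = iter i P I ∧
        HEq T.π (fun n => quotπ ((Scheme.Modules.pullback i).obj (iter i P I n)) P) := by
  haveI := isNoetherian_total (X ↘ Spec (CommRingCat.of R))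
  have hg := fun n => (h.iterate hsq hpure ht P n).1
  have hs := fun n => exists_modTower_step hsq ht _ (isQuotOn_quotM (hg n).tf1 P) (iter i P I (n + 1)) rfl (hg n).coh
  choose hc a u hau hua hap hdesc using hs
  refine ⟨{
    In := iter i P I, a := a, u := u, au := hau, ua := hua, coh := fun n => (hg n).coh,
    mono_t := fun n => (hg n).mono, G := fun n => quotM ((Scheme.Modules.pullback i).obj (iter i P I n)) P,
    G' := fun n => quotM ((Scheme.Modules.pullback i).obj (iter i P I n)) fun η => ¬ P η,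
    π := fun n => quotπ _ P, π' := fun n => quotπ _ fun η => ¬ P η,
    isQuot := fun n => isQuotOn_quotM (hg n).tf1 P,
    isQuot' := fun n => isQuotOn_quotM (hg n).tf1 fun η => ¬ P η,
    a_π := hap, desc := fun n => hdesc n, dec := fun n => ?_,
    disj := fun η hη h1 h2 => (mem_compUnion_gen hη).1 h2 ((mem_compUnion_gen hη).1 h1) }, rfl, HEq.rfl⟩
  refine (isIso_lift_iff (IsLocalRing.ResidueField R) hpure (hg n).tf1 (P := P) (isQuotOn_quotM (hg n).tf1 P)
    (isQuotOn_quotM (hg n).tf1 _) (fun η hη => mem_compUnion_gen hη) fun η hη => mem_compUnion_gen hη).2 ?_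
  rw [← chiQ_true (IsLocalRing.ResidueField R) (hg n).tf1]
  exact hd n

variable (R i) in
/-- `β` on the special fibre. -/
abbrev betaS (I : X.Modules) (P : Xs → Prop) : ℤ :=
  beta (IsLocalRing.ResidueField R) (isFinLocFreeOfRank_pullback i hE) ((Scheme.Modules.pullback i).obj I) P

variable (R i) in
/-- The condition maintained by the semistable algorithms. -/
def SSState (I : X.Modules) : Prop := betaS R i hE I (fun _ => True) = 0 ∧ ∀ P, 0 ≤ betaS R i hE I P

include hsq hpure ht in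
theorem betaS_true_step {I : X.Modules} (h : Good i t I) (P : Xs → Prop) :
    betaS R i hE (nxt i P I) (fun _ => True) = betaS R i hE I (fun _ => True) := by
  obtain ⟨h1, h2, -⟩ := h.step hsq hpure ht P
  unfold betaS beta
  rw [chiQ_true _ h1.tf1, chiQ_true _ h.tf1, h2.euler_eq]

include hr in
theorem dec_of_beta_eq {M M' : Xs.Modules} {Y : Xs → Prop} (hM : TFOne.IsTF1 Xs M)
    (h : IsModif (IsLocalRing.ResidueField R) M M' Y) {hE' : FlatMod.IsFinLocFreeOfRank r ((Scheme.Modules.pullback i).obj E)}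
    (he : beta (IsLocalRing.ResidueField R) hE' M' Y = beta (IsLocalRing.ResidueField R) hE' M Y) :
    Dec (IsLocalRing.ResidueField R) M' Y := by
  refine (h.dec_self_iff _ hM).2 (mul_left_cancel₀ (show (r : ℤ) ≠ 0 by omega) ?_)
  unfold beta at he
  linarith

include hsq hpure ht hr in
/-- From any extension one reaches a semistable special fibre. -/
theorem exists_semistable {I : X.Modules} (h : Good i t I) (hgen : GenSS (R := R) I E r)
    (h0 : betaS R i hE I (fun _ => True) = 0) :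
    ∃ J, Good i t J ∧ GenIso (R := R) I J ∧ SSState R i hE J := by
  classical
  let N : ℕ := {η : Xs | IsGen η}.ncard
  suffices main : ∀ (m : ℕ) (J : X.Modules), Good i t J → GenIso (R := R) I J →
      betaS R i hE J (fun _ => True) = 0 → ∀ Y, (∀ P, betaS R i hE J Y ≤ betaS R i hE J P) →
      (∀ P, betaS R i hE J P = betaS R i hE J Y → ∀ η, IsGen η → P η → Y η) →
      (-betaS R i hE J Y).toNat * (N + 1) + cnt Y = m → ∃ J, Good i t J ∧ GenIso (R := R) I J ∧ SSState R i hE J by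
    obtain ⟨Y, hY, hY'⟩ := exists_maxmin (IsLocalRing.ResidueField R) hpure (isFinLocFreeOfRank_pullback i hE) h.tf1
    exact main _ I h (GenIso.refl I) h0 Y hY hY' rfl
  intro m
  induction m using Nat.strong_induction_on with
  | _ m IH =>
  intro J hJ hg hJ0 Y hmin hmax hm
  by_cases hneg : 0 ≤ betaS R i hE J Y
  · exact ⟨J, hJ, hg, hJ0, fun P => hneg.trans (hmin P)⟩
  let Q : ℕ → Prop := fun n => betaS R i hE (iter i Y J n) (fun _ => True) = 0 ∧
    betaS R i hE (iter i Y J n) Y = betaS R i hE J Y ∧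
    (∀ P, betaS R i hE J Y ≤ betaS R i hE (iter i Y J n) P) ∧
    (∀ P, betaS R i hE (iter i Y J n) P = betaS R i hE J Y → ∀ η, IsGen η → P η → Y η)
  have hstep : ∀ n, Q n → Q (n + 1) ∧ Dec (IsLocalRing.ResidueField R) ((Scheme.Modules.pullback i).obj
      (iter i Y J (n + 1))) Y ∨ ∃ J, Good i t J ∧ GenIso (R := R) I J ∧ SSState R i hE J := by
    rintro n ⟨q0, q1, q2, q3⟩
    obtain ⟨hn, hgn⟩ := hJ.iterate hsq hpure ht Y n
    obtain ⟨hn', hmod, hgn'⟩ := hn.step hsq hpure ht Y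
    have h0' : betaS R i hE (iter i Y J (n + 1)) (fun _ => True) = 0 :=
      (betaS_true_step hsq hpure ht hE hn Y).trans q0
    have hle := fun P => IsModif.min_le _ hpure (isFinLocFreeOfRank_pullback i hE) hmod hn.tf1
      (fun P => le_of_eq_of_le q1 (q2 P)) (fun P hP => q3 P (hP.trans q1)) P
    by_cases he : betaS R i hE (iter i Y J (n + 1)) Y = betaS R i hE J Y
    · exact Or.inl ⟨⟨h0', he, fun P => q1.ge.trans (hle P).1, fun P hP => (hle P).2 (hP.trans q1.symm)⟩,
        dec_of_beta_eq hr hn.tf1 hmod (he.trans q1.symm)⟩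
    · obtain ⟨Y', hY'min, hY'max⟩ := exists_maxmin (IsLocalRing.ResidueField R) hpure (isFinLocFreeOfRank_pullback i hE) hn'.tf1
      refine Or.inr (IH _ ?_ _ hn' (hg.trans (hgn.trans hgn')) h0' Y' hY'min hY'max rfl)
      have h1 : betaS R i hE J Y ≤ betaS R i hE (iter i Y J (n + 1)) Y' := q1.ge.trans (hle Y').1
      have hc : cnt Y' ≤ N := cnt_le Y'
      rw [← hm]
      rcases h1.lt_or_eq with h2 | h2
      · have h3 : (-betaS R i hE (iter i Y J (n + 1)) Y').toNat + 1 ≤ (-betaS R i hE J Y).toNat := by omega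
        calc (-betaS R i hE (iter i Y J (n + 1)) Y').toNat * (N + 1) + cnt Y'
            < ((-betaS R i hE (iter i Y J (n + 1)) Y').toNat + 1) * (N + 1) := by rw [add_one_mul]; omega
          _ ≤ (-betaS R i hE J Y).toNat * (N + 1) := Nat.mul_le_mul_right _ h3
          _ ≤ _ := Nat.le_add_right _ _
      · have hsub : ∀ η, IsGen η → Y' η → Y η := (hle Y').2 (h2.symm.trans q1.symm)
        have hlt : cnt Y' < cnt Y := by
          by_contra hge
          exact he ((beta_congr _ _ hn'.tf1 (eq_of_cnt_le hsub (not_lt.1 hge))).symm.trans h2.symm)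
        show (-betaS R i hE (iter i Y J (n + 1)) Y').toNat * (N + 1) + cnt Y' < _
        rw [← h2]
        exact Nat.add_lt_add_left hlt _
  by_contra hno
  have hQ : ∀ n, Q n := fun n => by
    induction n with
    | zero => exact ⟨hJ0, rfl, hmin, hmax⟩
    | succ n ih => exact ((hstep n ih).resolve_right hno).1
  obtain ⟨hn, hgn⟩ := hJ.iterate hsq hpure ht Y 1
  have hiter : ∀ n, iter i Y (iter i Y J 1) n = iter i Y J (n + 1) := fun n => by
    induction n with
    | zero => rfl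
    | succ n ih => exact congrArg (nxt i Y) ih
  obtain ⟨T, hT, -⟩ := exists_decTower hsq hpure ht hn Y fun n => by
    rw [hiter]
    exact ((hstep n (hQ n)).resolve_right hno).2
  have hT0 : T.In 0 = iter i Y J 1 := congrFun hT 0
  refine T.false_of_ss hsq hpure ht hE (hT0 ▸ hgen.congr (hg.trans hgn)) (hT0 ▸ hn.tf1) ?_ ?_
  · rw [hT0]; exact (hQ 1).1
  · rw [hT0, beta_congr _ _ hn.tf1 (Q := Y) fun η hη => mem_compUnion_gen hη]
    exact (hQ 1).2.1.trans_lt (not_le.1 hneg)

include hsq hpure ht hr in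
/-- From a semistable special fibre one reaches a quasistable one. -/
theorem exists_quasistable {I : X.Modules} (h : Good i t I) (hss : SSState R i hE I)
    (σ : Spec (CommRingCat.of R) ⟶ X) (hσ : σ ≫ (X ↘ Spec (CommRingCat.of R)) = 𝟙 _)
    (hgen : GenQS (R := R) I E σ r) {x : Xs} (hxσ : i x = σ (IsLocalRing.closedPoint R))
    [IsDomain (Xs.presheaf.stalk x)] {η₀ : Xs} (hη₀ : IsGen η₀) (hs : η₀ ⤳ x) :
    ∃ J, Good i t J ∧ GenIso (R := R) I J ∧ SSState R i hE J ∧
      ∀ P, P η₀ → betaS R i hE J P = 0 → ∀ η, IsGen η → P η := by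
  classical
  let N : ℕ := {η : Xs | IsGen η}.ncard
  suffices main : ∀ (m : ℕ) (J : X.Modules), Good i t J → GenIso (R := R) I J → SSState R i hE J →
      ∀ Y, Y η₀ → betaS R i hE J Y = 0 → (∀ P, P η₀ → betaS R i hE J P = 0 → ∀ η, IsGen η → Y η → P η) →
      N - cnt Y = m → ∃ J, Good i t J ∧ GenIso (R := R) I J ∧ SSState R i hE J ∧
        ∀ P, P η₀ → betaS R i hE J P = 0 → ∀ η, IsGen η → P η by
    obtain ⟨Y, hY₀, hY, hYm⟩ := exists_minzero (IsLocalRing.ResidueField R) hpure (isFinLocFreeOfRank_pullback i hE) h.tf1 hss.2 hss.1 hη₀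
    exact main _ I h (GenIso.refl I) hss Y hY₀ hY hYm rfl
  intro m
  induction m using Nat.strong_induction_on with
  | _ m IH =>
  intro J hJ hg hJs Y hY₀ hY hYm hm
  by_cases hall : ∀ η, IsGen η → Y η
  · exact ⟨J, hJ, hg, hJs, fun P hP hb η hη => hYm P hP hb η hη (hall η hη)⟩
  push Not at hall
  let Q : ℕ → Prop := fun n => SSState R i hE (iter i Y J n) ∧ betaS R i hE (iter i Y J n) Y = 0 ∧
    ∀ P, P η₀ → betaS R i hE (iter i Y J n) P = 0 → ∀ η, IsGen η → Y η → P η
  by_contra hno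
  have hstep : ∀ n, Q n → Q (n + 1) ∧ Dec (IsLocalRing.ResidueField R) ((Scheme.Modules.pullback i).obj
      (iter i Y J (n + 1))) Y := by
    rintro n ⟨⟨q0, q1⟩, q2, q3⟩
    obtain ⟨hn, hgn⟩ := hJ.iterate hsq hpure ht Y n
    obtain ⟨hn', hmod, hgn'⟩ := hn.step hsq hpure ht Y
    have hss' : SSState R i hE (iter i Y J (n + 1)) :=
      ⟨(betaS_true_step hsq hpure ht hE hn Y).trans q0,
        fun P => IsModif.nonneg _ (isFinLocFreeOfRank_pullback i hE) hmod q1 q2 P⟩
    have hmono : ∀ P, P η₀ → betaS R i hE (iter i Y J (n + 1)) P = 0 → ∀ η, IsGen η → Y η → P η := fun P hP hb =>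
      IsModif.zero_mono _ (isFinLocFreeOfRank_pullback i hE) hmod q1 q2 hY₀ q3 hP hb
    by_cases he : betaS R i hE (iter i Y J (n + 1)) Y = 0
    · exact ⟨⟨hss', he, hmono⟩, dec_of_beta_eq hr hn.tf1 hmod (he.trans q2.symm)⟩
    · obtain ⟨Y', hY'₀, hY', hY'm⟩ :=
        exists_minzero (IsLocalRing.ResidueField R) hpure (isFinLocFreeOfRank_pullback i hE) hn'.tf1 hss'.2 hss'.1 hη₀
      refine absurd (IH _ ?_ _ hn' (hg.trans (hgn.trans hgn')) hss' Y' hY'₀ hY' hY'm rfl) hno
      have hsub : ∀ η, IsGen η → Y η → Y' η := hmono Y' hY'₀ hY'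
      have hlt : cnt Y < cnt Y' := by
        by_contra hge
        exact he ((beta_congr _ _ hn'.tf1 (eq_of_cnt_le hsub (not_lt.1 hge))).trans hY')
      have hc : cnt Y' ≤ N := cnt_le Y'
      omega
  have hQ : ∀ n, Q n := fun n => by
    induction n with
    | zero => exact ⟨hJs, hY, hYm⟩
    | succ n ih => exact (hstep n ih).1
  obtain ⟨hn, hgn⟩ := hJ.iterate hsq hpure ht Y 1
  have hiter : ∀ n, iter i Y (iter i Y J 1) n = iter i Y J (n + 1) := fun n => by
    induction n with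
    | zero => rfl
    | succ n ih => exact congrArg (nxt i Y) ih
  obtain ⟨T, hT, -⟩ := exists_decTower hsq hpure ht hn Y fun n => by
    rw [hiter]
    exact (hstep n (hQ n)).2
  have hT0 : T.In 0 = iter i Y J 1 := congrFun hT 0
  obtain ⟨η, hη, hηY⟩ := hall
  refine T.false_of_qs hsq hpure ht hE σ hσ (hT0 ▸ hgen.congr (hg.trans hgn)) hxσ
    ⟨η₀, hη₀, hY₀, hs⟩ ⟨η, hη, fun hh => hηY ((mem_compUnion_gen hη).1 hh)⟩ (hT0 ▸ hn.tf1) ?_
  rw [hT0, beta_congr _ _ hn.tf1 (Q := Y) fun η hη => mem_compUnion_gen hη]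
  exact (hQ 1).2.1.le

include hsq hpure ht in
/-- From any extension one reaches an indecomposable special fibre, keeping an invariant stable under
decomposing steps. -/
theorem exists_indecomposable (S : X.Modules → Prop)
    (hS : ∀ J P, Good i t J → S J → Dec (IsLocalRing.ResidueField R) ((Scheme.Modules.pullback i).obj J) P →
      S (nxt i P J))
    {I : X.Modules} (h : Good i t I) (hSI : S I) (hgen : GenSimple (R := R) I) :
    ∃ J, Good i t J ∧ GenIso (R := R) I J ∧ S J ∧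
      ∀ P, Dec (IsLocalRing.ResidueField R) ((Scheme.Modules.pullback i).obj J) P →
        (∀ η, IsGen η → P η) ∨ ∀ η, IsGen η → ¬ P η := by
  classical
  let T₀ : Finset (Set Xs) := (finite_isGen (X := Xs)).finite_subsets.toFinset
  let sel : (Xs → Prop) → Set Xs := fun P => {η | IsGen η ∧ P η}
  have hmem : ∀ P, sel P ∈ T₀ := fun P => (Set.Finite.mem_toFinset _).2 fun _ h => h.1
  let D : X.Modules → Finset (Set Xs) := fun J =>
    T₀.filter fun s => Dec (IsLocalRing.ResidueField R) ((Scheme.Modules.pullback i).obj J) (· ∈ s)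
  have hDmem : ∀ {J}, Good i t J → ∀ P, sel P ∈ D J ↔
      Dec (IsLocalRing.ResidueField R) ((Scheme.Modules.pullback i).obj J) P := fun {J} hJ P => by
    have hc : ∀ η, IsGen η → (η ∈ sel P ↔ P η) := fun η hη => ⟨fun h => h.2, fun h => ⟨hη, h⟩⟩
    rw [Finset.mem_filter]
    exact ⟨fun hh => Dec.congr _ hJ.tf1 hc hh.2,
      fun hh => ⟨hmem P, Dec.congr _ hJ.tf1 (fun η hη => (hc η hη).symm) hh⟩⟩
  suffices main : ∀ (m : ℕ) (J : X.Modules), Good i t J → GenIso (R := R) I J → S J → (D J).card = m →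
      ∃ J, Good i t J ∧ GenIso (R := R) I J ∧ S J ∧
        ∀ P, Dec (IsLocalRing.ResidueField R) ((Scheme.Modules.pullback i).obj J) P →
          (∀ η, IsGen η → P η) ∨ ∀ η, IsGen η → ¬ P η from main _ I h (GenIso.refl I) hSI rfl
  intro m
  induction m using Nat.strong_induction_on with
  | _ m IH =>
  intro J hJ hg hSJ hm
  by_contra hno
  push Not at hno
  obtain ⟨P, hP, ⟨a, ha, haP⟩, ⟨b, hb, hbP⟩⟩ := hno J hJ hg hSJ
  have side : ∀ Q : Xs → Prop, Dec (IsLocalRing.ResidueField R) ((Scheme.Modules.pullback i).obj J) Q →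
      ∀ n, Dec (IsLocalRing.ResidueField R) ((Scheme.Modules.pullback i).obj (iter i Q J n)) Q ∧
        S (iter i Q J n) ∧ D (iter i Q J n) ⊆ D J := by
    intro Q hQ n
    induction n with
    | zero => exact ⟨hQ, hSJ, Finset.Subset.refl _⟩
    | succ n ih =>
      obtain ⟨hn, hgn⟩ := hJ.iterate hsq hpure ht Q n
      obtain ⟨hn', hmod, hgn'⟩ := hn.step hsq hpure ht Q
      have hsub : D (iter i Q J (n + 1)) ⊆ D J := fun s hs => ih.2.2 (Finset.mem_filter.2
        ⟨(Finset.mem_filter.1 hs).1, IsModif.dec_mono _ hpure hmod hn.tf1 ih.1 (Finset.mem_filter.1 hs).2⟩)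
      refine ⟨?_, hS _ _ hn ih.2.1 ih.1, hsub⟩
      by_contra hd
      obtain ⟨J', hJ', hg', hS', hprop⟩ := IH _ (hm ▸ Finset.card_lt_card (Finset.ssubset_iff_subset_ne.2
        ⟨hsub, fun he => hd ((hDmem hn' Q).1 (he.symm ▸ (hDmem hJ Q).2 hQ))⟩)) _ hn'
          (hg.trans (hgn.trans hgn')) (hS _ _ hn ih.2.1 ih.1) rfl
      obtain ⟨P', hP', ⟨a', ha', haP'⟩, ⟨b', hb', hbP'⟩⟩ := hno J' hJ' hg' hS'
      rcases hprop P' hP' with h1 | h1
      · exact haP' (h1 a' ha')
      · exact h1 b' hb' hbP'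
  haveI := isNoetherian_total (X ↘ Spec (CommRingCat.of R))
  obtain ⟨T, hT, hTπ⟩ := exists_decTower hsq hpure ht hJ P fun n => (side P hP n).1
  obtain ⟨T', hT', hTπ'⟩ := exists_decTower hsq hpure ht hJ (fun η => ¬ P η)
    fun n => (side _ (Dec.compl _ hJ.tf1 hP) n).1
  obtain ⟨In, a₁, u₁, au₁, ua₁, c₁, m₁, G₁, G₁', π₁, π₁', q₁, q₁', ap₁, d₁, dd₁, dj₁⟩ := T
  obtain ⟨In', a₂, u₂, au₂, ua₂, c₂, m₂, G₂, G₂', π₂, π₂', q₂, q₂', ap₂, d₂, dd₂, dj₂⟩ := T'
  subst hT
  subst hT'
  let T : DecTower (R := R) i t _ _ :=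
    ⟨_, a₁, u₁, au₁, ua₁, c₁, m₁, G₁, G₁', π₁, π₁', q₁, q₁', ap₁, d₁, dd₁, dj₁⟩
  let T' : DecTower (R := R) i t _ _ :=
    ⟨_, a₂, u₂, au₂, ua₂, c₂, m₂, G₂, G₂', π₂, π₂', q₂, q₂', ap₂, d₂, dd₂, dj₂⟩
  haveI : IsIso (biprod.lift (T.π 0) ((Scheme.Modules.pullback i).map (Iso.refl J).hom ≫ T'.π 0)) := by
    refine (isIso_lift_iff (IsLocalRing.ResidueField R) hpure hJ.tf1 (P := P) (T.isQuot 0) ?_
      (fun η hη => mem_compUnion_gen hη) fun η hη => mem_compUnion_gen hη).2 ?_
    · exact isQuotOn_source_iso ((Scheme.Modules.pullback i).mapIso (Iso.refl J)) (T'.isQuot 0)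
    · rw [← chiQ_true (IsLocalRing.ResidueField R) hJ.tf1]
      exact hP
  exact T.false_of_simple hsq hpure ht T' (Iso.refl J) ⟨b, hb, (mem_compUnion_gen hb).2 hbP⟩
    ⟨a, ha, (mem_compUnion_gen ha).2 haP⟩ (hgen.congr hg) hJ.tf1

end Groth.Agent.BunLib68.TF
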