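import Groth.Agent.BunLib68.TF.Modif
import Groth.Agent.KFlatLib.Perfect.LocFree

/-!
# The function `β` on sets of components and its behaviour under modification
-/

set_option autoImplicit false
set_option backward.isDefEq.respectTransparency false
set_option backward.isDefEq.respectTransparency.types false
set_option linter.style.haveILetI false
set_option linter.unusedSectionVars false
set_option linter.overlappingInstances false

universe u

open CategoryTheory CategoryTheory.Limits AlgebraicGeometry TopologicalSpace Opposite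

noncomputable section

namespace Groth.Agent.BunLib68.TF

theorem isFinLocFreeOfRank_pullback {X Y : Scheme.{u}} (f : X ⟶ Y) {M : Y.Modules} {r : ℕ}
    (hM : FlatMod.IsFinLocFreeOfRank r M) :
    FlatMod.IsFinLocFreeOfRank r ((Scheme.Modules.pullback f).obj M) := fun x => by
  obtain ⟨U, hx, ⟨e⟩⟩ := hM (f.base x)
  exact ⟨f ⁻¹ᵁ U, hx, ⟨((H23.PullPush.pullRestrictIso f U).app M).symm ≪≫
    (Scheme.Modules.pullback (f ∣_ U)).mapIso e ≪≫ KFlatLib.pullFreeIso _ r⟩⟩

variable {X : Scheme.{u}} (k : Type u) [Field k] [X.Over (Spec (CommRingCat.of k))]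
  [IsProper (X ↘ Spec (CommRingCat.of k))] [IsReduced X] [IsNoetherian X]
  (hpure : ∀ C ∈ irreducibleComponents (X : Type u), topologicalKrullDim C = 1)
  {E : X.Modules} {r : ℕ} (hE : FlatMod.IsFinLocFreeOfRank r E) {M M' : X.Modules}

/-- The number `β` of a sheaf on the components selected by `P`. -/
def beta (M : X.Modules) (P : X → Prop) : ℤ := (r : ℤ) * chiQ k M P + dsum k hE P

theorem beta_congr (hM : TFOne.IsTF1 X M) {P Q : X → Prop} (h : ∀ η, IsGen η → (P η ↔ Q η)) :
    beta k hE M P = beta k hE M Q := by rw [beta, beta, chiQ_congr k hM h, dsum_congr k hE h]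

include hpure in
theorem rBeta_eq_beta (hM : TFOne.IsTF1 X M) {Z Z' : Set X} {G : X.Modules} {π : M ⟶ G}
    (hG : TFOne.IsQuotOn X M Z G π) (hZ' : IsClosed Z') (h : Z' = Z) {P : X → Prop}
    (hP : ∀ η, IsGen η → (η ∈ Z ↔ P η)) :
    TFOne.rBeta X k (X ↘ Spec (CommRingCat.of k)) Z' hZ' E r G = beta k hE M P := by
  subst h
  rw [rBeta_eq k hpure hE, euler_eq_chiQ k hM hG hP, dsum_congr k hE hP]
  rfl

include hpure in
theorem beta_true (hM : TFOne.IsTF1 X M) {d : ℤ} (hd : Curv2.euler k X M = d)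
    (hEd : Curv2.deg k X E r = -(r : ℤ) * d) : beta k hE M (fun _ => True) = 0 := by
  rw [beta, chiQ_true k hM, hd, ← deg_eq_dsum k hpure hE, hEd]
  ring

include hpure in
theorem beta_univ (hM : TFOne.IsTF1 X M) {d : ℤ} (hd : Curv2.euler k X M = d)
    (hEd : Curv2.deg k X E r = -(r : ℤ) * d) {P : X → Prop} (hP : ∀ η, IsGen η → P η) : beta k hE M P = 0 :=
  (beta_congr k hE hM fun η hη => iff_of_true (hP η hη) trivial).trans (beta_true k hpure hE hM hd hEd)

theorem beta_empty (hM : TFOne.IsTF1 X M) {P : X → Prop} (hP : ∀ η, IsGen η → ¬ P η) : beta k hE M P = 0 := by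
  rw [beta_congr k hE hM (Q := fun _ => False) fun η hη => iff_of_false (hP η hη) not_false, beta,
    chiQ_false k hM, dsum_false k hE]
  simp

variable {Y : X → Prop}

theorem IsModif.beta_le (h : IsModif k M M' Y) (P : X → Prop) :
    beta k hE M (fun η => P η ∧ Y η) + beta k hE M (fun η => P η ∨ Y η) ≤ beta k hE M' P + beta k hE M Y := by
  have h1 := mul_le_mul_of_nonneg_left (h.le P) (show (0 : ℤ) ≤ r from Int.natCast_nonneg r)
  have h2 := dsum_add k hE P Y
  unfold beta
  linarith

theorem IsModif.beta_eq_iff (h : IsModif k M M' Y) (hr : 0 < r) (P : X → Prop) :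
    beta k hE M (fun η => P η ∧ Y η) + beta k hE M (fun η => P η ∨ Y η) = beta k hE M' P + beta k hE M Y ↔
      chiQ k M' P = chiQ k M (fun η => P η ∧ Y η) + chiQ k M (fun η => P η ∨ Y η) - chiQ k M Y := by
  have h2 := dsum_add k hE P Y
  unfold beta
  constructor
  · intro h1
    have h3 : (r : ℤ) * chiQ k M' P =
        (r : ℤ) * (chiQ k M (fun η => P η ∧ Y η) + chiQ k M (fun η => P η ∨ Y η) - chiQ k M Y) := by linarith
    exact mul_left_cancel₀ (by positivity) h3
  · intro h1
    rw [h1]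
    linarith

theorem isProper_fibre {R : Type u} [CommRing R] [IsLocalRing R] {X' Xs : Scheme.{u}}
    {f : X' ⟶ Spec (CommRingCat.of R)} [IsProper f] {i : Xs ⟶ X'}
    {q : Xs ⟶ Spec (CommRingCat.of (IsLocalRing.ResidueField R))}
    (hsq : IsPullback i q f (Spec.map (CommRingCat.ofHom (IsLocalRing.residue R)))) : IsProper q :=
  MorphismProperty.of_isPullback hsq inferInstance

theorem mem_sUnion_sub [IsReduced X] {η : X} (hη : IsGen η) {Y Z W : Set X} (hY : IsClosed Y) (hZ : IsClosed Z)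
    (hW : W = ⋃₀ {C | C ∈ irreducibleComponents (X : Type u) ∧ C ⊆ Y ∩ Z}) : η ∈ W ↔ η ∈ Z ∧ η ∈ Y := by
  rw [hW, sUnion_components_eq, mem_compUnion_gen hη, mem_iff_closure_subset hY, mem_iff_closure_subset hZ,
    Set.subset_inter_iff]
  exact And.comm

theorem mem_sUnion_not {η : X} (hη : IsGen η) {Y Y' : Set X} (hY : IsClosed Y)
    (hY' : Y' = ⋃₀ {C | C ∈ irreducibleComponents (X : Type u) ∧ ¬ C ⊆ Y}) : η ∈ Y' ↔ η ∉ Y := by
  rw [hY', sUnion_components_eq, mem_compUnion_gen hη, mem_iff_closure_subset hY]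

/-- A set of components has non-negative `β` when the sheaf is semistable. -/
theorem beta_nonneg_of_ss (hpure : ∀ C ∈ irreducibleComponents (X : Type u), topologicalKrullDim C = 1)
    {d : ℤ} (hd : Curv2.euler k X M = d) (hEd : Curv2.deg k X E r = -(r : ℤ) * d)
    (hss : TFOne.IsSemistable X k (X ↘ Spec (CommRingCat.of k)) M E r) (P : X → Prop) : 0 ≤ beta k hE M P := by
  by_cases h1 : ∀ η, IsGen η → ¬ P η
  · rw [beta_empty k hE hss.1 h1]
  by_cases h2 : ∀ η, IsGen η → P η
  · rw [beta_univ k hpure hE hss.1 hd hEd h2]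
  push Not at h1 h2
  obtain ⟨η, hη, hP⟩ := h1
  obtain ⟨ξ, hξ, hn⟩ := h2
  have hQ := isQuotOn_quotM hss.1 P
  have := hss.2 (compUnion P) (isClosed_compUnion P) (isSubcurve_compUnion hη hP)
    (fun hu => hn ((mem_compUnion_gen hξ).1 (hu.ge (Set.mem_univ ξ)))) _ _ hQ
  rwa [rBeta_eq_beta k hpure hE hss.1 hQ _ rfl fun η hη => mem_compUnion_gen hη] at this

end Groth.Agent.BunLib68.TF
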