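import Groth.Agent.BunLib68.TF.Fibre
import Groth.Agent.CurveCohLib.Euler
import Groth.Agent.QCoh.PushLin
import Groth.Agent.QCoh.FlatBC
import Groth.Agent.S0616
import Groth.Agent.DvrTorsion.Basic
import Groth.Agent.S0002

/-!
# The Euler characteristic is the same on the two fibres of a flat family over a discrete valuation ring
-/

set_option autoImplicit false
set_option backward.isDefEq.respectTransparency false
set_option backward.isDefEq.respectTransparency.types false
set_option linter.style.haveILetI false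
set_option linter.unusedSectionVars false
set_option linter.overlappingInstances false

universe u

open CategoryTheory CategoryTheory.Limits AlgebraicGeometry TopologicalSpace Opposite
open Groth.Agent.PnCoh.Finite (mapLin deltaLin)
open scoped TensorProduct Pointwise

noncomputable section

namespace Groth.Agent.BunLib68.TF

variable {R : Type u} [CommRing R] [IsDomain R] [IsDiscreteValuationRing R]

/-- Cotorsion minus torsion is the generic rank. -/
theorem length_quot_smul_eq_add_finrank {t : R} (ht : Irreducible t) (Ω : Type u) [Field Ω] [Algebra R Ω]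
    (hΩ : Function.Injective (algebraMap R Ω)) (M : Type u) [AddCommGroup M] [Module R M] [Module.Finite R M] :
    Module.length R (M ⧸ LinearMap.range (LinearMap.lsmul R M t)) =
      Module.length R (LinearMap.ker (LinearMap.lsmul R M t)) + (Module.finrank Ω (Ω ⊗[R] M) : ℕ∞) := by
  classical
  have hdim : ringKrullDim R = 1 := IsPrincipalIdealRing.ringKrullDim_eq_one _ (IsDiscreteValuationRing.not_isField R)
  have hmin : minimalPrimes R = {(⊥ : Ideal R)} := IsDomain.minimalPrimes_eq_singleton_bot R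
  have h := Groth.Agent.S0616.result hdim M t (fun p hp => by
    rw [hmin, Set.mem_singleton_iff] at hp
    subst hp
    exact fun h => ht.ne_zero ((Submodule.mem_bot R).1 h))
  let p₀ : PrimeSpectrum R := ⟨⊥, Ideal.isPrime_bot⟩
  rw [show t • (⊤ : Submodule R M) = LinearMap.range (LinearMap.lsmul R M t) by
    ext x
    constructor
    · rintro ⟨y, -, rfl⟩; exact ⟨y, rfl⟩
    · rintro ⟨y, rfl⟩; exact ⟨y, trivial, rfl⟩] at h
  rw [h]
  congr 1
  rw [finsum_eq_single _ p₀ fun p hp => by
    rw [finsum_eq_if, if_neg fun hh => hp (PrimeSpectrum.ext (by rw [hmin, Set.mem_singleton_iff] at hh; exact hh))]]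
  rw [finsum_eq_if, if_pos (show p₀.asIdeal ∈ minimalPrimes R by rw [hmin]; rfl)]
  let K₀ := Localization.AtPrime p₀.asIdeal
  have hS : p₀.asIdeal.primeCompl = nonZeroDivisors R := by
    ext x
    rw [mem_nonZeroDivisors_iff_ne_zero]
    show x ∉ (⊥ : Ideal R) ↔ _
    rw [Submodule.mem_bot]
  haveI : IsFractionRing R K₀ :=
    (hS ▸ (inferInstance : IsLocalization p₀.asIdeal.primeCompl K₀) : IsLocalization (nonZeroDivisors R) K₀)
  haveI : IsDomain K₀ := IsFractionRing.isDomain R
  letI : Field K₀ := (IsFractionRing.toField R : Field K₀)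
  let ψ : K₀ →+* Ω := IsLocalization.lift (M := nonZeroDivisors R) (g := algebraMap R Ω) fun y =>
    isUnit_iff_ne_zero.2 fun h0 => nonZeroDivisors.coe_ne_zero y (hΩ (h0.trans (map_zero _).symm))
  letI : Algebra K₀ Ω := ψ.toAlgebra
  haveI : IsScalarTower R K₀ Ω :=
    IsScalarTower.of_algebraMap_eq fun r => (IsLocalization.lift_eq (g := algebraMap R Ω) _ r).symm
  have e1 : Module.length R (R ⧸ (p₀.asIdeal ⊔ Ideal.span {t})) = 1 := by
    show Module.length R (R ⧸ ((⊥ : Ideal R) ⊔ Ideal.span {t})) = 1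
    rw [bot_sup_eq, ← ht.maximalIdeal_eq, Module.length_eq_one_iff, isSimpleModule_iff_isCoatom]
    exact (IsLocalRing.maximalIdeal.isMaximal R).out
  let e : LocalizedModule p₀.asIdeal.primeCompl M ≃ₗ[K₀] K₀ ⊗[R] M :=
    LocalizedModule.equivTensorProduct p₀.asIdeal.primeCompl M
  haveI : Module.Finite K₀ (LocalizedModule p₀.asIdeal.primeCompl M) := Module.Finite.equiv e.symm
  haveI : Module.Free K₀ (K₀ ⊗[R] M) := Module.Free.of_divisionRing _ _
  rw [e1, mul_one, Module.length_eq_finrank, e.finrank_eq,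
    ← (TensorProduct.AlgebraTensorModule.cancelBaseChange R K₀ Ω Ω M).finrank_eq,
    Module.finrank_baseChange (R := Ω) (S := K₀) (M' := K₀ ⊗[R] M)]

variable {X : Scheme.{u}} [X.Over (Spec (CommRingCat.of R))] [IsProper (X ↘ Spec (CommRingCat.of R))]
  {Xs : Scheme.{u}} [Xs.Over (Spec (CommRingCat.of (IsLocalRing.ResidueField R)))] {i : Xs ⟶ X}
  (hsq : IsPullback i (Xs ↘ Spec (CommRingCat.of (IsLocalRing.ResidueField R))) (X ↘ Spec (CommRingCat.of R))
    (Spec.map (CommRingCat.ofHom (IsLocalRing.residue R))))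
  (Ω : Type u) [Field Ω] [Algebra R Ω]
  {XΩ : Scheme.{u}} [XΩ.Over (Spec (CommRingCat.of Ω))] {φ : XΩ ⟶ X}
  (hφ : IsPullback φ (XΩ ↘ Spec (CommRingCat.of Ω)) (X ↘ Spec (CommRingCat.of R))
    (Spec.map (CommRingCat.ofHom (algebraMap R Ω))))

include hsq hφ in
/-- The two fibres of a flat module over a discrete valuation ring have the same Euler characteristic. -/
theorem euler_fibre_eq {t : R} (ht : Irreducible t) (hΩ : Function.Injective (algebraMap R Ω))
    {F : X.Modules} (hF : Coh.IsCoh F) [Mono (Formal.smulMod R F t)] :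
    Curv2.euler Ω XΩ ((Scheme.Modules.pullback φ).obj F) =
      Curv2.euler (IsLocalRing.ResidueField R) Xs ((Scheme.Modules.pullback i).obj F) := by
  haveI := isClosedImmersion_fibre hsq
  haveI : CompactSpace X := QuasiCompact.compactSpace_of_compactSpace (X ↘ Spec (CommRingCat.of R))
  haveI : QuasiSeparatedSpace X := quasiSeparatedSpace_of_quasiSeparated (X ↘ Spec (CommRingCat.of R))
  haveI : IsNoetherian X := {
    toIsLocallyNoetherian := LocallyOfFiniteType.isLocallyNoetherian (X ↘ Spec (CommRingCat.of R)) }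
  haveI : Module.Flat R Ω := Module.Flat.flat_iff_torsion_eq_bot_of_isBezout.2 (eq_bot_iff.2 (by
    rintro v ⟨⟨a, ha⟩, hav⟩
    have h0 : algebraMap R Ω a * v = 0 := (Algebra.smul_def a v).symm.trans hav
    exact (mul_eq_zero.1 h0).resolve_left fun hh =>
      nonZeroDivisors.ne_zero ha (hΩ (hh.trans (map_zero _).symm))))
  obtain ⟨htη, hex, hepi⟩ := fibre_exact hsq ht hF.1
  let S : ShortComplex X.Modules := ShortComplex.mk _ _ htη
  haveI : Mono S.f := inferInstanceAs (Mono (Formal.smulMod R F t))
  haveI : Epi S.g := hepi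
  have hS : S.ShortExact := { exact := hex }
  let Fs := (Scheme.Modules.pullback i).obj F
  have hFs : Coh.IsQCoh Fs := QCoh.isQCoh_pullback i hF.1
  let C : X.Modules := (Scheme.Modules.pushforward i).obj Fs
  let c : ℕ → ℕ := fun n => (Module.length R
    (Coh.HH X F n ⧸ LinearMap.range (LinearMap.lsmul R (Coh.HH X F n) t))).toNat
  let k : ℕ → ℕ := fun n => (Module.length R (LinearMap.ker (LinearMap.lsmul R (Coh.HH X F n) t))).toNat
  let ρ : ℕ → ℕ := fun n => Module.finrank Ω (Coh.HH XΩ ((Scheme.Modules.pullback φ).obj F) n)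
  haveI hfin : ∀ n, Module.Finite R (Coh.HH X F n) := fun n => Groth.Agent.S0002.result R X F hF n
  have hkne : ∀ n, Module.length R (LinearMap.ker (LinearMap.lsmul R (Coh.HH X F n) t)) ≠ ⊤ := fun n => by
    haveI : Module.Finite R (LinearMap.ker (LinearMap.lsmul R (Coh.HH X F n) t)) :=
      Module.Finite.iff_fg.2 (IsNoetherian.noetherian _)
    refine Module.length_ne_top_iff.2 (DvrTorsion.isFiniteLength ht 1 fun x => ?_)
    rw [pow_one]
    exact Subtype.ext x.2
  have hcne : ∀ n, Module.length R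
      (Coh.HH X F n ⧸ LinearMap.range (LinearMap.lsmul R (Coh.HH X F n) t)) ≠ ⊤ := fun n => by
    refine Module.length_ne_top_iff.2 (DvrTorsion.isFiniteLength ht 1 fun x => ?_)
    obtain ⟨x, rfl⟩ := Submodule.mkQ_surjective _ x
    rw [pow_one, ← map_smul]
    exact (Submodule.Quotient.mk_eq_zero _).2 ⟨x, rfl⟩
  have hρ : ∀ n, c n = k n + ρ n := fun n => by
    obtain ⟨e⟩ := QCoh.HH_flatBaseChange (A := R) (B := Ω) hφ hF.1 n
    have h := length_quot_smul_eq_add_finrank ht Ω hΩ (Coh.HH X F n)
    have he : Module.finrank Ω (Ω ⊗[R] Coh.HH X F n) = ρ n := e.finrank_eq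
    rw [he] at h
    show (Module.length R _).toNat = _
    rw [h, ENat.toNat_add (hkne n) (ENat.coe_ne_top _), ENat.toNat_coe]
  have hσ : ∀ n, Module.finrank (IsLocalRing.ResidueField R) (Coh.HH Xs Fs n) = c n + k (n + 1) := fun n => by
    let ρ' : R →+* Coh.Γtop Xs :=
      (Coh.toGlobal (Xs ↘ Spec (CommRingCat.of (IsLocalRing.ResidueField R)))).comp (IsLocalRing.residue R)
    letI := QCoh.modHH ρ' Fs n
    obtain ⟨e⟩ := QCoh.HH_push_linear i (A := R) (Coh.toGlobal (X ↘ Spec (CommRingCat.of R))) ρ'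
      (fun a => show Coh.toGlobal (Xs ↘ Spec (CommRingCat.of (IsLocalRing.ResidueField R)))
        (algebraMap R (IsLocalRing.ResidueField R) a) = _ from (QCoh.toGlobal_comm (X ↘ Spec (CommRingCat.of R))
        (Xs ↘ Spec (CommRingCat.of (IsLocalRing.ResidueField R))) i hsq.w a)) hFs n
    haveI : IsScalarTower R (IsLocalRing.ResidueField R) (Coh.HH Xs Fs n) :=
      IsScalarTower.of_algebraMap_smul fun r x => rfl
    haveI : Module.Finite (IsLocalRing.ResidueField R) (Coh.HH Xs Fs n) := by
      haveI : IsProper (Xs ↘ Spec (CommRingCat.of (IsLocalRing.ResidueField R))) :=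
        MorphismProperty.of_isPullback hsq (inferInstanceAs (IsProper (X ↘ Spec (CommRingCat.of R))))
      exact Groth.Agent.S0002.result _ Xs Fs (KZ.ClosedDev.isCoh_pull i hF) n
    have h1 : Module.length R (Coh.HH Xs Fs n) =
        (Module.finrank (IsLocalRing.ResidueField R) (Coh.HH Xs Fs n) : ℕ∞) := by
      rw [Module.length_eq_of_surjective (S := R) (R := IsLocalRing.ResidueField R)
        IsLocalRing.residue_surjective, Module.length_eq_finrank]
    have hf : ∀ m, mapLin R S.f m = LinearMap.lsmul R (Coh.HH X F m) t := fun m =>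
      LinearMap.ext fun x => FFun.mapLin_smulMod R F t m x
    have e1 : (Coh.HH X F n ⧸ LinearMap.range (LinearMap.lsmul R (Coh.HH X F n) t)) ≃ₗ[R]
        LinearMap.range (mapLin R S.g n) :=
      (Submodule.quotEquivOfEq _ _ (by rw [CurveCohLib.ker_mapLin_g R hS n, hf])).trans
        (mapLin R S.g n).quotKerEquivRange
    have e2 : LinearMap.range (deltaLin R hS n) ≃ₗ[R] LinearMap.ker (LinearMap.lsmul R (Coh.HH X F (n + 1)) t) :=
      LinearEquiv.ofEq _ _ (by rw [← CurveCohLib.ker_mapLin_f_succ R hS n, hf])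
    have h2 := Module.length_eq_add_of_exact (LinearMap.ker (deltaLin R hS n)).subtype
      (deltaLin R hS n).rangeRestrict (Submodule.subtype_injective _) (LinearMap.surjective_rangeRestrict _)
      (by rw [LinearMap.exact_iff, LinearMap.ker_rangeRestrict, Submodule.range_subtype])
    rw [(LinearEquiv.ofEq _ _ (CurveCohLib.ker_deltaLin R hS n)).length_eq, ← e1.length_eq, e2.length_eq] at h2
    have h3 : Module.length R (Coh.HH Xs Fs n) = Module.length R (Coh.HH X S.X₃ n) := e.length_eq
    rw [h1, h2] at h3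
    show _ = (Module.length R _).toNat + (Module.length R _).toNat
    rw [← ENat.toNat_add (hcne n) (hkne (n + 1)), ← h3, ENat.toNat_coe]
  have hk0 : k 0 = 0 := by
    show (Module.length R _).toNat = 0
    haveI : Subsingleton (LinearMap.ker (LinearMap.lsmul R (Coh.HH X F 0) t)) := by
      rw [Submodule.subsingleton_iff_eq_bot, LinearMap.ker_eq_bot]
      intro x y hxy
      exact CurveCohLib.mapLin_f_zero_injective R hS
        ((FFun.mapLin_smulMod R F t 0 x).trans (hxy.trans (FFun.mapLin_smulMod R F t 0 y).symm))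
    rw [Module.length_eq_zero]
    rfl
  obtain ⟨N, hN⟩ := QCoh.exists_HH_bound (X := X)
  have hkN : ∀ j, N ≤ j → k j = 0 ∧ c j = 0 := fun j hj => by
    haveI : Subsingleton (Coh.HH X F j) := hN F hF.1 j hj
    constructor
    · show (Module.length R _).toNat = 0
      rw [Module.length_eq_zero]; rfl
    · show (Module.length R _).toNat = 0
      haveI : Subsingleton (Coh.HH X F j ⧸ LinearMap.range (LinearMap.lsmul R (Coh.HH X F j) t)) :=
        (Submodule.mkQ_surjective _).subsingleton
      rw [Module.length_eq_zero]; rfl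
  have hρN : ∀ j, N ≤ j → ρ j = 0 := fun j hj => by
    obtain ⟨h1, h2⟩ := hkN j hj
    have := hρ j
    omega
  have hσN : ∀ j, N ≤ j → Module.finrank (IsLocalRing.ResidueField R) (Coh.HH Xs Fs j) = 0 := fun j hj => by
    rw [hσ j, (hkN j hj).2, (hkN (j + 1) (by omega)).1]
  have key : ∀ (a : ℕ → ℕ), (∀ j, N ≤ j → a j = 0) →
      (∑ᶠ j : ℕ, (-1 : ℤ) ^ j * (a j : ℤ)) = ∑ j ∈ Finset.range N, (-1 : ℤ) ^ j * (a j : ℤ) := fun a ha => by
    refine finsum_eq_sum_of_support_subset _ fun j hj => ?_
    by_contra hN'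
    exact hj (by simp [ha j (by simpa using hN')])
  unfold Curv2.euler
  rw [key ρ hρN, key _ hσN]
  have tele : ∀ M : ℕ, ∑ j ∈ Finset.range M, (-1 : ℤ) ^ j * ((c j : ℤ) + k (j + 1) - ρ j) =
      k 0 - (-1) ^ M * k M := by
    intro M
    induction M with
    | zero => simp
    | succ M ih =>
      rw [Finset.sum_range_succ, ih, hρ M, pow_succ]
      push_cast
      ring
  have := tele N
  simp only [hk0, (hkN N le_rfl).1, CharP.cast_eq_zero, mul_zero, sub_zero, mul_sub, Finset.sum_sub_distrib,
    sub_eq_zero] at this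
  rw [← this]
  refine Finset.sum_congr rfl fun j _ => ?_
  rw [hσ j]
  push_cast
  rfl

end Groth.Agent.BunLib68.TF
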