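import Groth.Agent.BunLib68.TF.Gen
import Groth.Agent.ZClosLib.Basic
import Groth.Agent.QCoh.Qcqs
import Groth.Agent.QCoh.Local
import Groth.Agent.Lib.CurveSlope

/-!
# Torsion-free quotients of rank one sheaves on subcurves
-/

set_option autoImplicit false
set_option backward.isDefEq.respectTransparency false
set_option backward.isDefEq.respectTransparency.types false
set_option linter.style.haveILetI false
set_option linter.unusedSectionVars false
set_option linter.overlappingInstances false

universe u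

open CategoryTheory CategoryTheory.Limits AlgebraicGeometry TopologicalSpace Opposite

noncomputable section

namespace Groth.Agent.BunLib68.TF

variable {X : Scheme.{u}} {M G G' H : X.Modules} {Z Z' : Set X}

theorem IsTF1.exists_smul_eq (hM : TFOne.IsRkOne X M) [IsReduced X] {η : X} (hη : IsGen η)
    {v : M.presheaf.stalk η} (hv : v ≠ 0) (w : M.presheaf.stalk η) : ∃ a : X.presheaf.stalk η, a • v = w := by
  obtain ⟨e⟩ := hM η hη.mem_genericPoints
  have h0 : e v ≠ 0 := fun h => hv (e.injective (h.trans (map_zero e).symm))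
  obtain ⟨b, hb⟩ := hη.mul_inv_cancel h0
  refine ⟨e w * b, e.injective ?_⟩
  rw [map_smul, smul_eq_mul, mul_assoc, mul_comm b, hb, mul_one]

theorem nontrivial_stalk (hM : TFOne.IsRkOne X M) {η : X} (hη : IsGen η) : Nontrivial (M.presheaf.stalk η) := by
  obtain ⟨e⟩ := hM η hη.mem_genericPoints
  haveI := hη.nontrivial
  exact e.toEquiv.nontrivial

theorem quot_subsingleton {π : M ⟶ G} (hG : TFOne.IsQuotOn X M Z G π) {x : X} (hx : x ∉ Z) :
    Subsingleton (G.presheaf.stalk x) := by
  rw [← hG.2.2.2] at hx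
  exact not_not.1 hx

theorem quot_injective [IsReduced X] (hM : TFOne.IsRkOne X M) {π : M ⟶ G} (hG : TFOne.IsQuotOn X M Z G π)
    {η : X} (hη : IsGen η) (hZ : η ∈ Z) {v : M.presheaf.stalk η} (hv : sm π η v = 0) : v = 0 := by
  haveI := hG.1
  by_contra h0
  rw [← hG.2.2.2] at hZ
  refine hZ (subsingleton_of_forall_eq 0 fun w => ?_)
  obtain ⟨m, rfl⟩ := sm_surjective π η w
  obtain ⟨a, rfl⟩ := IsTF1.exists_smul_eq hM hη h0 m
  rw [map_smul, hv, smul_zero]

theorem euler_zero (k : Type u) [Field k] [X.Over (Spec (CommRingCat.of k))] {F : X.Modules} (hF : IsZero F) :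
    Curv2.euler k X F = 0 := by
  unfold Curv2.euler
  refine finsum_eq_zero_of_forall_eq_zero fun i => ?_
  haveI := Euler.subsingleton_HH_of_isZero hF i
  rw [Module.finrank_zero_of_subsingleton]
  simp

section Noeth

variable [IsLocallyNoetherian X] [IsReduced X]

/-- Maps into torsion-free modules supported in `Z` factor through the quotient on `Z`. -/
theorem exists_factor (hM : TFOne.IsRkOne X M) {π : M ⟶ G} (hG : TFOne.IsQuotOn X M Z G π) (g : M ⟶ H)
    (hH : Coh.IsQCoh H) (htH : TorSh.IsTorsionFree H)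
    (h : ∀ η, IsGen η → η ∉ Z → ∀ v, sm g η v = 0) : ∃ d : G ⟶ H, π ≫ d = g := by
  haveI := hG.1
  have h0 : kernel.ι π ≫ g = 0 := hom_eq_zero_of_gen _ hH htH fun η hη v => by
    rw [sm_comp]
    by_cases hZ : η ∈ Z
    · have : sm π η (sm (kernel.ι π) η v) = 0 := by rw [← sm_comp, kernel.condition, sm_zero]
      rw [quot_injective hM hG hη hZ this, map_zero]
    · exact h η hη hZ _
  exact ⟨Abelian.epiDesc π g h0, Abelian.comp_epiDesc _ _ _⟩

/-- A quotient of `M` by a torsion-free module dominates the quotients on smaller sets. -/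
theorem exists_trans (hM : TFOne.IsRkOne X M) {π : M ⟶ G} (hG : TFOne.IsQuotOn X M Z G π) {π' : M ⟶ G'}
    (hG' : TFOne.IsQuotOn X M Z' G' π') (h : ∀ η, IsGen η → η ∈ Z' → η ∈ Z) :
    ∃ d : G ⟶ G', π ≫ d = π' ∧ Epi d := by
  obtain ⟨d, hd⟩ := exists_factor hM hG π' hG'.2.1.1 hG'.2.2.1 fun η hη hZ v => by
    haveI := quot_subsingleton hG' (fun hh => hZ (h η hη hh))
    exact Subsingleton.elim _ _
  haveI := hG'.1
  haveI : Epi (π ≫ d) := by rw [hd]; infer_instance
  exact ⟨d, hd, epi_of_epi π d⟩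

/-- Quotients on sets with the same generic points are isomorphic. -/
theorem exists_quot_iso (hM : TFOne.IsRkOne X M) {π : M ⟶ G} (hG : TFOne.IsQuotOn X M Z G π) {π' : M ⟶ G'}
    (hG' : TFOne.IsQuotOn X M Z' G' π') (h : ∀ η, IsGen η → (η ∈ Z ↔ η ∈ Z')) :
    ∃ e : G ≅ G', π ≫ e.hom = π' := by
  obtain ⟨a, ha, -⟩ := exists_trans hM hG hG' fun η hη => (h η hη).2
  obtain ⟨b, hb, -⟩ := exists_trans hM hG' hG fun η hη => (h η hη).1
  haveI := hG.1
  haveI := hG'.1
  refine ⟨⟨a, b, ?_, ?_⟩, ha⟩
  · rw [← cancel_epi π, ← Category.assoc, ha, hb, Category.comp_id]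
  · rw [← cancel_epi π', ← Category.assoc, hb, ha, Category.comp_id]

variable [IsNoetherian X]

/-- The open set meeting exactly the components selected by `P`. -/
def openOn (P : X → Prop) : X.Opens := ⟨(compUnion fun η => ¬ P η)ᶜ, (isClosed_compUnion _).isOpen_compl⟩

theorem mem_openOn {P : X → Prop} {η : X} (hη : IsGen η) : η ∈ openOn P ↔ P η := by
  show ¬ η ∈ compUnion _ ↔ P η
  rw [mem_compUnion_gen hη, not_not]

/-- The torsion-free quotient on the components selected by `P`. -/
def quotM (M : X.Modules) (P : X → Prop) : X.Modules := Abelian.coimage (ZClosLib.unitApp (openOn P) M)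

/-- The projection to the torsion-free quotient. -/
def quotπ (M : X.Modules) (P : X → Prop) : M ⟶ quotM M P := Abelian.coimage.π (ZClosLib.unitApp (openOn P) M)

theorem isQuotOn_quotM (hM : TFOne.IsTF1 X M) (P : X → Prop) :
    TFOne.IsQuotOn X M (compUnion P) (quotM M P) (quotπ M P) := by
  obtain ⟨hc, ht, hr⟩ := hM
  let V := openOn P
  let T := (ZClos.resPush V).obj M
  let u : M ⟶ T := ZClosLib.unitApp V M
  let j : quotM M P ⟶ T := Abelian.factorThruCoimage u
  haveI : Mono j := inferInstanceAs (Mono (Abelian.factorThruCoimage u))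
  haveI : Epi (quotπ M P) := inferInstanceAs (Epi (Abelian.coimage.π u))
  have hfac : quotπ M P ≫ j = u := Abelian.coimage.fac u
  have hTq : Coh.IsQCoh T :=
    QCoh.isQCoh_pushforward V.ι (QCoh.isQCoh_restrict V.ι hc.1)
  have hGc : Coh.IsCoh (quotM M P) :=
    QCoh.isCoh_cokernel (QCoh.isQCoh_kernel hc.1 hTq u) hc (kernel.ι u)
  have hTt : TorSh.IsTorsionFree T := isTorsionFree_of_gen fun U s hs => by
    refine eq_zero_of_gen hc.1 ht (U := ZClosLib.img V U) (show Γ(M, ZClosLib.img V U) from s) fun y hy hg => ?_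
    have hy' : y ∈ V ∧ y ∈ U := by
      rw [ZClosLib.img, ZClos.ι_image_preimage] at hy
      exact hy
    refine (ZClosLib.stalkMap_unit_bijective V M hy'.1).1 ?_
    rw [map_zero]
    refine Eq.trans ?_ (hs y hy'.2 hg)
    exact (ZClosLib.stalkMap_germ (ZClosLib.unitApp V M) hy _).trans
      (ZClosLib.germ_res ((ZClos.resPush V).obj M) (V.ι.image_preimage_le U) hy s)
  have hGt : TorSh.IsTorsionFree (quotM M P) := isTorsionFree_of_mono j hTq hTt
  refine ⟨inferInstance, hGc, hGt, ?_⟩
  rw [support_eq_compUnion hGc hGt]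
  have key : ∀ η, IsGen η → (η ∈ CohB1.support (quotM M P) ↔ P η) := by
    intro η hη
    constructor
    · intro hs
      by_contra hP
      refine hs ?_
      let W : X.Opens := ⟨(compUnion P)ᶜ, (isClosed_compUnion _).isOpen_compl⟩
      have hηW : η ∈ W := fun h => hP ((mem_compUnion_gen hη).1 h)
      haveI : Subsingleton (T.presheaf.stalk η) := by
        refine subsingleton_of_forall_eq 0 fun t => ?_
        obtain ⟨U, hU, s, rfl⟩ := TopCat.Presheaf.exists_germ_eq T.presheaf t
        have h0 : T.presheaf.map (homOfLE (inf_le_left : U ⊓ W ≤ U)).op s = 0 := by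
          refine eq_zero_of_gen hc.1 ht (U := ZClosLib.img V (U ⊓ W)) _ fun y hy hg => ?_
          exfalso
          have hy' : y ∈ V ∧ y ∈ U ⊓ W := by
            rw [ZClosLib.img, ZClos.ι_image_preimage] at hy
            exact hy
          exact hy'.2.2 ((mem_compUnion_gen hg).2 ((mem_openOn hg).1 hy'.1))
        rw [← T.presheaf.germ_res_apply (homOfLE (inf_le_left : U ⊓ W ≤ U)) η ⟨hU, hηW⟩ s, h0, map_zero]
      exact (sm_injective j η).subsingleton
    · intro hP hsub
      haveI : Subsingleton ((quotM M P).presheaf.stalk η) := hsub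
      haveI := nontrivial_stalk hr hη
      obtain ⟨v, hv⟩ := exists_ne (0 : M.presheaf.stalk η)
      refine hv ((ZClosLib.stalkMap_unit_bijective V M ((mem_openOn hη).2 hP)).1 ?_)
      show sm u η v = sm u η 0
      rw [← hfac, sm_comp, sm_comp, Subsingleton.elim (sm (quotπ M P) η v) (sm (quotπ M P) η 0)]
  ext x
  constructor
  · rintro ⟨η, hη, hs, hx⟩
    exact ⟨η, hη, (key η hη).1 hs, hx⟩
  · rintro ⟨η, hη, hs, hx⟩
    exact ⟨η, hη, (key η hη).2 hs, hx⟩

variable (k : Type u) [Field k] [X.Over (Spec (CommRingCat.of k))]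

/-- The Euler characteristic of the quotient on the components selected by `P`. -/
def chiQ (M : X.Modules) (P : X → Prop) : ℤ := Curv2.euler k X (quotM M P)

variable [IsProper (X ↘ Spec (CommRingCat.of k))]

theorem euler_eq_chiQ (hM : TFOne.IsTF1 X M) {π : M ⟶ G} (hG : TFOne.IsQuotOn X M Z G π) {P : X → Prop}
    (h : ∀ η, IsGen η → (η ∈ Z ↔ P η)) : Curv2.euler k X G = chiQ k M P := by
  obtain ⟨e, -⟩ := exists_quot_iso hM.2.2 hG (isQuotOn_quotM hM P) fun η hη => by
    rw [mem_compUnion_gen hη, h η hη]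
  exact Euler.euler_congr k e

theorem chiQ_congr (hM : TFOne.IsTF1 X M) {P Q : X → Prop} (h : ∀ η, IsGen η → (P η ↔ Q η)) :
    chiQ k M P = chiQ k M Q :=
  euler_eq_chiQ k hM (isQuotOn_quotM hM P) fun η hη => by rw [mem_compUnion_gen hη, h η hη]

theorem chiQ_true (hM : TFOne.IsTF1 X M) : chiQ k M (fun _ => True) = Curv2.euler k X M := by
  have hid : TFOne.IsQuotOn X M (CohB1.support M) M (𝟙 M) := ⟨inferInstance, hM.1, hM.2.1, rfl⟩
  refine (euler_eq_chiQ k hM hid fun η hη => iff_of_true ?_ trivial).symm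
  intro hs
  haveI := nontrivial_stalk hM.2.2 hη
  exact not_subsingleton _ hs

theorem chiQ_false (hM : TFOne.IsTF1 X M) : chiQ k M (fun _ => False) = 0 := by
  have h := isQuotOn_quotM hM (fun _ => False)
  have hz : IsZero (quotM M fun _ => False) := by
    refine (IsZero.iff_id_eq_zero _).2 (hom_eq_zero_of_gen _ h.2.1.1 h.2.2.1 fun η hη v => ?_)
    haveI := quot_subsingleton h (x := η) fun hh => (mem_compUnion_gen hη).1 hh
    exact Subsingleton.elim _ _
  exact euler_zero k hz

end Noeth

end Groth.Agent.BunLib68.TF
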