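import Groth.Agent.BunLib68.TF.Tower
import Groth.Agent.BunLib68.TF.Quot

/-!
# Towers of modifications that decompose at every step
-/

set_option autoImplicit false
set_option backward.isDefEq.respectTransparency false
set_option backward.isDefEq.respectTransparency.types false
set_option linter.style.haveILetI false
set_option linter.unusedSectionVars false
set_option linter.overlappingInstances false

universe u

open CategoryTheory CategoryTheory.Limits AlgebraicGeometry TopologicalSpace Opposite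

noncomputable section

namespace Groth.Agent.BunLib68.TF

variable {R : Type u} [CommRing R] [IsDomain R] [IsDiscreteValuationRing R]
  {X : Scheme.{u}} [X.Over (Spec (CommRingCat.of R))] {Xs : Scheme.{u}} {i : Xs ⟶ X}

/-- Torsion-free modules with disjoint generic supports have no maps between them. -/
theorem hom_eq_zero_of_disjoint [IsLocallyNoetherian Xs] [IsReduced Xs] {A B : Xs.Modules} (f : A ⟶ B)
    (hB : Coh.IsQCoh B) (htB : TorSh.IsTorsionFree B)
    (h : ∀ η, IsGen η → η ∈ CohB1.support A → η ∉ CohB1.support B) : f = 0 :=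
  hom_eq_zero_of_gen f hB htB fun η hη v => by
    by_cases hA : η ∈ CohB1.support A
    · haveI : Subsingleton (B.presheaf.stalk η) := not_not.1 (h η hη hA)
      exact Subsingleton.elim _ _
    · haveI : Subsingleton (A.presheaf.stalk η) := not_not.1 hA
      rw [Subsingleton.elim v 0, map_zero]

variable {q : Xs ⟶ Spec (CommRingCat.of (IsLocalRing.ResidueField R))}
  (hsq : IsPullback i q (X ↘ Spec (CommRingCat.of R)) (Spec.map (CommRingCat.ofHom (IsLocalRing.residue R))))

include hsq in
/-- The data of one elementary modification. -/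
theorem exists_modTower_step [IsNoetherian X] {t : R} (ht : Irreducible t) {I : X.Modules} {Y : Set Xs}
    {G : Xs.Modules} (π : (Scheme.Modules.pullback i).obj I ⟶ G)
    (hG : TFOne.IsQuotOn Xs ((Scheme.Modules.pullback i).obj I) Y G π) (J : X.Modules)
    (hJ : J = kernel ((Scheme.Modules.pullbackPushforwardAdjunction i).unit.app I ≫
      (Scheme.Modules.pushforward i).map π)) (hIc : Coh.IsCoh I) :
    Coh.IsCoh J ∧ ∃ (a : J ⟶ I) (u : I ⟶ J), a ≫ u = Formal.smulMod R J t ∧ u ≫ a = Formal.smulMod R I t ∧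
      (Scheme.Modules.pullback i).map a ≫ π = 0 ∧
      ∀ {Z : Xs.Modules} (g : (Scheme.Modules.pullback i).obj I ⟶ Z),
        (Scheme.Modules.pullback i).map a ≫ g = 0 → ∃ h, π ≫ h = g := by
  subst hJ
  haveI := isClosedImmersion_fibre hsq
  let P := Scheme.Modules.pushforward i
  let L := Scheme.Modules.pullback i
  let adj := Scheme.Modules.pullbackPushforwardAdjunction i
  let q : I ⟶ P.obj G := runit i I ≫ P.map π
  obtain ⟨ht0, -, hu⟩ := fibre_exact hsq ht hIc.1
  haveI := hu
  haveI := hG.1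
  haveI := AmpleVan.epi_push i (QCoh.isQCoh_pullback i hIc.1) hG.2.1.1 π
  haveI : Epi q := epi_comp _ _
  haveI := AmpleVan.isIso_counit i hG.2.1.1
  have htq : Formal.smulMod R I t ≫ q = 0 := by rw [← Category.assoc, ht0, zero_comp]
  refine ⟨QCoh.isCoh_kernel hIc (QCoh.isCoh_pushforward_finite i hG.2.1) q, kernel.ι q, kernel.lift q _ htq, ?_,
    kernel.lift_ι _ _ _, ?_, fun {Z} g hg => ?_⟩
  · rw [← cancel_mono (kernel.ι q), Category.assoc, kernel.lift_ι, ← FFun.smulMod_naturality]
  · apply (adj.homEquiv _ _).injective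
    rw [Adjunction.homEquiv_naturality_left]
    refine Eq.trans ?_ (Eq.symm ((adj.homEquiv_unit _ _ _).trans (by rw [Functor.map_zero, comp_zero])))
    rw [adj.homEquiv_unit]
    exact kernel.condition q
  · have h0 : kernel.ι q ≫ (adj.homEquiv _ _) g = 0 := by
      rw [← Adjunction.homEquiv_naturality_left, hg, adj.homEquiv_unit, Functor.map_zero, comp_zero]
    let h := Abelian.epiDesc q _ h0
    have e : L.map q ≫ adj.counit.app G = π := by
      apply (adj.homEquiv _ _).injective
      rw [Adjunction.homEquiv_naturality_left, adj.homEquiv_unit, adj.homEquiv_unit]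
      show q ≫ runit i (P.obj G) ≫ P.map (adj.counit.app G) = _
      rw [adj.right_triangle_components, Category.comp_id]
    refine ⟨inv (adj.counit.app G) ≫ (adj.homEquiv _ _).symm h, ?_⟩
    rw [← e, Category.assoc, IsIso.hom_inv_id_assoc]
    apply (adj.homEquiv _ _).injective
    rw [Adjunction.homEquiv_naturality_left, Equiv.apply_symm_apply]
    exact Abelian.comp_epiDesc _ _ _

/-- The uniformiser stays injective on a modification. -/
theorem mono_smulMod_step [IsNoetherian X] {t : R} (ht : Irreducible t) {I : X.Modules}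
    {G : Xs.Modules} (π : (Scheme.Modules.pullback i).obj I ⟶ G) (J : X.Modules)
    (hJ : J = kernel ((Scheme.Modules.pullbackPushforwardAdjunction i).unit.app I ≫
      (Scheme.Modules.pushforward i).map π)) (h : Mono (Formal.smulMod R I t)) :
    Mono (Formal.smulMod R J t) := by
  subst hJ
  let q : I ⟶ (Scheme.Modules.pushforward i).obj G := runit i I ≫ (Scheme.Modules.pushforward i).map π
  show Mono (Formal.smulMod R (kernel q) t)
  haveI := h
  haveI : Mono (Formal.smulMod R (kernel q) t ≫ kernel.ι q) := by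
    rw [FFun.smulMod_naturality]
    exact mono_comp _ _
  exact mono_of_mono _ (kernel.ι q)

/-- A tower of modules with restrictions to the special fibre decomposing at every step. -/
structure DecTower (i : Xs ⟶ X) (t : R) (Y Y' : Set Xs) where
  In : ℕ → X.Modules
  a : ∀ n, In (n + 1) ⟶ In n
  u : ∀ n, In n ⟶ In (n + 1)
  au : ∀ n, a n ≫ u n = Formal.smulMod R (In (n + 1)) t
  ua : ∀ n, u n ≫ a n = Formal.smulMod R (In n) t
  coh : ∀ n, Coh.IsCoh (In n)
  mono_t : ∀ n, Mono (Formal.smulMod R (In n) t)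
  G : ℕ → Xs.Modules
  G' : ℕ → Xs.Modules
  π : ∀ n : ℕ, ((Scheme.Modules.pullback i).obj (In n)) ⟶ G n
  π' : ∀ n : ℕ, ((Scheme.Modules.pullback i).obj (In n)) ⟶ G' n
  isQuot : ∀ n : ℕ, TFOne.IsQuotOn Xs ((Scheme.Modules.pullback i).obj (In n)) Y (G n) (π n)
  isQuot' : ∀ n : ℕ, TFOne.IsQuotOn Xs ((Scheme.Modules.pullback i).obj (In n)) Y' (G' n) (π' n)
  a_π : ∀ n, (Scheme.Modules.pullback i).map (a n) ≫ π n = 0
  desc : ∀ n {Z : Xs.Modules} (g : (Scheme.Modules.pullback i).obj (In n) ⟶ Z),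
    (Scheme.Modules.pullback i).map (a n) ≫ g = 0 → ∃ h, π n ≫ h = g
  dec : ∀ n : ℕ, IsIso (biprod.lift (π n) (π' n))
  disj : ∀ η, IsGen η → η ∈ Y → η ∉ Y'

include hsq in
/-- The formal quotient of a tower decomposing at every step, algebraized. -/
theorem DecTower.exists_flat_quotient [IsAdicComplete (IsLocalRing.maximalIdeal R) R]
    [IsProper (X ↘ Spec (CommRingCat.of R))] [IsReduced Xs] {t : R} (ht : Irreducible t) {Y Y' : Set Xs}
    (D₀ : DecTower (R := R) i t Y Y') :
    ∃ (F : X.Modules) (p : D₀.In 0 ⟶ F), Coh.IsCoh F ∧ Epi p ∧ Mono (Formal.smulMod R F t) ∧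
      ∃ e : (Scheme.Modules.pullback i).obj F ≅ D₀.G 0, (Scheme.Modules.pullback i).map p ≫ e.hom = D₀.π 0 := by
  obtain ⟨In, a, u, hau, hu, hcoh, hmt, G, G', π, π', hG, hG', hadj, hdesc, hdec, hYY'⟩ := D₀
  haveI := isClosedImmersion_fibre hsq
  haveI : IsNoetherian X := {
    toIsLocallyNoetherian := LocallyOfFiniteType.isLocallyNoetherian (X ↘ Spec (CommRingCat.of R))
    toCompactSpace := QuasiCompact.compactSpace_of_compactSpace (X ↘ Spec (CommRingCat.of R)) }
  haveI : IsLocallyNoetherian Xs := LocallyOfFiniteType.isLocallyNoetherian i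
  haveI : CompactSpace Xs := i.isClosedEmbedding.compactSpace
  haveI : IsNoetherian Xs := {}
  let P := Scheme.Modules.pushforward i
  let L := Scheme.Modules.pullback i
  let adj := Scheme.Modules.pullbackPushforwardAdjunction i
  let qn : ∀ n, In n ⟶ P.obj (G n) := fun n => runit i (In n) ≫ P.map (π n)
  have hmono : ∀ n, Mono (a n) := fun n => by
    haveI := hmt (n + 1)
    haveI : Mono (a n ≫ u n) := by rw [hau]; infer_instance
    exact mono_of_mono (a n) (u n)
  have hqn : ∀ n, Epi (qn n) := fun n => by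
    obtain ⟨-, -, hu⟩ := fibre_exact hsq ht (hcoh n).1
    haveI := hu
    haveI := (hG n).1
    haveI := AmpleVan.epi_push i (QCoh.isQCoh_pullback i (hcoh n).1) (hG n).2.1.1 (π n)
    exact epi_comp _ _
  have haq : ∀ n, a n ≫ qn n = 0 := fun n => by
    show a n ≫ runit i (In n) ≫ P.map (π n) = 0
    rw [← Category.assoc, ← runit_naturality, Category.assoc, ← P.map_comp, hadj, P.map_zero, comp_zero]
  have hexact : ∀ n {Z : X.Modules} (g : Z ⟶ In n), g ≫ qn n = 0 ↔ ∃ g', g' ≫ a n = g := fun n {Z} g => by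
    refine ⟨fun hg => ?_, fun ⟨g', hg'⟩ => by rw [← hg', Category.assoc, haq, comp_zero]⟩
    haveI := hmono n
    haveI := (hG n).1
    suffices h : g ≫ cokernel.π (a n) = 0 from ⟨Abelian.monoLift (a n) g h, Abelian.monoLift_comp _ _ _⟩
    let c := (kernel.ι (π n))
    have hc : L.map (a n) ≫ cokernel.π (L.map (a n)) = 0 := cokernel.condition _
    -- the image of `a n` fills the kernel of `π n`
    let β : L.obj (In (n + 1)) ⟶ kernel (π n) := kernel.lift _ (L.map (a n)) (hadj n)
    haveI : Epi β := Preadditive.epi_of_cancel_zero _ fun {W} ψ hψ => by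
      let φ : L.obj (In n) ⟶ cokernel (L.map (a n)) := cokernel.π _
      obtain ⟨h', hh'⟩ := hdesc n φ hc
      have h0 : kernel.ι (π n) ≫ φ = 0 := by rw [← hh', ← Category.assoc, kernel.condition, zero_comp]
      obtain ⟨W', e, he, y, hy⟩ := (ShortComplex.exact_cokernel (L.map (a n))).exact_up_to_refinements
        (kernel.ι (π n)) h0
      haveI := he
      have he' : e = y ≫ β := by
        rw [← cancel_mono (kernel.ι (π n)), Category.assoc, kernel.lift_ι]
        exact hy
      rw [← cancel_epi e, comp_zero, he', Category.assoc, hψ, comp_zero]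
    haveI := AmpleVan.epi_push i (QCoh.isQCoh_pullback i (hcoh (n + 1)).1)
      (QCoh.isQCoh_kernel (QCoh.isQCoh_pullback i (hcoh n).1) (hG n).2.1.1 (π n)) β
    obtain ⟨-, -, hu'⟩ := fibre_exact hsq ht (hcoh (n + 1)).1
    haveI := hu'
    haveI : Epi (runit i (In (n + 1)) ≫ P.map β) := epi_comp _ _
    obtain ⟨hP0, hexn, -⟩ := fibre_exact hsq ht (hcoh n).1
    have hk : IsLimit (KernelFork.ofι (P.map (kernel.ι (π n)))
        (show P.map (kernel.ι (π n)) ≫ P.map (π n) = 0 by rw [← P.map_comp, kernel.condition, P.map_zero])) :=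
      isLimitForkMapOfIsLimit' P (kernel.condition (π n)) (kernelIsKernel (π n))
    obtain ⟨l, hl⟩ := KernelFork.IsLimit.lift' hk (g ≫ runit i (In n)) ((Category.assoc _ _ _).trans hg)
    obtain ⟨Z', e, he, y, hy⟩ := surjective_up_to_refinements_of_epi (runit i (In (n + 1)) ≫ P.map β) l
    have h1 : (e ≫ g - y ≫ a n) ≫ runit i (In n) = 0 := by
      rw [Preadditive.sub_comp, Category.assoc, Category.assoc, ← runit_naturality i (a n), sub_eq_zero, ← hl]
      show e ≫ l ≫ P.map (kernel.ι (π n)) = _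
      rw [← Category.assoc, hy, Category.assoc, Category.assoc, ← P.map_comp, kernel.lift_ι]
    obtain ⟨Z'', e', he', z, hz⟩ := hexn.exact_up_to_refinements _ h1
    haveI := he
    haveI := he'
    rw [← cancel_epi e, ← cancel_epi e', comp_zero, comp_zero]
    have h2 : e' ≫ e ≫ g = (e' ≫ y + z ≫ u n) ≫ a n := by
      rw [Preadditive.add_comp, Category.assoc, Category.assoc, hu]
      change e' ≫ (e ≫ g - y ≫ a n) = z ≫ Formal.smulMod R (In n) t at hz
      rw [← hz, Preadditive.comp_sub]
      abel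
    rw [← Category.assoc e, ← Category.assoc e', h2, Category.assoc, cokernel.condition, comp_zero]
  have hdis : ∀ m n (f : G m ⟶ G' n), f = 0 := fun m n f =>
    hom_eq_zero_of_disjoint f (hG' n).2.1.1 (hG' n).2.2.1 fun η hη h1 h2 =>
      hYY' η hη ((hG m).2.2.2 ▸ h1) ((hG' n).2.2.2 ▸ h2)
  have hdis' : ∀ m n (f : G' m ⟶ G n), f = 0 := fun m n f =>
    hom_eq_zero_of_disjoint f (hG n).2.1.1 (hG n).2.2.1 fun η hη h1 h2 =>
      hYY' η hη ((hG n).2.2.2 ▸ h2) ((hG' m).2.2.2 ▸ h1)
  haveI := fun n => (hG n).1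
  haveI := fun n => hdec n
  let σ : ∀ n, G n ⟶ L.obj (In n) := fun n => biprod.inl ≫ inv (biprod.lift (π n) (π' n))
  let σ' : ∀ n, G' n ⟶ L.obj (In n) := fun n => biprod.inr ≫ inv (biprod.lift (π n) (π' n))
  have hσπ : ∀ n, σ n ≫ π n = 𝟙 _ := fun n => by
    have : inv (biprod.lift (π n) (π' n)) ≫ π n = biprod.fst := by
      rw [IsIso.inv_comp_eq, biprod.lift_fst]
    show (biprod.inl ≫ _) ≫ _ = _
    rw [Category.assoc, this, biprod.inl_fst]
  have htot : ∀ n, π n ≫ σ n + π' n ≫ σ' n = 𝟙 _ := fun n => by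
    rw [← Category.assoc, ← Category.assoc, ← Preadditive.add_comp, ← biprod.lift_eq]
    exact IsIso.hom_inv_id _
  have hzero : ∀ n {Z : Xs.Modules} (g : Z ⟶ L.obj (In n)), g ≫ π n = 0 → g ≫ π' n = 0 → g = 0 :=
    fun n {Z} g h1 h2 => by
      rw [← Category.comp_id g, ← htot n, Preadditive.comp_add, ← Category.assoc, h1, zero_comp, zero_add,
        ← Category.assoc, h2, zero_comp]
  let γ : ∀ n, G n ⟶ G (n + 1) := fun n => σ n ≫ L.map (u n) ≫ π (n + 1)
  have hπγ : ∀ n, π n ≫ γ n = L.map (u n) ≫ π (n + 1) := fun n => by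
    conv_rhs => rw [← Category.id_comp (L.map (u n) ≫ π (n + 1)), ← htot n, Preadditive.add_comp]
    rw [Category.assoc (π' n), hdis' n (n + 1) (σ' n ≫ L.map (u n) ≫ π (n + 1)), comp_zero, add_zero,
      Category.assoc]
  have hc : ∀ n, IsIso (γ n) := fun n => by
    haveI := hmt n
    haveI := hmt (n + 1)
    haveI : Mono (γ n) := Preadditive.mono_of_kernel_zero (by
      have h1 : (kernel.ι (γ n) ≫ σ n) ≫ L.map (u n) = 0 := by
        refine hzero (n + 1) _ ?_ ?_
        · simp only [Category.assoc]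
          exact kernel.condition (γ n)
        · simp only [Category.assoc]
          rw [hdis n (n + 1) (σ n ≫ L.map (u n) ≫ π' (n + 1)), comp_zero]
      have h0 := fibre_zero_of_comp_zero hsq ht (hcoh n).1 (hcoh (n + 1)).1 (a n) (u n) (hau n) (hu n)
        (QCoh.isQCoh_kernel (hG n).2.1.1 (hG (n + 1)).2.1.1 (γ n)) (kernel.ι (γ n) ≫ σ n) h1
      rw [← Category.comp_id (kernel.ι (γ n)), ← hσπ n, ← cokernel.π_desc _ (π n) (hadj n), ← Category.assoc,
        ← Category.assoc, h0, zero_comp])
    haveI : Epi (γ n) := Preadditive.epi_of_cancel_zero _ fun {Z} g hg => by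
      have h1 : L.map (u n) ≫ π (n + 1) ≫ g = 0 := by
        rw [← Category.assoc, ← hπγ, Category.assoc, hg, comp_zero]
      have h2 : σ (n + 1) ≫ L.map (a n) = 0 := by
        refine hzero n _ ?_ ?_
        · rw [Category.assoc, hadj, comp_zero]
        · rw [Category.assoc, hdis (n + 1) n (σ (n + 1) ≫ L.map (a n) ≫ π' n)]
      have h0 := fibre_zero_of_comp_zero hsq ht (hcoh (n + 1)).1 (hcoh n).1 (u n) (a n) (hu n) (hau n)
        (hG (n + 1)).2.1.1 (σ (n + 1)) h2
      rw [← Category.id_comp g, ← hσπ (n + 1), Category.assoc, ← cokernel.π_desc _ _ h1, ← Category.assoc, h0,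
        zero_comp]
    exact isIso_of_mono_of_epi _
  let D : ModTower (X := X) t :=
    { M := In, a := a, u := u, T := fun n => P.obj (G n), q := qn, c := fun n => P.map (γ n), mono_a := hmono,
      epi_q := hqn, exact := hexact, au := hau, ua := hu
      qc := fun n => by
        show (runit i (In n) ≫ P.map (π n)) ≫ P.map (γ n) = u n ≫ runit i (In (n + 1)) ≫ P.map (π (n + 1))
        rw [Category.assoc, ← P.map_comp, hπγ, P.map_comp, ← Category.assoc, runit_naturality, Category.assoc]
      isIso_c := fun n => haveI := hc n; inferInstance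
      coh := hcoh }
  haveI : IsAdicComplete (Ideal.span {t}) R := ht.maximalIdeal_eq ▸ inferInstance
  obtain ⟨F, p₀, θ₀, hF, hpe, hFt, hpθ₀, hθ₀⟩ := D.exists_quotient
  let p : In 0 ⟶ F := p₀
  let θ : F ⟶ P.obj (G 0) := θ₀
  have hpθ : p ≫ θ = runit i (In 0) ≫ P.map (π 0) := hpθ₀
  have hθ : ∀ {Z : X.Modules} (g : F ⟶ Z), Formal.smulMod R F t ≫ g = 0 → ∃ g', θ ≫ g' = g :=
    fun g hg => hθ₀ g hg
  haveI : Epi p := hpe
  refine ⟨F, p, hF, hpe, hFt, ?_⟩
  let e := (adj.homEquiv F (G 0)).symm θ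
  have he : L.map p ≫ e = π 0 := by
    apply (adj.homEquiv _ _).injective
    rw [Adjunction.homEquiv_naturality_left, Equiv.apply_symm_apply, adj.homEquiv_unit]
    exact hpθ
  obtain ⟨hFη, -, -⟩ := fibre_exact hsq ht hF.1
  obtain ⟨g', hg'⟩ := hθ (runit i F) hFη
  obtain ⟨r, hr⟩ := AmpleVan.exists_push_map i (hG 0).2.1.1 (QCoh.isQCoh_pullback i hF.1) g'
  have hr' : π 0 ≫ r = L.map p := by
    apply (adj.homEquiv _ _).injective
    rw [adj.homEquiv_unit, adj.homEquiv_unit]
    show runit i (In 0) ≫ P.map (π 0 ≫ r) = runit i (In 0) ≫ P.map (L.map p)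
    rw [runit_naturality, P.map_comp, ← Category.assoc, ← hpθ, Category.assoc,
      show P.map r = g' from hr, hg']
  haveI : Epi (L.map p) := inferInstance
  refine ⟨⟨e, r, ?_, ?_⟩, he⟩
  · rw [← cancel_epi (L.map p), ← Category.assoc, he, hr', Category.comp_id]
  · rw [← cancel_epi (π 0), ← Category.assoc, hr', he, Category.comp_id]

include hsq in
/-- The formal quotient of a tower of modifications decomposing at every step, algebraized. -/
theorem exists_flat_quotient [IsAdicComplete (IsLocalRing.maximalIdeal R) R]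
    [IsProper (X ↘ Spec (CommRingCat.of R))] [IsReduced Xs]
    (In : ℕ → X.Modules) (hIc : Coh.IsCoh (In 0))
    (hIf : FlatMod.IsFlatOver (X ↘ Spec (CommRingCat.of R)) (In 0))
    (Y Y' : Set Xs) (hYY' : ∀ η, IsGen η → η ∈ Y → η ∉ Y')
    (G G' : ℕ → Xs.Modules) (π : ∀ n : ℕ, ((Scheme.Modules.pullback i).obj (In n)) ⟶ G n)
    (π' : ∀ n : ℕ, ((Scheme.Modules.pullback i).obj (In n)) ⟶ G' n)
    (hG : ∀ n : ℕ, TFOne.IsQuotOn Xs ((Scheme.Modules.pullback i).obj (In n)) Y (G n) (π n))
    (hG' : ∀ n : ℕ, TFOne.IsQuotOn Xs ((Scheme.Modules.pullback i).obj (In n)) Y' (G' n) (π' n))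
    (hstep : ∀ n : ℕ, In (n + 1) = kernel ((Scheme.Modules.pullbackPushforwardAdjunction i).unit.app (In n) ≫
      (Scheme.Modules.pushforward i).map (π n)))
    (hdec : ∀ n : ℕ, IsIso (biprod.lift (π n) (π' n))) :
    ∃ (F : X.Modules) (p : In 0 ⟶ F), Epi p ∧ FlatMod.IsFlatOver (X ↘ Spec (CommRingCat.of R)) F ∧
      ∃ e : (Scheme.Modules.pullback i).obj F ≅ G 0, (Scheme.Modules.pullback i).map p ≫ e.hom = π 0 := by
  obtain ⟨t, ht⟩ := IsDiscreteValuationRing.exists_irreducible R
  haveI : IsNoetherian X := {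
    toIsLocallyNoetherian := LocallyOfFiniteType.isLocallyNoetherian (X ↘ Spec (CommRingCat.of R))
    toCompactSpace := QuasiCompact.compactSpace_of_compactSpace (X ↘ Spec (CommRingCat.of R)) }
  haveI := isClosedImmersion_fibre hsq
  have hd := fun n => exists_modTower_step hsq ht (π n) (hG n) (In (n + 1)) (hstep n)
  have hcoh : ∀ n, Coh.IsCoh (In n) := fun n => by
    induction n with
    | zero => exact hIc
    | succ n ih => exact (hd n ih).1
  choose hc a u hau hua hap hdesc using fun n => hd n (hcoh n)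
  have hmt : ∀ n, Mono (Formal.smulMod R (In n) t) := fun n => by
    induction n with
    | zero => exact mono_smulMod_of_flat hIf ht.ne_zero
    | succ n ih => exact mono_smulMod_step ht (π n) (In (n + 1)) (hstep n) ih
  obtain ⟨F, p, hF, hp, hFt, he⟩ := DecTower.exists_flat_quotient hsq ht
    (⟨In, a, u, hau, hua, hcoh, hmt, G, G', π, π', hG, hG', hap, fun n => hdesc n, hdec, hYY'⟩ :
      DecTower (R := R) i t Y Y')
  exact ⟨F, p, hp, isFlatOver_of_mono_smulMod ht hFt, he⟩

end Groth.Agent.BunLib68.TF
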