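import Groth.Agent.BunLib68.TF.Quot
import Groth.Agent.VarBase.CurveDeg
import Groth.Agent.KZ.CohClass
import Groth.Agent.H23.TopDim

/-!
# Euler characteristics of torsion-free quotients and degrees on subcurves
-/

set_option autoImplicit false
set_option backward.isDefEq.respectTransparency false
set_option backward.isDefEq.respectTransparency.types false
set_option linter.style.haveILetI false
set_option linter.unusedSectionVars false
set_option linter.overlappingInstances false

universe u

open CategoryTheory CategoryTheory.Limits AlgebraicGeometry TopologicalSpace Opposite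

noncomputable section

namespace Groth.Agent.BunLib68.TF

variable {X : Scheme.{u}}

/-- Points other than the generic ones are closed on a space of pure dimension one. -/
theorem closure_eq_self_of_not_gen [IsReduced X]
    (hpure : ∀ C ∈ irreducibleComponents (X : Type u), topologicalKrullDim C = 1) {x : X} (hx : ¬ IsGen x) :
    closure ({x} : Set X) = {x} := by
  obtain ⟨η, hη, hs⟩ := exists_isGen x
  have hne : η ≠ x := fun h => hx (h ▸ hη)
  have h1 := HilbPoly.dim_lt_closure (x := η) (C := closure ({x} : Set X)) (n := 1)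
    (by rw [hpure _ hη.component_mem]; rfl) isClosed_closure
    (isClosed_closure.closure_subset_iff.2 (Set.singleton_subset_iff.2 (specializes_iff_mem_closure.1 hs)))
    (fun hm => hne ((specializes_iff_mem_closure.2 hm).antisymm hs).eq.symm)
  exact (VarBase.isClosed_of_dim_lt_one isClosed_closure h1 x (subset_closure rfl)).closure_eq

theorem dim_closure_eq_one_iff [IsReduced X]
    (hpure : ∀ C ∈ irreducibleComponents (X : Type u), topologicalKrullDim C = 1) (x : X) :
    topologicalKrullDim ↥(closure ({x} : Set X)) = ((1 : ℕ) : WithBot ℕ∞) ↔ IsGen x := by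
  refine ⟨fun h => ?_, fun h => by rw [hpure _ h.component_mem]; rfl⟩
  by_contra hx
  rw [closure_eq_self_of_not_gen hpure hx] at h
  haveI : Subsingleton ↥({x} : Set X) := ⟨fun a b => Subtype.ext (a.2.trans b.2.symm)⟩
  haveI : Subsingleton (IrreducibleCloseds ↥({x} : Set X)) := ⟨fun a b => SetLike.coe_injective (by
    have e : ∀ c : IrreducibleCloseds ↥({x} : Set X), (c : Set ↥({x} : Set X)) = Set.univ := fun c =>
      Set.eq_univ_of_forall fun y => Subsingleton.elim c.2.1.some y ▸ c.2.1.some_mem
    rw [e a, e b])⟩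
  haveI : Nonempty (IrreducibleCloseds ↥({x} : Set X)) :=
    ⟨⟨Set.univ, ⟨⟨⟨x, rfl⟩, trivial⟩, Set.subsingleton_univ.isPreirreducible⟩, isClosed_univ⟩⟩
  have h0 : topologicalKrullDim ↥({x} : Set X) = 0 := Order.krullDim_eq_zero
  rw [h0] at h
  exact absurd h (by norm_num)

variable (k : Type u) [Field k] [X.Over (Spec (CommRingCat.of k))] [IsProper (X ↘ Spec (CommRingCat.of k))]
  [IsReduced X] (hpure : ∀ C ∈ irreducibleComponents (X : Type u), topologicalKrullDim C = 1)

include hpure

/-- Coherent modules which vanish at the generic points have non-negative Euler characteristic. -/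
theorem euler_nonneg_of_gen {T : X.Modules} (hT : Coh.IsCoh T)
    (h : ∀ η, IsGen η → Subsingleton (T.presheaf.stalk η)) :
    0 ≤ Curv2.euler k X T ∧ (Curv2.euler k X T = 0 → IsZero T) := by
  haveI := CurveCohLib.isNoetherian_of_proper (k := k) (X := X)
  exact Euler.euler_nonneg_of_good k hT (Euler.good_of_support hT fun x hx =>
    closure_eq_self_of_not_gen hpure fun hg => hx (h x hg))

/-- A monomorphism surjective at the generic points increases the Euler characteristic. -/
theorem euler_le_of_mono {A B : X.Modules} (f : A ⟶ B) [Mono f] (hA : Coh.IsCoh A) (hB : Coh.IsCoh B)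
    (h : ∀ η, IsGen η → ∀ w, ∃ v, sm f η v = w) :
    Curv2.euler k X A ≤ Curv2.euler k X B ∧ (Curv2.euler k X A = Curv2.euler k X B → IsIso f) := by
  haveI := CurveCohLib.isNoetherian_of_proper (k := k) (X := X)
  have hC : Coh.IsCoh (cokernel f) := QCoh.isCoh_cokernel hA.1 hB f
  have he := CurveBundle.euler_add' k f (cokernel.π f) (cokernel.condition f)
    { exact := ShortComplex.exact_cokernel f, mono_f := inferInstance, epi_g := inferInstance } hA hB hC
  obtain ⟨h0, hz⟩ := euler_nonneg_of_gen k hpure hC fun η hη => subsingleton_of_forall_eq 0 fun t => by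
    obtain ⟨w, rfl⟩ := sm_surjective (cokernel.π f) η t
    obtain ⟨v, rfl⟩ := h η hη w
    rw [← sm_comp, cokernel.condition, sm_zero]
  refine ⟨by omega, fun heq => ?_⟩
  haveI : Epi f := Abelian.epi_of_cokernel_π_eq_zero _ ((hz (by omega)).eq_of_tgt _ _)
  exact isIso_of_mono_of_epi f

/-- An epimorphism injective at the generic points decreases the Euler characteristic. -/
theorem euler_le_of_epi {A B : X.Modules} (f : A ⟶ B) [Epi f] (hA : Coh.IsCoh A) (hB : Coh.IsCoh B)
    (h : ∀ η, IsGen η → ∀ v, sm f η v = 0 → v = 0) :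
    Curv2.euler k X B ≤ Curv2.euler k X A ∧ (Curv2.euler k X A = Curv2.euler k X B → IsIso f) := by
  haveI := CurveCohLib.isNoetherian_of_proper (k := k) (X := X)
  have hC : Coh.IsCoh (kernel f) := QCoh.isCoh_kernel hA hB f
  have he := CurveBundle.euler_add' k (kernel.ι f) f (kernel.condition f)
    { exact := ShortComplex.exact_kernel f, mono_f := inferInstance, epi_g := inferInstance } hC hA hB
  obtain ⟨h0, hz⟩ := euler_nonneg_of_gen k hpure hC fun η hη => subsingleton_of_forall_eq 0 fun t => by
    refine sm_injective (kernel.ι f) η ?_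
    rw [map_zero]
    refine h η hη _ ?_
    rw [← sm_comp, kernel.condition, sm_zero]
  refine ⟨by omega, fun heq => ?_⟩
  haveI : Mono f := Abelian.mono_of_kernel_ι_eq_zero _ ((hz (by omega)).eq_of_src _ _)
  exact isIso_of_mono_of_epi f

omit hpure [IsReduced X] [IsProper (X ↘ Spec (CommRingCat.of k))] in
theorem sm_biprod_total {A B : X.Modules} (η : X) (v : (A ⊞ B).presheaf.stalk η) :
    sm biprod.inl η (sm biprod.fst η v) + sm biprod.inr η (sm biprod.snd η v) = v := by
  rw [← sm_comp, ← sm_comp, ← sm_add, biprod.total, sm_id]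

omit hpure [IsReduced X] in
theorem euler_biprod {A B : X.Modules} (hA : Coh.IsCoh A) (hB : Coh.IsCoh B) :
    Coh.IsCoh (A ⊞ B) ∧ Curv2.euler k X (A ⊞ B) = Curv2.euler k X A + Curv2.euler k X B := by
  have hS : (ShortComplex.mk (biprod.inl : A ⟶ A ⊞ B) (biprod.snd : A ⊞ B ⟶ B) biprod.inl_snd).ShortExact :=
    (ShortComplex.Splitting.ofHasBinaryBiproduct A B).shortExact
  have hC : Coh.IsCoh (A ⊞ B) := KZ.isCoh_X₂ hS hA hB
  exact ⟨hC, CurveBundle.euler_add' k _ _ _ hS hA hC hB⟩

/-- Submodularity of the Euler characteristics of the torsion-free quotients. -/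
theorem chiQ_submodular [IsNoetherian X] {M : X.Modules} (hM : TFOne.IsTF1 X M) (P Q : X → Prop) :
    chiQ k M (fun η => P η ∨ Q η) + chiQ k M (fun η => P η ∧ Q η) ≤ chiQ k M P + chiQ k M Q := by
  have hP := isQuotOn_quotM hM P
  have hQ := isQuotOn_quotM hM Q
  have hU := isQuotOn_quotM hM (fun η => P η ∨ Q η)
  have hW := isQuotOn_quotM hM (fun η => P η ∧ Q η)
  obtain ⟨a, ha, hae⟩ := exists_trans hM.2.2 hP hW fun η hη h =>
    (mem_compUnion_gen hη).2 ((mem_compUnion_gen hη).1 h).1
  obtain ⟨b, hb, -⟩ := exists_trans hM.2.2 hQ hW fun η hη h =>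
    (mem_compUnion_gen hη).2 ((mem_compUnion_gen hη).1 h).2
  obtain ⟨c, hc, -⟩ := exists_trans hM.2.2 hU hP fun η hη h =>
    (mem_compUnion_gen hη).2 (Or.inl ((mem_compUnion_gen hη).1 h))
  obtain ⟨d, hd, -⟩ := exists_trans hM.2.2 hU hQ fun η hη h =>
    (mem_compUnion_gen hη).2 (Or.inr ((mem_compUnion_gen hη).1 h))
  let α := biprod.desc a (-b)
  let β := biprod.lift c d
  haveI := hU.1
  have hβα : β ≫ α = 0 := by
    rw [← cancel_epi (quotπ M fun η => P η ∨ Q η), comp_zero, biprod.lift_desc, Preadditive.comp_neg,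
      Preadditive.comp_add, Preadditive.comp_neg, ← Category.assoc, ← Category.assoc, hc, hd, ha, hb, add_neg_cancel]
  haveI : Epi α := by
    haveI := hae
    haveI : Epi (biprod.inl ≫ α) := by rw [biprod.inl_desc]; exact hae
    exact epi_of_epi biprod.inl α
  obtain ⟨hsum, hes⟩ := euler_biprod k hP.2.1 hQ.2.1
  have hKc : Coh.IsCoh (kernel α) := QCoh.isCoh_kernel hsum hW.2.1 α
  have he := CurveBundle.euler_add' k (kernel.ι α) α (kernel.condition α)
    { exact := ShortComplex.exact_kernel α, mono_f := inferInstance, epi_g := inferInstance } hKc hsum hW.2.1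
  let β' := kernel.lift α β hβα
  have hβ' : β' ≫ kernel.ι α = β := kernel.lift_ι _ _ _
  have hfst : ∀ (η : X) v, sm biprod.fst η (sm β η v) = sm c η v := fun η v => by rw [← sm_comp, biprod.lift_fst]
  have hsnd : ∀ (η : X) v, sm biprod.snd η (sm β η v) = sm d η v := fun η v => by rw [← sm_comp, biprod.lift_snd]
  haveI : Mono β' := by
    refine mono_of_gen β' hU.2.1.1 hU.2.2.1 fun η hη v hv => ?_
    have hv' : sm β η v = 0 := by rw [← hβ', sm_comp, hv, map_zero]
    obtain ⟨m, rfl⟩ := sm_surjective (quotπ M fun η => P η ∨ Q η) η v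
    by_cases hPη : P η
    · have : sm (quotπ M P) η m = 0 := by rw [← hc, sm_comp, ← hfst, hv', map_zero]
      rw [quot_injective hM.2.2 hP hη ((mem_compUnion_gen hη).2 hPη) this, map_zero]
    · by_cases hQη : Q η
      · have : sm (quotπ M Q) η m = 0 := by rw [← hd, sm_comp, ← hsnd, hv', map_zero]
        rw [quot_injective hM.2.2 hQ hη ((mem_compUnion_gen hη).2 hQη) this, map_zero]
      · haveI := quot_subsingleton hU (x := η) fun h => ((mem_compUnion_gen hη).1 h).elim hPη hQη
        exact Subsingleton.elim _ _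
  have hle := (euler_le_of_mono k hpure β' hU.2.1 hKc fun η hη w => by
    have hw : sm α η (sm (kernel.ι α) η w) = 0 := by rw [← sm_comp, kernel.condition, sm_zero]
    suffices ∃ v, sm β η v = sm (kernel.ι α) η w by
      obtain ⟨v, hv⟩ := this
      exact ⟨v, sm_injective (kernel.ι α) η (by rw [← sm_comp, hβ', hv])⟩
    generalize sm (kernel.ι α) η w = t at hw
    haveI := hP.1
    haveI := hQ.1
    obtain ⟨m, hm⟩ := sm_surjective (quotπ M P) η (sm biprod.fst η t)
    obtain ⟨m', hm'⟩ := sm_surjective (quotπ M Q) η (sm biprod.snd η t)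
    have ht := sm_biprod_total η t
    have hw' : sm (quotπ M fun η => P η ∧ Q η) η m = sm (quotπ M fun η => P η ∧ Q η) η m' := by
      have h1 := congrArg (sm α η) ht
      rw [map_add, ← sm_comp biprod.inl α η (sm biprod.fst η t), ← sm_comp biprod.inr α η (sm biprod.snd η t),
        biprod.inl_desc, biprod.inr_desc, sm_neg, hw] at h1
      conv_lhs => rw [← ha]
      conv_rhs => rw [← hb]
      rw [sm_comp, sm_comp, hm, hm']
      exact sub_eq_zero.1 (by rw [sub_eq_add_neg]; exact h1)
    have fin : ∀ n, sm (quotπ M P) η n = sm (quotπ M P) η m → sm (quotπ M Q) η n = sm (quotπ M Q) η m' →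
        ∃ v, sm β η v = t := fun n h1 h2 => ⟨sm (quotπ M fun η => P η ∨ Q η) η n, by
      rw [← sm_biprod_total η (sm β η _), hfst, hsnd, ← sm_comp _ c, ← sm_comp _ d, hc, hd, h1, h2, hm, hm', ht]⟩
    by_cases hPη : P η
    · by_cases hQη : Q η
      · have : m = m' := sub_eq_zero.1 (quot_injective hM.2.2 hW hη ((mem_compUnion_gen hη).2 ⟨hPη, hQη⟩)
          (by rw [map_sub, hw', sub_self]))
        exact fin m rfl (by rw [this])
      · haveI := quot_subsingleton hQ (x := η) fun h => hQη ((mem_compUnion_gen hη).1 h)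
        exact fin m rfl (Subsingleton.elim _ _)
    · haveI := quot_subsingleton hP (x := η) fun h => hPη ((mem_compUnion_gen hη).1 h)
      exact fin m' (Subsingleton.elim _ _) rfl).1
  show Curv2.euler k X _ + Curv2.euler k X _ ≤ Curv2.euler k X _ + Curv2.euler k X _
  omega

variable {E : X.Modules} {r : ℕ} (hE : FlatMod.IsFinLocFreeOfRank r E)

/-- The degree of a bundle on the component through a generic point. -/
def dloc (x : X) : ℤ := VarBase.psi k hE (ClSub.quotMod (VarBase.clIdeal x))

open Classical in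
/-- The sum of the degrees on the components selected by `P`. -/
def dsum (P : X → Prop) : ℤ := ∑ᶠ η : X, if IsGen η ∧ P η then dloc k hE η else 0

omit hpure in
open Classical in
theorem dsum_eq_sum [IsNoetherian X] (P : X → Prop) :
    dsum k hE P = ∑ η ∈ (finite_isGen (X := X)).toFinset, if P η then dloc k hE η else 0 := by
  rw [dsum, finsum_eq_sum_of_support_subset _ (s := (finite_isGen (X := X)).toFinset) fun η hη => by
    simp only [Function.mem_support, ne_eq] at hη
    simp only [Set.Finite.coe_toFinset, Set.mem_setOf_eq]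
    by_contra h
    exact hη (if_neg fun h' => h h'.1)]
  refine Finset.sum_congr rfl fun η hη => ?_
  have hg : IsGen η := by simpa using hη
  simp [hg]

omit hpure in
theorem dsum_add [IsNoetherian X] (P Q : X → Prop) :
    dsum k hE (fun η => P η ∨ Q η) + dsum k hE (fun η => P η ∧ Q η) = dsum k hE P + dsum k hE Q := by
  classical
  simp only [dsum_eq_sum, ← Finset.sum_add_distrib]
  refine Finset.sum_congr rfl fun η _ => ?_
  by_cases hP : P η <;> by_cases hQ : Q η <;> simp [hP, hQ]

omit hpure in
theorem dsum_congr {P Q : X → Prop} (h : ∀ η, IsGen η → (P η ↔ Q η)) : dsum k hE P = dsum k hE Q := by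
  classical
  refine finsum_congr fun η => if_congr ⟨fun ⟨a, b⟩ => ⟨a, (h η a).1 b⟩, fun ⟨a, b⟩ => ⟨a, (h η a).2 b⟩⟩ rfl rfl

omit hpure in
theorem dsum_false : dsum k hE (fun _ => False) = 0 := by
  classical
  exact finsum_eq_zero_of_forall_eq_zero fun η => if_neg fun h => h.2

/-- The degree on a reduced closed subscheme is the sum over its components. -/
theorem deg_pullback_eq_dsum {T : Scheme.{u}} (j : T ⟶ X) [IsClosedImmersion j] [IsReduced T] :
    @Curv2.deg k _ T ⟨j ≫ (X ↘ Spec (CommRingCat.of k))⟩ ((Scheme.Modules.pullback j).obj E) r =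
      dsum k hE (· ∈ Set.range j) := by
  classical
  haveI := CurveCohLib.isNoetherian_of_proper (k := k) (X := X)
  letI : T.Over (Spec (CommRingCat.of k)) := ⟨j ≫ (X ↘ Spec (CommRingCat.of k))⟩
  rw [VarBase.deg_pullback_eq_psi k j rfl hE]
  have hc : Coh.IsCoh ((Coh.push j).obj (Coh.structureModule T)) := QCoh.isCoh_push_structure j
  have hdim : topologicalKrullDim X ≤ ((1 : ℕ) : WithBot ℕ∞) := H23.TopDim.dim_eq_iSup_irreducibleComponents.trans_le
    (iSup₂_le fun C hC => (hpure C hC).le)
  rw [VarBase.psi_eq_compSum k hE hc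
    ((topologicalKrullDim_subspace_le X (CohB1.support ((Coh.push j).obj (Coh.structureModule T)))).trans hdim)]
  refine finsum_congr fun η => ?_
  by_cases hg : IsGen η
  · rw [if_pos ((dim_closure_eq_one_iff hpure η).2 hg)]
    by_cases hm : η ∈ Set.range j
    · rw [if_pos ⟨hg, hm⟩]
      obtain ⟨z, rfl⟩ := hm
      have hz : IsGen z := by
        refine isGen_of_mem_genericPoints ⟨isIrreducible_singleton.closure, fun S hS hle => ?_⟩
        obtain ⟨ξ, hξ⟩ := QuasiSober.sober hS.closure isClosed_closure
        have hs : ξ ⤳ z := hξ.specializes (subset_closure (hle (subset_closure rfl)))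
        obtain rfl := j.isClosedEmbedding.injective (hg.eq_of_specializes (hs.map j.continuous))
        exact subset_closure.trans hξ.def.ge
      have hl : VarBase.lenAt ((Coh.push j).obj (Coh.structureModule T)) (j z) = 1 := by
        rw [VarBase.lenAt, H23.ClosedPushLen.length_stalk, H23.ClosedPushLen.length_structureModule]
        letI := hz.toField
        haveI : IsSimpleModule (T.presheaf.stalk z) (T.presheaf.stalk z) :=
          isSimpleModule_self_iff_isUnit.2 ⟨inferInstance, fun a ha => (isUnit_iff_ne_zero).2 ha⟩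
        rw [Module.length_eq_one]
        rfl
      rw [hl, one_smul]
      rfl
    · rw [if_neg fun h => hm h.2, VarBase.lenAt_eq_zero
        (fun hs => hm (QCoh.support_push_subset j QCoh.isQCoh_structureModule hs)), zero_smul]
  · rw [if_neg fun h => hg ((dim_closure_eq_one_iff hpure η).1 h), if_neg fun h => hg h.1]

theorem rBeta_eq (Z : Set X) (hZ : IsClosed Z) (G : X.Modules) :
    TFOne.rBeta X k (X ↘ Spec (CommRingCat.of k)) Z hZ E r G =
      (r : ℤ) * Curv2.euler k X G + dsum k hE (· ∈ Z) := by
  have h := deg_pullback_eq_dsum k hpure hE (VecSt.subschι X Z hZ)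
  have hr : Set.range (VecSt.subschι X Z hZ) = Z :=
    (Scheme.IdealSheafData.range_subschemeι _).trans (Scheme.IdealSheafData.coe_support_vanishingIdeal _)
  rw [show dsum k hE (· ∈ Z) = dsum k hE (· ∈ Set.range (VecSt.subschι X Z hZ)) by rw [hr], ← h]
  rfl

theorem deg_eq_dsum : Curv2.deg k X E r = dsum k hE (fun _ => True) := by
  classical
  haveI := CurveCohLib.isNoetherian_of_proper (k := k) (X := X)
  have hdim : topologicalKrullDim X ≤ 1 := H23.TopDim.dim_eq_iSup_irreducibleComponents.trans_le
    (iSup₂_le fun C hC => (hpure C hC).le)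
  rw [VarBase.deg_eq_compSum k hdim hE]
  refine finsum_congr fun η => ?_
  by_cases hg : IsGen η
  · rw [if_pos ((dim_closure_eq_one_iff hpure η).2 hg), if_pos ⟨hg, trivial⟩]
    have hl : VarBase.lenAt (Coh.structureModule X) η = 1 := by
      rw [VarBase.lenAt, H23.ClosedPushLen.length_structureModule]
      letI := hg.toField
      haveI : IsSimpleModule (X.presheaf.stalk η) (X.presheaf.stalk η) :=
        isSimpleModule_self_iff_isUnit.2 ⟨inferInstance, fun a ha => (isUnit_iff_ne_zero).2 ha⟩
      rw [Module.length_eq_one]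
      rfl
    rw [hl, one_smul]
    rfl
  · rw [if_neg fun h => hg ((dim_closure_eq_one_iff hpure η).1 h), if_neg fun h => hg h.1]

end Groth.Agent.BunLib68.TF
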