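import Groth.Agent.BunLib68.TF.Snake
import Groth.Agent.QCoh.Stalk
import Groth.Agent.Algz7.Restrict
import Mathlib.RingTheory.Flat.TorsionFree
import Mathlib.RingTheory.Flat.Localization

/-!
# Restriction to the special fibre of a family over a discrete valuation ring
-/

set_option autoImplicit false
set_option backward.isDefEq.respectTransparency false
set_option backward.isDefEq.respectTransparency.types false
set_option linter.style.haveILetI false
set_option linter.unusedSectionVars false
set_option linter.overlappingInstances false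

universe u

open CategoryTheory CategoryTheory.Limits AlgebraicGeometry TopologicalSpace Opposite

noncomputable section

namespace Groth.Agent.BunLib68.TF

variable {R : Type u} [CommRing R] [IsDomain R] [IsDiscreteValuationRing R]
  {X : Scheme.{u}} [X.Over (Spec (CommRingCat.of R))]

/-- A module on which a uniformiser acts injectively is flat. -/
theorem isFlatOver_of_mono_smulMod {M : X.Modules} {t : R} (ht : Irreducible t)
    (h : Mono (Formal.smulMod R M t)) : FlatMod.IsFlatOver (X ↘ Spec (CommRingCat.of R)) M := by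
  intro x
  let f := X ↘ Spec (CommRingCat.of R)
  let S := Spec (CommRingCat.of R)
  let σ : R →+* Γ(S, ⊤) := (Scheme.ΓSpecIso (CommRingCat.of R)).inv.hom
  have hσ : Function.Surjective σ := fun a =>
    ⟨(Scheme.ΓSpecIso (CommRingCat.of R)).hom a, by
      show ((Scheme.ΓSpecIso (CommRingCat.of R)).hom ≫ (Scheme.ΓSpecIso (CommRingCat.of R)).inv) a = a
      rw [Iso.hom_inv_id]; rfl⟩
  haveI : IsPrincipalIdealRing Γ(S, ⊤) := IsPrincipalIdealRing.of_surjective σ hσ
  show @Module.Flat (S.presheaf.stalk (f.base x)) (M.presheaf.stalk x) _ _ (FlatMod.moduleStalkOver f M x)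
  letI := FlatMod.moduleStalkOver f M x
  letI : Algebra Γ(S, ⊤) (S.presheaf.stalk (f.base x)) := QCoh.stalkAlg (U := (⊤ : S.Opens)) trivial
  letI : Module Γ(S, ⊤) (M.presheaf.stalk x) :=
    Module.compHom _ (algebraMap Γ(S, ⊤) (S.presheaf.stalk (f.base x)))
  haveI : IsScalarTower Γ(S, ⊤) (S.presheaf.stalk (f.base x)) (M.presheaf.stalk x) :=
    IsScalarTower.of_algebraMap_smul fun _ _ => rfl
  haveI hloc := QCoh.isLocalization_stalk' (isAffineOpen_top S) (x := f.base x) trivial
  refine (Module.flat_iff_of_isLocalization (S.presheaf.stalk (f.base x))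
    ((isAffineOpen_top S).primeIdealOf ⟨f.base x, trivial⟩).asIdeal.primeCompl (M.presheaf.stalk x)).2
    (Module.Flat.flat_iff_torsion_eq_bot_of_isBezout.2 (eq_bot_iff.2 ?_))
  rintro v ⟨⟨a, ha⟩, hav⟩
  obtain ⟨r, rfl⟩ := hσ a
  have hr : r ≠ 0 := fun h0 => nonZeroDivisors.ne_zero ha (by rw [h0, map_zero])
  have key : ∀ (c : R) (w : M.presheaf.stalk x), sm (Formal.smulMod R M c) x w = σ c • w := fun c w => by
    obtain ⟨U, hx, m, rfl⟩ := TopCat.Presheaf.exists_germ_eq M.presheaf w
    rw [sm_germ, FFun.smulMod_app, QCoh.germ_smul']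
    show _ = (f.stalkMap x).hom (S.presheaf.germ ⊤ (f.base x) trivial (σ c)) • M.presheaf.germ U x hx m
    congr 1
    exact (TopCat.Presheaf.germ_res_apply X.presheaf (homOfLE (le_top : U ≤ ⊤)) x hx _).trans
      (Scheme.Hom.germ_stalkMap_apply f ⊤ x trivial (σ c)).symm
  obtain ⟨n, w, rfl⟩ := IsDiscreteValuationRing.eq_unit_mul_pow_irreducible hr ht
  have h0 : σ w • σ (t ^ n) • v = 0 := by rw [← mul_smul, ← map_mul]; exact hav
  have h1 : σ (t ^ n) • v = 0 := (w.isUnit.map σ).smul_eq_zero.1 h0
  show v = 0
  haveI := h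
  revert h1
  have hgen : ∀ m : ℕ, σ (t ^ m) • v = 0 → v = 0 := fun m => by
    induction m with
    | zero => intro h1; rwa [pow_zero, map_one, one_smul] at h1
    | succ m ih =>
      intro h1
      refine ih (sm_injective (Formal.smulMod R M t) x ?_)
      rw [map_zero, key, ← mul_smul, ← map_mul, ← pow_succ']
      exact h1
  exact hgen n

variable {Xs : Scheme.{u}} {i : Xs ⟶ X} {q : Xs ⟶ Spec (CommRingCat.of (IsLocalRing.ResidueField R))}
  (hsq : IsPullback i q (X ↘ Spec (CommRingCat.of R)) (Spec.map (CommRingCat.ofHom (IsLocalRing.residue R))))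
  {t : R} (ht : Irreducible t)

include hsq in
theorem isClosedImmersion_fibre : IsClosedImmersion i := by
  haveI : IsClosedImmersion (Spec.map (CommRingCat.ofHom (IsLocalRing.residue R))) :=
    IsClosedImmersion.spec_of_surjective _ Ideal.Quotient.mk_surjective
  exact MorphismProperty.of_isPullback hsq.flip inferInstance

/-- The unit of restriction to the special fibre. -/
abbrev runit (i : Xs ⟶ X) (M : X.Modules) :
    M ⟶ (Scheme.Modules.pushforward i).obj ((Scheme.Modules.pullback i).obj M) :=
  (Scheme.Modules.pullbackPushforwardAdjunction i).unit.app M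

theorem runit_naturality (i : Xs ⟶ X) {M N : X.Modules} (g : M ⟶ N) :
    runit i M ≫ (Scheme.Modules.pushforward i).map ((Scheme.Modules.pullback i).map g) = g ≫ runit i N :=
  ((Scheme.Modules.pullbackPushforwardAdjunction i).unit.naturality g).symm

include hsq ht in
/-- Restriction to the special fibre is the cokernel of multiplication by the uniformiser. -/
theorem fibre_exact {M : X.Modules} (hM : Coh.IsQCoh M) :
    ∃ h : Formal.smulMod R M t ≫ runit i M = 0,
      (ShortComplex.mk (Formal.smulMod R M t) (runit i M) h).Exact ∧ Epi (runit i M) := by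
  haveI := isClosedImmersion_fibre hsq
  obtain ⟨h0, hiso⟩ := AmpleVan.unit_desc_iso (J := IsLocalRing.maximalIdeal R) (i := i) (q := q) hsq hM
  haveI := hiso
  have hm : IsLocalRing.maximalIdeal R = Ideal.span {t} := ht.maximalIdeal_eq
  have htη : Formal.smulMod R M t ≫ runit i M = 0 :=
    Algz7.smulMod_comp_eq_zero h0 (hm ▸ Ideal.mem_span_singleton_self t)
  have hfac : ∀ {Z : X.Modules} (g : M ⟶ Z), Formal.smulMod R M t ≫ g = 0 →
      Formal.smulFamily (IsLocalRing.maximalIdeal R) M ≫ g = 0 := fun g hg => by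
    refine Sigma.hom_ext _ _ fun a => ?_
    obtain ⟨b, hb⟩ := Ideal.mem_span_singleton'.1 (hm ▸ a.2 : (a : R) ∈ Ideal.span {t})
    rw [comp_zero, ← Category.assoc, Formal.smulFamily, Sigma.ι_desc, ← hb, FFun.smulMod_mul, Category.assoc,
      FFun.smulMod_naturality g b, ← Category.assoc, hg, zero_comp]
  haveI hepi : Epi (runit i M) := by
    show Epi ((Scheme.Modules.pullbackPushforwardAdjunction i).unit.app M)
    rw [← cokernel.π_desc (Formal.smulFamily _ M) _ h0]
    exact epi_comp _ _
  have e : runit i M ≫ inv (cokernel.desc _ _ h0) = cokernel.π _ := by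
    rw [IsIso.comp_inv_eq, cokernel.π_desc]
  refine ⟨htη, ShortComplex.exact_of_g_is_cokernel _ (CokernelCofork.IsColimit.ofπ _ _
    (fun {Z} g hg => inv (cokernel.desc _ _ h0) ≫ cokernel.desc _ g (hfac g hg)) (fun {Z} g hg => ?_)
    (fun {Z} g hg b hb => ?_)), hepi⟩
  · rw [← Category.assoc]
    exact (congrArg (· ≫ _) e).trans (cokernel.π_desc _ _ _)
  · rw [← cancel_epi (runit i M)]
    refine hb.trans ?_
    rw [← Category.assoc]
    exact ((congrArg (· ≫ _) e).trans (cokernel.π_desc _ _ _)).symm

/-- Direct image along a closed immersion is faithful on quasi-coherent modules. -/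
theorem push_map_eq_zero [IsClosedImmersion i] {A B : Xs.Modules} (hA : Coh.IsQCoh A) {g : A ⟶ B}
    (h : (Scheme.Modules.pushforward i).map g = 0) : g = 0 := by
  haveI := AmpleVan.isIso_counit i hA
  let adj := Scheme.Modules.pullbackPushforwardAdjunction i
  rw [← cancel_epi (adj.counit.app A), comp_zero]
  refine ((adj.counit.naturality g).symm).trans ?_
  show (Scheme.Modules.pullback i).map ((Scheme.Modules.pushforward i).map g) ≫ _ = 0
  rw [h, Functor.map_zero, zero_comp]

include hsq ht in
/-- Exactness on the special fibre of a pair of maps composing to the uniformiser. -/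
theorem fibre_zero_of_comp_zero {M N : X.Modules} (hM : Coh.IsQCoh M) (hN : Coh.IsQCoh N)
    (a : N ⟶ M) (b : M ⟶ N) [Mono (Formal.smulMod R M t)] (hab : a ≫ b = Formal.smulMod R N t)
    (hba : b ≫ a = Formal.smulMod R M t) {Z : Xs.Modules} (hZ : Coh.IsQCoh Z)
    (g : Z ⟶ (Scheme.Modules.pullback i).obj M) (hg : g ≫ (Scheme.Modules.pullback i).map b = 0) :
    g ≫ cokernel.π ((Scheme.Modules.pullback i).map a) = 0 := by
  haveI := isClosedImmersion_fibre hsq
  let P := Scheme.Modules.pushforward i
  haveI : Mono b := by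
    haveI : Mono (b ≫ a) := by rw [hba]; infer_instance
    exact mono_of_mono b a
  obtain ⟨-, -, hepi⟩ := fibre_exact hsq ht hM
  haveI := hepi
  obtain ⟨htN, hexN, -⟩ := fibre_exact hsq ht hN
  obtain ⟨Z', e, he, g', hg'⟩ := surjective_up_to_refinements_of_epi (runit i M) (P.map g)
  have h1 : (g' ≫ b) ≫ runit i N = 0 := by
    rw [Category.assoc, ← runit_naturality, ← Category.assoc, ← hg', Category.assoc, ← Functor.map_comp, hg,
      Functor.map_zero, comp_zero]
  obtain ⟨Z'', e', he', y, hy⟩ := hexN.exact_up_to_refinements (g' ≫ b) h1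
  have h2 : e' ≫ g' = y ≫ a := by
    rw [← cancel_mono b, Category.assoc, Category.assoc, hab]
    exact hy
  refine push_map_eq_zero (i := i) hZ ?_
  haveI := he
  haveI := he'
  rw [← cancel_epi e, ← cancel_epi e', comp_zero, comp_zero, Functor.map_comp,
    ← Category.assoc e, hg', Category.assoc, ← Category.assoc e', h2, Category.assoc,
    ← Category.assoc a, ← runit_naturality, Category.assoc, ← Functor.map_comp, cokernel.condition,
    Functor.map_zero, comp_zero, comp_zero]

end Groth.Agent.BunLib68.TF
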