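import Groth.Agent.BunLib68.TF.Euler
import Groth.Agent.ASBunK.HomFinite
import Groth.Agent.FFun.Basic
import Groth.Prelude.Def_Formal
import Mathlib.AlgebraicGeometry.Geometrically.Integral
import Mathlib.RingTheory.AdjoinRoot

/-!
# Endomorphisms of rank one sheaves act by scalars at the generic points
-/

set_option autoImplicit false
set_option backward.isDefEq.respectTransparency false
set_option backward.isDefEq.respectTransparency.types false
set_option linter.style.haveILetI false
set_option linter.unusedSectionVars false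
set_option linter.overlappingInstances false

universe u

open CategoryTheory CategoryTheory.Limits AlgebraicGeometry TopologicalSpace Opposite
open scoped TensorProduct

noncomputable section

namespace Groth.Agent.BunLib68.TF

variable {X : Scheme.{u}} (k : Type u) [Field k] [X.Over (Spec (CommRingCat.of k))]

/-- The scalars of the base field in a local ring. -/
def rho (x : X) : k →+* X.presheaf.stalk x :=
  (X.presheaf.germ ⊤ x trivial).hom.comp (Coh.toGlobal (X ↘ Spec (CommRingCat.of k)))

theorem sm_smulMod (M : X.Modules) (c : k) (x : X) (v : M.presheaf.stalk x) :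
    sm (Formal.smulMod k M c) x v = rho k x c • v := by
  obtain ⟨U, hx, m, rfl⟩ := TopCat.Presheaf.exists_germ_eq M.presheaf v
  rw [sm_germ, FFun.smulMod_app, QCoh.germ_smul']
  exact congrArg (fun r => r • M.presheaf.germ U x hx m)
    (TopCat.Presheaf.germ_res_apply X.presheaf (homOfLE (le_top : U ≤ ⊤)) x hx _)

theorem rho_ne_zero {η : X} (hη : IsGen η) {c : k} (hc : c ≠ 0) : rho k η c ≠ 0 := by
  haveI := hη.nontrivial
  exact ((isUnit_iff_ne_zero.2 hc).map (rho k η)).ne_zero

/-- An element of a domain over a field integral over it lies in the field if the domain stays a domain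
after all field extensions. -/
theorem mem_range_of_isDomain_tensor {k S : Type u} [Field k] [CommRing S] [IsDomain S] [Algebra k S]
    (hS : ∀ (L : Type u) [Field L] [Algebra k L], IsDomain (S ⊗[k] L)) {s : S} (hs : IsIntegral k s) :
    ∃ c : k, algebraMap k S c = s := by
  have hirr : Irreducible (minpoly k s) := minpoly.irreducible hs
  haveI := Fact.mk hirr
  let L := AdjoinRoot (minpoly k s)
  haveI : FiniteDimensional k L := (AdjoinRoot.powerBasis hirr.ne_zero).finite
  let φ : L →ₐ[k] S := AdjoinRoot.liftAlgHom _ (Algebra.ofId k S) s (minpoly.aeval k s)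
  haveI := hS L
  have hφ : Function.Injective φ := φ.toRingHom.injective
  let j : L ⊗[k] L →ₐ[k] S ⊗[k] L := Algebra.TensorProduct.map φ (AlgHom.id k L)
  have hj : Function.Injective j :=
    TensorProduct.map_injective_of_flat_flat φ.toLinearMap (LinearMap.id (R := k) (M := L)) hφ Function.injective_id
  haveI : IsDomain (L ⊗[k] L) := Function.Injective.isDomain j hj
  have hF : IsField (L ⊗[k] L) := isField_of_isIntegral_of_isField' (R := k) (Field.toIsField k)
  letI := hF.toField
  let m : L ⊗[k] L →ₐ[k] L :=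
    Algebra.TensorProduct.lift (AlgHom.id k L) (AlgHom.id k L) fun _ _ => Commute.all _ _
  have h1 := LinearMap.finrank_le_finrank_of_injective (f := m.toLinearMap) m.toRingHom.injective
  rw [Module.finrank_tensorProduct] at h1
  have h2 : 0 < Module.finrank k L := Module.finrank_pos
  have h3 : Module.finrank k L = 1 := by nlinarith
  obtain ⟨c, hc⟩ : ∃ c : k, c • (1 : L) = AdjoinRoot.root (minpoly k s) :=
    (finrank_eq_one_iff_of_nonzero' (1 : L) one_ne_zero).1 h3 _
  refine ⟨c, ?_⟩
  have h4 := congrArg φ hc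
  rw [map_smul, map_one, Algebra.smul_def, mul_one] at h4
  rw [h4]
  exact AdjoinRoot.liftAlgHom_root _ _ _ (minpoly.aeval k s)

variable [IsReduced X] [IsNoetherian X]

/-- The base field is algebraically closed in the function field of a geometrically integral component. -/
theorem mem_range_rho {η : X} (hη : IsGen η)
    (hgi : GeometricallyIntegral (VecSt.subschι X (closure ({η} : Set X)) isClosed_closure ≫
      (X ↘ Spec (CommRingCat.of k))))
    {a : X.presheaf.stalk η} {p : Polynomial k} (hp : p.Monic) (hpa : p.eval₂ (rho k η) a = 0) :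
    ∃ c : k, rho k η c = a := by
  obtain ⟨U₀, hU₀, s₀, rfl⟩ := TopCat.Presheaf.exists_germ_eq X.presheaf a
  obtain ⟨V, hV, hηV, hVU⟩ := exists_isAffineOpen_mem_and_subset
    (U := U₀ ⊓ openOn (fun ξ => ξ = η)) (x := η) ⟨hU₀, (mem_openOn hη).2 rfl⟩
  have hVU₀ : V ≤ U₀ := fun y hy => (hVU hy).1
  let S := Γ(X, V)
  let g : S →+* X.presheaf.stalk η := (X.presheaf.germ V η hηV).hom
  have hgen : ∀ y : X, y ∈ V → η ⤳ y := by
    intro y hy
    obtain ⟨ξ, hξ, hs⟩ := exists_isGen y
    have hξV : ξ ∈ openOn (fun ξ => ξ = η) := (hVU (hs.mem_open V.2 hy)).2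
    exact (mem_openOn hξ).1 hξV ▸ hs
  have hinj : Function.Injective g := (injective_iff_map_eq_zero g).2 fun r hr => by
    refine (basicOpen_eq_bot_iff r).1 (eq_bot_iff.2 fun y hy => False.elim ?_)
    have hyV : y ∈ V := X.basicOpen_le r hy
    have h1 : η ∈ X.basicOpen r := (hgen y hyV).mem_open (X.basicOpen r).2 hy
    rw [X.mem_basicOpen r η hηV] at h1
    haveI := hη.nontrivial
    exact h1.ne_zero hr
  letI : Field (X.presheaf.stalk η) := hη.toField
  haveI : IsDomain S := hinj.isDomain g
  let q := X ↘ Spec (CommRingCat.of k)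
  let φ : CommRingCat.of k ⟶ CommRingCat.of S :=
    (Scheme.ΓSpecIso (CommRingCat.of k)).inv ≫ q.appLE ⊤ V (by simp)
  have hφ : hV.fromSpec ≫ q = Spec.map φ := by
    rw [← IsAffineOpen.SpecMap_appLE_fromSpec q (isAffineOpen_top _) hV (by simp), IsAffineOpen.fromSpec_top,
      Scheme.isoSpec_Spec_inv, ← Spec.map_comp]
  letI : Algebra k S := φ.hom.toAlgebra
  have hg : ∀ c : k, g (algebraMap k S c) = rho k η c := fun c => by
    show X.presheaf.germ V η hηV (φ c) = _
    show X.presheaf.germ V η hηV (X.presheaf.map (homOfLE le_top).op (q.appTop _)) = _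
    rw [TopCat.Presheaf.germ_res_apply]
    rfl
  let s : S := X.presheaf.map (homOfLE hVU₀).op s₀
  have hgs : g s = X.presheaf.germ U₀ η hU₀ s₀ := TopCat.Presheaf.germ_res_apply _ _ _ _ _
  have hs : IsIntegral k s := ⟨p, hp, hinj (by
    rw [map_zero, Polynomial.hom_eval₂, hgs, show g.comp (algebraMap k S) = rho k η from RingHom.ext hg]
    exact hpa)⟩
  suffices hdom : ∀ (L : Type u) [Field L] [Algebra k L], IsDomain (S ⊗[k] L) by
    obtain ⟨c, hc⟩ := mem_range_of_isDomain_tensor (k := k) (S := S) hdom hs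
    exact ⟨c, by rw [← hg, hc, hgs]⟩
  intro L _ _
  let C : Set X := closure ({η} : Set X)
  let ι := VecSt.subschι X C isClosed_closure
  haveI := hgi
  haveI : IsClosedImmersion (ι ∣_ V) := IsZariskiLocalAtTarget.restrict (inferInstanceAs (IsClosedImmersion ι)) V
  haveI : Surjective (ι ∣_ V) := ⟨fun y => by
    have hy : y.1 ∈ Set.range ι := by
      rw [show Set.range ι = C from (Scheme.IdealSheafData.range_subschemeι _).trans
        (Scheme.IdealSheafData.coe_support_vanishingIdeal _)]
      exact (hgen y.1 y.2).mem_closure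
    obtain ⟨z, hz⟩ := hy
    refine ⟨⟨z, show ι z ∈ V from hz ▸ y.2⟩, Subtype.ext ?_⟩
    exact (congrArg (fun g : (ι ⁻¹ᵁ V : Scheme) ⟶ X => g ⟨z, show ι z ∈ V from hz ▸ y.2⟩)
      (morphismRestrict_ι ι V)).trans hz⟩
  haveI : IsIso (ι ∣_ V) := isIso_of_isClosedImmersion_of_surjective _
  let j : Spec (CommRingCat.of S) ⟶ VecSt.subsch X C isClosed_closure :=
    hV.isoSpec.inv ≫ inv (ι ∣_ V) ≫ (ι ⁻¹ᵁ V).ι
  have hj : j ≫ ι ≫ q = Spec.map φ := by
    rw [← hφ]
    simp only [j, Category.assoc]
    rw [← morphismRestrict_ι_assoc, IsIso.inv_hom_id_assoc, IsAffineOpen.isoSpec_inv_ι_assoc]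
  let l := Spec.map (CommRingCat.ofHom (algebraMap k L))
  let T := pullback (Spec.map φ) l
  haveI : IsIntegral (pullback (ι ≫ q) l) :=
    GeometricallyIntegral.geometrically_isIntegral (f := ι ≫ q) l _ _ (.of_hasPullback _ _)
  let J : T ⟶ pullback (ι ≫ q) l :=
    pullback.map _ _ _ _ j (𝟙 _) (𝟙 _) (by rw [Category.comp_id, hj]) (by simp)
  haveI : IsOpenImmersion j := inferInstance
  haveI : IsOpenImmersion J := inferInstance
  haveI : Nonempty T := by
    obtain ⟨t, -⟩ := (inferInstance : Surjective (pullback.fst (Spec.map φ) l)).surj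
      (IsLocalRing.closedPoint (X.presheaf.stalk η) |> Spec.map (CommRingCat.ofHom g))
    exact ⟨t⟩
  haveI : IsIntegral T := isIntegral_of_isOpenImmersion J
  haveI : IsIntegral (Spec (CommRingCat.of (S ⊗[k] L))) :=
    isIntegral_of_isOpenImmersion (pullbackSpecIso k S L).inv
  exact (affine_isIntegral_iff (CommRingCat.of (S ⊗[k] L))).1 inferInstance

variable [IsLocallyNoetherian X] [IsProper (X ↘ Spec (CommRingCat.of k))]

/-- An endomorphism of a rank one sheaf is a scalar at each generic point. -/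
theorem exists_scalar {M : X.Modules} (hM : TFOne.IsTF1 X M)
    (hgi : ∀ (C : Set X) (hC : C ∈ irreducibleComponents (X : Type u)),
      GeometricallyIntegral (VecSt.subschι X C (isClosed_of_mem_irreducibleComponents C hC) ≫
        (X ↘ Spec (CommRingCat.of k))))
    {η : X} (hη : IsGen η) (f : M ⟶ M) : ∃ c : k, ∀ v, sm f η v = rho k η c • v := by
  letI : Field (X.presheaf.stalk η) := hη.toField
  haveI := nontrivial_stalk hM.2.2 hη
  obtain ⟨v₀, hv₀⟩ := exists_ne (0 : M.presheaf.stalk η)
  have hex : ∀ φ : M ⟶ M, ∃ a : X.presheaf.stalk η, ∀ v, sm φ η v = a • v := fun φ => by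
    obtain ⟨a, ha⟩ := IsTF1.exists_smul_eq hM.2.2 hη hv₀ (sm φ η v₀)
    refine ⟨a, fun v => ?_⟩
    obtain ⟨b, rfl⟩ := IsTF1.exists_smul_eq hM.2.2 hη hv₀ v
    rw [map_smul, ← ha, smul_comm]
  choose χ hχ using hex
  have huniq : ∀ a b : X.presheaf.stalk η, (∀ v : M.presheaf.stalk η, a • v = b • v) → a = b := fun a b h => by
    by_contra hne
    refine hv₀ ((hη.isUnit (sub_ne_zero.2 hne)).smul_eq_zero.1 ?_)
    rw [sub_smul, h v₀, sub_self]
  letI : Algebra k (X.presheaf.stalk η) := (rho k η).toAlgebra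
  have hsm : ∀ (c : k) (φ : M ⟶ M), c • φ = φ ≫ Formal.smulMod k M c := fun c φ => by
    refine Scheme.Modules.hom_ext _ _ fun U => ?_
    ext m
    exact KLin.smul_app_apply c φ U m
  let ev : (M ⟶ M) →ₗ[k] X.presheaf.stalk η :=
    { toFun := χ
      map_add' := fun φ ψ => huniq _ _ fun v => by rw [← hχ, sm_add, hχ, hχ, add_smul]
      map_smul' := fun c φ => huniq _ _ fun v => by
        rw [← hχ, hsm, sm_comp, sm_smulMod, hχ, RingHom.id_apply, Algebra.smul_def, mul_smul]
        rfl }
  let A : Subalgebra k (X.presheaf.stalk η) :=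
    { carrier := Set.range χ
      mul_mem' := by
        rintro _ _ ⟨φ, rfl⟩ ⟨ψ, rfl⟩
        exact ⟨ψ ≫ φ, huniq _ _ fun v => by rw [← hχ, sm_comp, hχ φ, hχ ψ, mul_smul]⟩
      add_mem' := by
        rintro _ _ ⟨φ, rfl⟩ ⟨ψ, rfl⟩
        exact ⟨φ + ψ, ev.map_add φ ψ⟩
      algebraMap_mem' := fun c => ⟨Formal.smulMod k M c, huniq _ _ fun v => by rw [← hχ, sm_smulMod]; rfl⟩ }
  haveI := ASBunK.finite_hom k hM.1 hM.1 (X := X)
  haveI : Module.Finite k A :=
    Module.Finite.of_surjective (ev.codRestrict A.toSubmodule fun φ => ⟨φ, rfl⟩)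
      (fun ⟨_, φ, e⟩ => ⟨φ, Subtype.ext e⟩)
  obtain ⟨p, hp, hpa⟩ : IsIntegral k (χ f) :=
    IsIntegral.map A.val (Algebra.IsIntegral.isIntegral (R := k) (⟨χ f, f, rfl⟩ : A))
  obtain ⟨c, hc⟩ := mem_range_rho k hη (hgi _ hη.component_mem) hp hpa
  exact ⟨c, fun v => by rw [hc, hχ]⟩

end Groth.Agent.BunLib68.TF
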