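import Groth.Agent.BunLib68.TF.Algorithms
import Groth.Agent.GrpSchLib.SmoothRegular
import Groth.Agent.H23.EquidimFibres
import Groth.Agent.H23.RedSub
import Groth.Agent.KZ.LFRes
import Groth.Agent.QCoh.LocFree
import Groth.Agent.S18844

/-!
# From conditions on the special fibre to conditions on all geometric fibres
-/

set_option autoImplicit false
set_option backward.isDefEq.respectTransparency false
set_option backward.isDefEq.respectTransparency.types false
set_option linter.style.haveILetI false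
set_option linter.unusedSectionVars false
set_option linter.overlappingInstances false

universe u

open CategoryTheory CategoryTheory.Limits AlgebraicGeometry TopologicalSpace Opposite

noncomputable section

namespace Groth.Agent.BunLib68.TF

/-- A point at which the local ring is a domain lies on one component only. -/
theorem gen_unique_of_domain {X : Scheme.{u}} {x η η' : X} [IsDomain (X.presheaf.stalk x)]
    (hη : IsGen η) (hη' : IsGen η') (h : η ⤳ x) (h' : η' ⤳ x) : η = η' := by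
  let b : PrimeSpectrum (X.presheaf.stalk x) := ⟨⊥, Ideal.isPrime_bot⟩
  have key : ∀ ζ, IsGen ζ → ζ ⤳ x → X.fromSpecStalk x b = ζ := fun ζ hζ hs => by
    obtain ⟨P, rfl⟩ : ζ ∈ Set.range (X.fromSpecStalk x) := by rw [Scheme.range_fromSpecStalk]; exact hs
    exact hζ.eq_of_specializes (((PrimeSpectrum.le_iff_specializes b P).1 bot_le).map (X.fromSpecStalk x).continuous)
  exact (key η hη h).symm.trans (key η' hη' h')

variable {R : Type u} [CommRing R] [IsDomain R] [IsDiscreteValuationRing R]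
  {X : Scheme.{u}} [X.Over (Spec (CommRingCat.of R))] [IsProper (X ↘ Spec (CommRingCat.of R))]
  [Flat (X ↘ Spec (CommRingCat.of R))]
  {Xs : Scheme.{u}} [Xs.Over (Spec (CommRingCat.of (IsLocalRing.ResidueField R)))]
  [IsProper (Xs ↘ Spec (CommRingCat.of (IsLocalRing.ResidueField R)))] [IsReduced Xs] [IsNoetherian Xs]
  [GeometricallyReduced (Xs ↘ Spec (CommRingCat.of (IsLocalRing.ResidueField R)))]
  {i : Xs ⟶ X}
  (hsq : IsPullback i (Xs ↘ Spec (CommRingCat.of (IsLocalRing.ResidueField R))) (X ↘ Spec (CommRingCat.of R))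
    (Spec.map (CommRingCat.ofHom (IsLocalRing.residue R))))
  (hpure : ∀ C ∈ irreducibleComponents (Xs : Type u), topologicalKrullDim C = 1)
  (hgi : ∀ (C : Set Xs) (hC : C ∈ irreducibleComponents (Xs : Type u)),
    GeometricallyIntegral (VecSt.subschι Xs C (isClosed_of_mem_irreducibleComponents C hC) ≫
      (Xs ↘ Spec (CommRingCat.of (IsLocalRing.ResidueField R)))))
  {t : R} (ht : Irreducible t) {E : X.Modules} {r : ℕ} (hE : FlatMod.IsFinLocFreeOfRank r E)

include hsq in
theorem fibre_cases {Ω : Type u} [Field Ω] (s : Spec (CommRingCat.of Ω) ⟶ Spec (CommRingCat.of R))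
    {Y : Scheme.{u}} {i' : Y ⟶ X} {qY : Y ⟶ Spec (CommRingCat.of Ω)}
    (h : IsPullback i' qY (X ↘ Spec (CommRingCat.of R)) s) :
    (∃ _ : Algebra R Ω, Function.Injective (algebraMap R Ω) ∧ s = Spec.map (CommRingCat.ofHom (algebraMap R Ω))) ∨
    (∃ (_ : Algebra (IsLocalRing.ResidueField R) Ω) (g : Y ⟶ Xs),
      IsPullback g qY (Xs ↘ Spec (CommRingCat.of (IsLocalRing.ResidueField R)))
        (Spec.map (CommRingCat.ofHom (algebraMap (IsLocalRing.ResidueField R) Ω))) ∧ g ≫ i = i' ∧
      s = Spec.map (CommRingCat.ofHom (algebraMap (IsLocalRing.ResidueField R) Ω)) ≫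
        Spec.map (CommRingCat.ofHom (IsLocalRing.residue R))) := by
  obtain ⟨ψ, rfl⟩ := Spec.map_surjective s
  by_cases hk : RingHom.ker ψ.hom = ⊥
  · exact Or.inl ⟨ψ.hom.toAlgebra, (RingHom.injective_iff_ker_eq_bot _).2 hk, rfl⟩
  · have hm : RingHom.ker ψ.hom = IsLocalRing.maximalIdeal R :=
      IsLocalRing.eq_maximalIdeal (Ideal.IsPrime.isMaximal (RingHom.ker_isPrime ψ.hom) hk)
    let χ : IsLocalRing.ResidueField R →+* Ω := Ideal.Quotient.lift _ ψ.hom fun a ha => (hm ▸ ha : a ∈ RingHom.ker ψ.hom)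
    letI := χ.toAlgebra
    have he : Spec.map ψ = Spec.map (CommRingCat.ofHom (algebraMap (IsLocalRing.ResidueField R) Ω)) ≫
        Spec.map (CommRingCat.ofHom (IsLocalRing.residue R)) := by
      rw [← Spec.map_comp]
      rfl
    rw [he] at h
    refine Or.inr ⟨χ.toAlgebra, hsq.lift i' (qY ≫ Spec.map (CommRingCat.ofHom χ)) (by rw [h.w, Category.assoc]; rfl),
      IsPullback.of_right (h₁₂ := i) (by rw [hsq.lift_fst]; exact h) (hsq.lift_snd _ _ _) hsq,
      hsq.lift_fst _ _ _, he⟩

/-- A section value condition: properties of geometric closed fibres. -/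
theorem closed_fibre_facts {Ω : Type u} [Field Ω] [Algebra (IsLocalRing.ResidueField R) Ω] {Y : Scheme.{u}}
    [Y.Over (Spec (CommRingCat.of Ω))] {g : Y ⟶ Xs}
    (hg : IsPullback g (Y ↘ Spec (CommRingCat.of Ω)) (Xs ↘ Spec (CommRingCat.of (IsLocalRing.ResidueField R)))
      (Spec.map (CommRingCat.ofHom (algebraMap (IsLocalRing.ResidueField R) Ω)))) :
    IsReduced Y ∧ IsProper (Y ↘ Spec (CommRingCat.of Ω)) ∧ IsNoetherian Y ∧ Flat g ∧ Surjective g := by
  haveI : IsProper (Y ↘ Spec (CommRingCat.of Ω)) := MorphismProperty.of_isPullback hg inferInstance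
  exact ⟨GeometricallyReduced.geometrically_isReduced
    (f := Xs ↘ Spec (CommRingCat.of (IsLocalRing.ResidueField R))) _ _ _ hg, inferInstance,
    CurveCohLib.isNoetherian_of_proper (k := Ω) (X := Y), flat_proj hg, surjective_proj hg⟩

include hsq ht in
/-- An arbitrary extension is a state of the algorithms. -/
theorem good_of_relTF1 {I : X.Modules} (hI : TFOne.IsRelTF1 (X ↘ Spec (CommRingCat.of R)) I) : Good i t I := by
  have hc : Coh.IsCoh I := ⟨QCoh.isQCoh_of_isFP hI.2.1, QCoh.isFT_of_isFP hI.2.1⟩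
  refine ⟨hc, mono_smulMod_of_flat hI.1 ht.ne_zero, ?_⟩
  let κ := IsLocalRing.ResidueField R
  let Ω := AlgebraicClosure κ
  let s := Spec.map (CommRingCat.ofHom (algebraMap κ Ω))
  let Y := pullback (Xs ↘ Spec (CommRingCat.of κ)) s
  letI : Y.Over (Spec (CommRingCat.of Ω)) := ⟨pullback.snd (Xs ↘ Spec (CommRingCat.of κ)) s⟩
  have hg : IsPullback (pullback.fst (Xs ↘ Spec (CommRingCat.of κ)) s) (Y ↘ Spec (CommRingCat.of Ω))
      (Xs ↘ Spec (CommRingCat.of κ)) s := IsPullback.of_hasPullback _ _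
  obtain ⟨h1, -, h2, h3, h4⟩ := closed_fibre_facts (R := R) (Xs := Xs) hg
  haveI := h1; haveI := h3; haveI := h4
  haveI := LocallyOfFiniteType.isLocallyNoetherian (X ↘ Spec (CommRingCat.of R))
  refine isTF1_of_pullback (pullback.fst (Xs ↘ Spec (CommRingCat.of κ)) s) (ZClosLib.isCoh_pullback i hc) ?_
  exact isTF1_iso ((Scheme.Modules.pullbackComp _ i).app I).symm (hI.2.2 Ω _ Y _ _ (hg.paste_horiz hsq))

include hsq ht in
/-- The states reached are relatively torsion-free of rank one. -/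
theorem relTF1_of_good {I J : X.Modules} (hI : TFOne.IsRelTF1 (X ↘ Spec (CommRingCat.of R)) I) (hJ : Good i t J)
    (hg : GenIso (R := R) I J) : TFOne.IsRelTF1 (X ↘ Spec (CommRingCat.of R)) J := by
  haveI := LocallyOfFiniteType.isLocallyNoetherian (X ↘ Spec (CommRingCat.of R))
  refine ⟨isFlatOver_of_mono_smulMod ht hJ.mono, KZ.LFRes.isFP_of_isCoh hJ.coh, fun Ω _ _ s Y i' qY h => ?_⟩
  rcases fibre_cases hsq s h with ⟨hA, hinj, rfl⟩ | ⟨hA, g, hgY, rfl, -⟩
  · letI := hA
    obtain ⟨e⟩ := hg Ω hinj Y i' qY h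
    exact isTF1_iso e (hI.2.2 Ω _ Y i' qY h)
  · letI := hA
    letI : Y.Over (Spec (CommRingCat.of Ω)) := ⟨qY⟩
    obtain ⟨h1, -, h2, h3, -⟩ := closed_fibre_facts (R := R) (Xs := Xs) (Ω := Ω) (Y := Y) (g := g) hgY
    haveI := h1; haveI := h2; haveI := h3
    exact isTF1_iso ((Scheme.Modules.pullbackComp g i).app J) (isTF1_pullback g hJ.tf1)

include hsq hpure hgi in
/-- Semistability spreads from the special fibre to the geometric fibres. -/
theorem fibSemistable {J : X.Modules} (hJ : Good i t J) (hgen : GenSS (R := R) J E r) (hs : SSState R i hE J) :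
    TFOne.FibSemistable (X ↘ Spec (CommRingCat.of R)) J E r := by
  intro Ω _ _ s Y i' qY h
  rcases fibre_cases hsq s h with ⟨hA, hinj, rfl⟩ | ⟨hA, g, hgY, rfl, -⟩
  · letI := hA
    exact hgen Ω hinj Y i' qY h
  · letI := hA
    letI : Y.Over (Spec (CommRingCat.of Ω)) := ⟨qY⟩
    obtain ⟨h1, h1', h2, h3, -⟩ := closed_fibre_facts (R := R) (Xs := Xs) (Ω := Ω) (Y := Y) (g := g) hgY
    haveI := h1; haveI := h1'; haveI := h2; haveI := h3
    have hpY := pure_baseChange (g := g) hgY hpure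
    have hT := isTF1_pullback g hJ.tf1
    refine isSemistable_iso Ω qY ((Scheme.Modules.pullbackComp g i).app J) ((Scheme.Modules.pullbackComp g i).app E)
      ⟨hT, fun Z hZ hZs hZn G π hG => ?_⟩
    refine le_of_le_of_eq (hs.2 fun η => ∃ w, IsGen w ∧ w ∈ Z ∧ g w = η) ?_
    refine Eq.trans ?_ (rBeta_eq_beta Ω hpY (isFinLocFreeOfRank_pullback g (isFinLocFreeOfRank_pullback i hE)) hT hG hZ
      rfl (P := (· ∈ Z)) fun _ _ => Iff.rfl).symm
    refine (beta_pullback g (IsLocalRing.ResidueField R) Ω hgY hpure hpY (isFinLocFreeOfRank_pullback i hE) hJ.tf1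
      _).symm.trans ?_
    exact beta_congr Ω _ hT fun w hw => ⟨fun ⟨w', hw', hwZ, he⟩ => eq_of_gen_over hgY hgi hw' hw he ▸ hwZ,
      fun hwZ => ⟨w, hw, hwZ, rfl⟩⟩

include hsq hpure hgi in
/-- Quasistability spreads from the special fibre to the geometric fibres. -/
theorem fibQuasistable {J : X.Modules} (hJ : Good i t J) (σ : Spec (CommRingCat.of R) ⟶ X)
    (hσ : σ ≫ (X ↘ Spec (CommRingCat.of R)) = 𝟙 _) (hgen : GenQS (R := R) J E σ r) (hs : SSState R i hE J)
    (hgss : GenSS (R := R) J E r) {x : Xs} (hxσ : i x = σ (IsLocalRing.closedPoint R))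
    [IsDomain (Xs.presheaf.stalk x)] {η₀ : Xs} (hη₀ : IsGen η₀) (hη₀x : η₀ ⤳ x)
    (hq : ∀ P, P η₀ → betaS R i hE J P = 0 → ∀ η, IsGen η → P η) :
    TFOne.FibQuasistableAlong (X ↘ Spec (CommRingCat.of R)) J E σ hσ r := by
  intro Ω _ _ s Y i' qY h y hy hy'
  refine ⟨fibSemistable hsq hpure hgi hE hJ hgss hs Ω s Y i' qY h, fun Z hZ hZs hZn hyZ G π hG => ?_⟩
  rcases fibre_cases hsq s h with ⟨hA, hinj, rfl⟩ | ⟨hA, g, hgY, rfl, hse⟩
  · letI := hA
    refine (hgen Ω hinj Y i' qY h y hy' ?_).2 Z hZ hZs hZn hyZ G π hG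
    rw [← Category.assoc y i', hy, Category.assoc, ← Category.assoc σ, hσ, Category.id_comp]
  · letI := hA
    letI : Y.Over (Spec (CommRingCat.of Ω)) := ⟨qY⟩
    obtain ⟨h1, h1', h2, h3, -⟩ := closed_fibre_facts (R := R) (Xs := Xs) (Ω := Ω) (Y := Y) (g := g) hgY
    haveI := h1; haveI := h1'; haveI := h2; haveI := h3
    have hpY := pure_baseChange (g := g) hgY hpure
    have hT := isTF1_pullback g hJ.tf1
    rw [← rBeta_iso Ω qY Z hZ ((Scheme.Modules.pullbackComp g i).app E)]
    have hG' := isQuotOn_source_iso ((Scheme.Modules.pullbackComp g i).app J) hG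
    let P : Xs → Prop := fun η => ∃ w, IsGen w ∧ w ∈ Z ∧ g w = η
    have heq : beta Ω (isFinLocFreeOfRank_pullback g (isFinLocFreeOfRank_pullback i hE))
        ((Scheme.Modules.pullback g).obj ((Scheme.Modules.pullback i).obj J)) (· ∈ Z) = betaS R i hE J P := by
      refine Eq.trans ?_ (beta_pullback g (IsLocalRing.ResidueField R) Ω hgY hpure hpY
        (isFinLocFreeOfRank_pullback i hE) hJ.tf1 P)
      exact beta_congr Ω _ hT fun w hw => ⟨fun hwZ => ⟨w, hw, hwZ, rfl⟩,
        fun ⟨w', hw', hwZ, he⟩ => eq_of_gen_over hgY hgi hw' hw he ▸ hwZ⟩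
    refine lt_of_lt_of_eq ?_ (rBeta_eq_beta Ω hpY (isFinLocFreeOfRank_pullback g (isFinLocFreeOfRank_pullback i hE))
      hT hG' hZ rfl (P := (· ∈ Z)) fun _ _ => Iff.rfl).symm
    rw [heq]
    refine lt_of_le_of_ne (hs.2 P) fun h0 => hZn (eq_univ_of_forall_gen hZ fun w hw => ?_)
    haveI := isClosedImmersion_fibre hsq
    have hgy : g (y (IsLocalRing.closedPoint Ω)) = x := by
      refine i.isClosedEmbedding.injective ?_
      rw [← Scheme.Hom.comp_apply, ← Scheme.Hom.comp_apply]
      show (y ≫ g ≫ i) _ = _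
      rw [hy, hse, Category.assoc, Scheme.Hom.comp_apply, Scheme.Hom.comp_apply, hxσ]
      congr 1
      haveI : IsLocalHom (CommRingCat.ofHom (IsLocalRing.residue R)).hom :=
        inferInstanceAs (IsLocalHom (IsLocalRing.residue R))
      refine (congrArg (Spec.map (CommRingCat.ofHom (IsLocalRing.residue R))) (Subsingleton.elim
        (α := PrimeSpectrum (IsLocalRing.ResidueField R)) _ (IsLocalRing.closedPoint _))).trans ?_
      exact IsLocalRing.comap_closedPoint _
    have hP : P η₀ := by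
      rw [(isSubcurve_eq_compUnion hZ hZs).1] at hyZ
      obtain ⟨v, hv, hvZ, hvy⟩ := hyZ
      exact ⟨v, hv, hvZ, gen_unique_of_domain (isGen_map g hv) hη₀ (hgy ▸ hvy.map g.continuous) hη₀x⟩
    obtain ⟨w', hw', hwZ, he⟩ := hq P hP h0.symm (g w) (isGen_map g hw)
    exact eq_of_gen_over hgY hgi hw' hw he ▸ hwZ

include hsq hpure hgi in
/-- Simplicity spreads from the special fibre to the geometric fibres. -/
theorem fibSimple [Nonempty Xs] {J : X.Modules} (hJ : Good i t J) (hgen : GenSimple (R := R) J)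
    (hd : ∀ P, Dec (IsLocalRing.ResidueField R) ((Scheme.Modules.pullback i).obj J) P →
      (∀ η, IsGen η → P η) ∨ ∀ η, IsGen η → ¬ P η) :
    TFOne.FibSimple (X ↘ Spec (CommRingCat.of R)) J := by
  intro Ω _ _ s Y i' qY h
  rcases fibre_cases hsq s h with ⟨hA, hinj, rfl⟩ | ⟨hA, g, hgY, rfl, -⟩
  · letI := hA
    exact (hgen Ω hinj Y i' qY h).2
  · letI := hA
    letI : Y.Over (Spec (CommRingCat.of Ω)) := ⟨qY⟩
    obtain ⟨h1, h1', h2, h3, h4⟩ := closed_fibre_facts (R := R) (Xs := Xs) (Ω := Ω) (Y := Y) (g := g) hgY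
    haveI := h1; haveI := h1'; haveI := h2; haveI := h3; haveI := h4
    haveI : Nonempty Y := ⟨(g.surjective (Classical.arbitrary Xs)).choose⟩
    haveI : GeometricallyReduced (Y ↘ Spec (CommRingCat.of Ω)) := MorphismProperty.of_isPullback hgY inferInstance
    have hpY := pure_baseChange (g := g) hgY hpure
    have hT := isTF1_pullback g hJ.tf1
    have hgiY : ∀ (C : Set Y) (hC : C ∈ irreducibleComponents (Y : Type u)),
        GeometricallyIntegral (VecSt.subschι Y C (isClosed_of_mem_irreducibleComponents C hC) ≫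
          (Y ↘ Spec (CommRingCat.of Ω))) := fun C hC => by
      let W := VecSt.subsch Y C (isClosed_of_mem_irreducibleComponents C hC)
      let ι : W ⟶ Y := VecSt.subschι Y C (isClosed_of_mem_irreducibleComponents C hC)
      haveI : IrreducibleSpace W := by
        have hi : IsIrreducible (Set.range ι) := by rw [range_subschι]; exact hC.1
        haveI := Subtype.irreducibleSpace hi
        exact (ι.isEmbedding.toHomeomorph.symm).surjective.irreducibleSpace (ι.isEmbedding.toHomeomorph.symm).continuous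
      haveI : IsReduced W := H23.RedSub.isReduced_subscheme fun U =>
        PrimeSpectrum.isRadical_vanishingIdeal _
      haveI : IsIntegral W := isIntegral_of_irreducibleSpace_of_isReduced W
      haveI : IsIntegral (Over.mk (ι ≫ (Y ↘ Spec (CommRingCat.of Ω)))).left := ‹IsIntegral W›
      exact H23.EquidimFibres.geometricallyIntegral_of_isAlgClosed (V := Over.mk (ι ≫ (Y ↘ Spec (CommRingCat.of Ω))))
    refine isSimple_iso Ω qY ((Scheme.Modules.pullbackComp g i).app J)
      ((S18844.result Ω Y hpY hgiY _ hT).2 ?_)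
    rintro ⟨Y₁, Z₁, hY₁, hZ₁, GY, GZ, πY, πZ, hYs, hZs, hYn, -, hGY, hGZ, hiso⟩
    haveI := hiso
    haveI := hGY.1
    haveI := hGZ.1
    have hex : ∀ w, IsGen w → (w ∈ Z₁ ↔ ¬ w ∈ Y₁) := fun w hw => by
      haveI := nontrivial_stalk hT.2.2 hw
      constructor
      · intro hZw hYw
        have hne : Nontrivial (GY.presheaf.stalk w) := not_subsingleton_iff_nontrivial.1 (hGY.2.2.2.ge hYw)
        obtain ⟨v₁, hv₁⟩ := exists_ne (0 : GY.presheaf.stalk w)
        obtain ⟨v, hv⟩ := sm_surjective (biprod.lift πY πZ) w (sm biprod.inl w v₁)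
        have hv2 : sm πZ w v = 0 := by
          rw [← biprod.lift_snd πY πZ, sm_comp, hv, ← sm_comp, biprod.inl_snd, sm_zero]
        have hv1 : sm πY w v = v₁ := by
          rw [← biprod.lift_fst πY πZ, sm_comp, hv, ← sm_comp, biprod.inl_fst, sm_id]
        exact hv₁ (by rw [← hv1, quot_injective hT.2.2 hGZ hw hZw hv2, map_zero])
      · intro hYw
        by_contra hZw
        obtain ⟨v, hv⟩ := exists_ne (0 : ((Scheme.Modules.pullback g).obj ((Scheme.Modules.pullback i).obj J)).presheaf.stalk w)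
        haveI := quot_subsingleton hGY hYw
        haveI := quot_subsingleton hGZ hZw
        refine hv (sm_injective (biprod.lift πY πZ) w ?_)
        rw [map_zero, ← sm_biprod_total w (sm (biprod.lift πY πZ) w v), ← sm_comp _ biprod.fst,
          ← sm_comp _ biprod.snd, biprod.lift_fst, biprod.lift_snd, Subsingleton.elim (sm πY w v) 0,
          Subsingleton.elim (sm πZ w v) 0, map_zero, map_zero, add_zero]
    have hdY : Dec Ω ((Scheme.Modules.pullback g).obj ((Scheme.Modules.pullback i).obj J)) (· ∈ Y₁) := by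
      unfold Dec
      rw [chiQ_true Ω hT]
      exact (isIso_lift_iff Ω hpY hT hGY hGZ (fun _ _ => Iff.rfl) hex).1 hiso
    let P : Xs → Prop := fun η => ∃ w, IsGen w ∧ w ∈ Y₁ ∧ g w = η
    have hPY : ∀ w, IsGen w → (w ∈ Y₁ ↔ P (g w)) := fun w hw => ⟨fun hwY => ⟨w, hw, hwY, rfl⟩,
      fun ⟨w', hw', hwY, he⟩ => eq_of_gen_over hgY hgi hw' hw he ▸ hwY⟩
    have hP : Dec (IsLocalRing.ResidueField R) ((Scheme.Modules.pullback i).obj J) P := by
      have h' := Dec.congr Ω hT hPY hdY
      unfold Dec at h' ⊢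
      rwa [chiQ_pullback g (IsLocalRing.ResidueField R) Ω hgY hJ.tf1 P,
        chiQ_pullback g (IsLocalRing.ResidueField R) Ω hgY hJ.tf1 (fun η => ¬ P η),
        chiQ_pullback g (IsLocalRing.ResidueField R) Ω hgY hJ.tf1 (fun _ => True)] at h'
    rcases hd P hP with h' | h'
    · exact hYn (eq_univ_of_forall_gen hY₁ fun w hw => (hPY w hw).2 (h' _ (isGen_map g hw)))
    · obtain ⟨w, hw, hwY⟩ := (isSubcurve_eq_compUnion hY₁ hYs).2
      exact h' _ (isGen_map g hw) ((hPY w hw).1 hwY)

end Groth.Agent.BunLib68.TF
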