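import Groth.Agent.BunLib68.TF.Psi
import Groth.Agent.CurveBC.Coh
import Groth.Agent.QCoh.AnnIdeal
import Groth.Agent.ZClosLib.CohDescent
import Groth.Agent.KFlatLib.Scheme.FlatDescent
import Groth.Agent.KFlatLib.Scheme.PullTensorCx
import Mathlib.RingTheory.Flat.TorsionFree

/-!
# Rank one sheaves and their quotients under flat extension of the base field
-/

set_option autoImplicit false
set_option backward.isDefEq.respectTransparency false
set_option backward.isDefEq.respectTransparency.types false
set_option linter.style.haveILetI false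
set_option linter.unusedSectionVars false
set_option linter.overlappingInstances false

universe u

open CategoryTheory CategoryTheory.Limits AlgebraicGeometry TopologicalSpace Opposite
open scoped TensorProduct nonZeroDivisors

noncomputable section

namespace Groth.Agent.BunLib68.TF

variable {X Y : Scheme.{u}} (g : Y ⟶ X)

/-- The stalks of an inverse image. -/
def stalkPullEquiv (M : X.Modules) (y : Y) :
    letI := (g.stalkMap y).hom.toAlgebra
    ((Scheme.Modules.pullback g).obj M).presheaf.stalk y ≃ₗ[Y.presheaf.stalk y]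
      Y.presheaf.stalk y ⊗[X.presheaf.stalk (g.base y)] M.presheaf.stalk (g.base y) :=
  letI := (g.stalkMap y).hom.toAlgebra
  ((KFlatLib.stalkPullbackIso g y).app M).toLinearEquiv

variable [Flat g]

theorem flat_stalk (y : Y) :
    letI := (g.stalkMap y).hom.toAlgebra
    Module.Flat (X.presheaf.stalk (g.base y)) (Y.presheaf.stalk y) :=
  Flat.stalkMap g y

theorem faithfullyFlat_stalk (y : Y) :
    letI := (g.stalkMap y).hom.toAlgebra
    Module.FaithfullyFlat (X.presheaf.stalk (g.base y)) (Y.presheaf.stalk y) := by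
  letI := (g.stalkMap y).hom.toAlgebra
  haveI : IsLocalHom (algebraMap (X.presheaf.stalk (g.base y)) (Y.presheaf.stalk y)) :=
    inferInstanceAs (IsLocalHom (g.stalkMap y).hom)
  haveI := flat_stalk g y
  exact Module.FaithfullyFlat.of_flat_of_isLocalHom

/-- A generic point lies over a generic point. -/
theorem isGen_map [IsReduced X] {w : Y} (hw : IsGen w) : IsGen (g.base w) := by
  refine isGen_of_mem_genericPoints ⟨isIrreducible_singleton.closure, fun S hS hle => ?_⟩
  obtain ⟨ξ, hξ⟩ := QuasiSober.sober hS.closure isClosed_closure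
  have hs : ξ ⤳ g.base w := hξ.specializes (subset_closure (hle (subset_closure rfl)))
  obtain ⟨w', hw', rfl⟩ := Flat.generalizingMap g hs
  obtain rfl := hw.eq_of_specializes hw'
  exact subset_closure.trans hξ.def.ge

/-- Every generic point is the image of a generic point. -/
theorem exists_gen_over [IsReduced Y] [Surjective g] {η : X} (hη : IsGen η) :
    ∃ w : Y, IsGen w ∧ g.base w = η := by
  obtain ⟨y, rfl⟩ := g.surjective η
  obtain ⟨w, hw, hs⟩ := exists_isGen y
  exact ⟨w, hw, hη.eq_of_specializes (hs.map g.continuous)⟩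

variable [IsReduced X] [IsNoetherian X] {M : X.Modules}

/-- The inverse image of a torsion-free sheaf along a flat map is torsion-free. -/
theorem isTorsionFree_pullback (hM : Coh.IsQCoh M) (htM : TorSh.IsTorsionFree M) :
    TorSh.IsTorsionFree ((Scheme.Modules.pullback g).obj M) := by
  intro y
  let x := g.base y
  letI := (g.stalkMap y).hom.toAlgebra
  haveI := flat_stalk g y
  refine ⟨fun a ha => (injective_iff_map_eq_zero (DistribSMul.toAddMonoidHom _ a)).2 fun v hv => ?_⟩
  have hav : a • v = 0 := hv
  let I := {η : X // IsGen η ∧ η ⤳ x}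
  haveI : Finite I := Set.Finite.to_subtype ((finite_isGen (X := X)).subset fun η h => h.1 :
    {η : X | IsGen η ∧ η ⤳ x}.Finite)
  letI : Fintype I := Fintype.ofFinite I
  letI : ∀ η : I, Module (X.presheaf.stalk x) (M.presheaf.stalk η.1) := fun η =>
    Module.compHom _ (X.presheaf.stalkSpecializes η.2.2).hom
  haveI hfl : ∀ η : I, Module.Flat (X.presheaf.stalk x) (M.presheaf.stalk η.1) := fun η => by
    obtain ⟨S, hS⟩ := VarGeom.exists_isLocalization_stalkSpecializes η.2.2
    letI := (X.presheaf.stalkSpecializes η.2.2).hom.toAlgebra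
    haveI := hS
    haveI : Module.Flat (X.presheaf.stalk x) (X.presheaf.stalk η.1) := IsLocalization.flat (X.presheaf.stalk η.1) S
    letI := η.2.1.toField
    haveI : IsScalarTower (X.presheaf.stalk x) (X.presheaf.stalk η.1) (M.presheaf.stalk η.1) :=
      IsScalarTower.of_algebraMap_smul fun _ _ => rfl
    haveI : Module.Free (X.presheaf.stalk η.1) (M.presheaf.stalk η.1) := Module.Free.of_divisionRing _ _
    exact Module.Flat.trans (X.presheaf.stalk x) (X.presheaf.stalk η.1) (M.presheaf.stalk η.1)
  let ι : M.presheaf.stalk x →ₗ[X.presheaf.stalk x] ((η : I) → M.presheaf.stalk η.1) :=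
    { toFun := fun m η => M.presheaf.stalkSpecializes η.2.2 m
      map_add' := fun m m' => funext fun η => map_add _ m m'
      map_smul' := fun r m => funext fun η => by
        obtain ⟨U, hU, s, rfl⟩ := TopCat.Presheaf.exists_germ_eq M.presheaf m
        obtain ⟨W, hW, r, rfl⟩ := TopCat.Presheaf.exists_germ_eq X.presheaf r
        have hx : x ∈ W ⊓ U := ⟨hW, hU⟩
        show M.presheaf.stalkSpecializes η.2.2 (_ • _) = X.presheaf.stalkSpecializes η.2.2 _ • M.presheaf.stalkSpecializes η.2.2 _
        rw [← TopCat.Presheaf.germ_res_apply M.presheaf (homOfLE (inf_le_right : W ⊓ U ≤ U)) x hx s,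
          ← TopCat.Presheaf.germ_res_apply X.presheaf (homOfLE (inf_le_left : W ⊓ U ≤ W)) x hx r, ← QCoh.germ_smul']
        simp only [TopCat.Presheaf.germ_stalkSpecializes_apply]
        rw [QCoh.germ_smul']
        simp only [RingHom.id_apply, TopCat.Presheaf.germ_stalkSpecializes_apply] }
  have hι : Function.Injective ι := (injective_iff_map_eq_zero ι).2 fun m hm => by
    obtain ⟨U, hx, s, rfl⟩ := TopCat.Presheaf.exists_germ_eq M.presheaf m
    let W : X.Opens := ⟨(compUnion fun η => ¬ η ⤳ x)ᶜ, (isClosed_compUnion _).isOpen_compl⟩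
    have hxW : x ∈ W := fun ⟨η, _, hn, hs⟩ => hn hs
    have h0 : M.presheaf.map (homOfLE (inf_le_left : U ⊓ W ≤ U)).op s = 0 := by
      refine eq_zero_of_gen hM htM _ fun z hz hg => ?_
      have hzx : z ⤳ x := not_not.1 fun hn => hz.2 ((mem_compUnion_gen hg).2 hn)
      rw [M.presheaf.germ_res_apply]
      have h1 := congr_fun hm ⟨z, hg, hzx⟩
      change M.presheaf.stalkSpecializes hzx (M.presheaf.germ U x hx s) = 0 at h1
      rwa [TopCat.Presheaf.germ_stalkSpecializes_apply] at h1
    rw [← M.presheaf.germ_res_apply (homOfLE (inf_le_left : U ⊓ W ≤ U)) x ⟨hx, hxW⟩ s, h0, map_zero]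
  haveI : Module.Flat (X.presheaf.stalk x) ((η : I) → M.presheaf.stalk η.1) := by
    classical
    exact Module.Flat.of_linearEquiv
      (DirectSum.linearEquivFunOnFintype (X.presheaf.stalk x) I fun η => M.presheaf.stalk η.1).symm
  have hinj : Function.Injective (TensorProduct.AlgebraTensorModule.lTensor (Y.presheaf.stalk y)
      (Y.presheaf.stalk y) ι) :=
    Module.Flat.lTensor_preserves_injective_linearMap (M := Y.presheaf.stalk y) ι hι
  refine (stalkPullEquiv g M y).injective (hinj ?_)
  rw [map_zero, map_zero]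
  refine Module.Flat.isSMulRegular_of_nonZeroDivisors (M := Y.presheaf.stalk y ⊗[X.presheaf.stalk x] _)
    (IsRegular.mem_nonZeroDivisors ha) ?_
  show a • _ = a • 0
  rw [smul_zero, ← map_smul, ← map_smul, hav, map_zero, map_zero]

omit [AlgebraicGeometry.IsReduced X] [AlgebraicGeometry.IsNoetherian X] in
/-- Torsion-freeness descends along faithfully flat maps. -/
theorem isTorsionFree_of_pullback [Surjective g]
    (h : TorSh.IsTorsionFree ((Scheme.Modules.pullback g).obj M)) : TorSh.IsTorsionFree M := by
  intro x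
  obtain ⟨y, rfl⟩ := g.surjective x
  letI := (g.stalkMap y).hom.toAlgebra
  haveI := flat_stalk g y
  haveI := faithfullyFlat_stalk g y
  haveI := h y
  refine ⟨fun a ha => (injective_iff_map_eq_zero (DistribSMul.toAddMonoidHom _ a)).2 fun v hv => ?_⟩
  have hav : a • v = 0 := hv
  have hreg : IsRegular (algebraMap (X.presheaf.stalk (g.base y)) (Y.presheaf.stalk y) a) := by
    have h1 := Module.Flat.isSMulRegular_of_nonZeroDivisors (M := Y.presheaf.stalk y) (IsRegular.mem_nonZeroDivisors ha)
    have h2 : IsSMulRegular (Y.presheaf.stalk y) (algebraMap (X.presheaf.stalk (g.base y)) (Y.presheaf.stalk y) a) :=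
      fun s t hst => h1 (by simpa [Algebra.smul_def] using hst)
    exact ⟨fun s t hst => h2 hst, fun s t hst => h2 (by simpa [mul_comm] using hst)⟩
  let z := (stalkPullEquiv g M y).symm ((1 : Y.presheaf.stalk y) ⊗ₜ[X.presheaf.stalk (g.base y)] v)
  have h3 : algebraMap (X.presheaf.stalk (g.base y)) (Y.presheaf.stalk y) a • z =
      algebraMap (X.presheaf.stalk (g.base y)) (Y.presheaf.stalk y) a • 0 := by
    rw [smul_zero]
    show _ • (stalkPullEquiv g M y).symm _ = 0
    rw [← map_smul, algebraMap_smul (Y.presheaf.stalk y) a, ← TensorProduct.tmul_smul, hav, TensorProduct.tmul_zero,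
      map_zero]
  have h4 : z = 0 := Module.IsTorsionFree.isSMulRegular hreg h3
  refine Module.FaithfullyFlat.tensorProduct_mk_injective (A := X.presheaf.stalk (g.base y))
    (B := Y.presheaf.stalk y) (M.presheaf.stalk (g.base y)) ?_
  show (1 : Y.presheaf.stalk y) ⊗ₜ[X.presheaf.stalk (g.base y)] v = (1 : Y.presheaf.stalk y) ⊗ₜ[X.presheaf.stalk (g.base y)] (0 : M.presheaf.stalk (g.base y))
  rw [TensorProduct.tmul_zero]
  exact (stalkPullEquiv g M y).symm.injective (h4.trans (map_zero _).symm)

omit [AlgebraicGeometry.IsNoetherian X] in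
/-- Generic rank one is stable under flat pullback. -/
theorem isRkOne_pullback [IsReduced Y] (h : TFOne.IsRkOne X M) :
    TFOne.IsRkOne Y ((Scheme.Modules.pullback g).obj M) := by
  intro w hw
  letI := (g.stalkMap w).hom.toAlgebra
  obtain ⟨e⟩ := h (g.base w) (isGen_map g (isGen_of_mem_genericPoints hw)).mem_genericPoints
  exact ⟨(stalkPullEquiv g M w).trans ((TensorProduct.AlgebraTensorModule.congr (LinearEquiv.refl _ _) e).trans
    (TensorProduct.AlgebraTensorModule.rid _ _ _))⟩

omit [AlgebraicGeometry.IsNoetherian X] in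
/-- Generic rank one descends along faithfully flat maps. -/
theorem isRkOne_of_pullback [IsReduced Y] [Surjective g]
    (h : TFOne.IsRkOne Y ((Scheme.Modules.pullback g).obj M)) : TFOne.IsRkOne X M := by
  intro x hx
  have hη := isGen_of_mem_genericPoints hx
  obtain ⟨w, hw, rfl⟩ := exists_gen_over g hη
  letI := (g.stalkMap w).hom.toAlgebra
  haveI := faithfullyFlat_stalk g w
  obtain ⟨e⟩ := h w hw.mem_genericPoints
  letI := hη.toField
  haveI := hw.nontrivial
  haveI : Module.Free (X.presheaf.stalk (g.base w)) (M.presheaf.stalk (g.base w)) := Module.Free.of_divisionRing _ _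
  let e' := (stalkPullEquiv g M w).symm.trans e
  have h1 : Module.finrank (X.presheaf.stalk (g.base w)) (M.presheaf.stalk (g.base w)) = 1 := by
    rw [← Module.finrank_baseChange (R := Y.presheaf.stalk w), e'.finrank_eq, Module.finrank_self]
  haveI : Module.Finite (X.presheaf.stalk (g.base w)) (M.presheaf.stalk (g.base w)) := Module.finite_of_finrank_eq_succ h1
  exact ⟨LinearEquiv.ofFinrankEq _ _ (h1.trans (Module.finrank_self _).symm)⟩

/-- Torsion-free rank one is stable under flat pullback. -/
theorem isTF1_pullback [IsLocallyNoetherian Y] [IsReduced Y] (hM : TFOne.IsTF1 X M) :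
    TFOne.IsTF1 Y ((Scheme.Modules.pullback g).obj M) :=
  ⟨ZClosLib.isCoh_pullback g hM.1, isTorsionFree_pullback g hM.1.1 hM.2.1, isRkOne_pullback g hM.2.2⟩

omit [AlgebraicGeometry.IsNoetherian X] in
/-- Torsion-free rank one descends along faithfully flat maps. -/
theorem isTF1_of_pullback [IsReduced Y] [Surjective g] (hc : Coh.IsCoh M)
    (hM : TFOne.IsTF1 Y ((Scheme.Modules.pullback g).obj M)) : TFOne.IsTF1 X M :=
  ⟨hc, isTorsionFree_of_pullback g hM.2.1, isRkOne_of_pullback g hM.2.2⟩

/-- The inverse image of a quotient on `Z` is a quotient on the inverse image of `Z`. -/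
theorem isQuotOn_pullback [IsLocallyNoetherian Y] {Z : Set X} {G : X.Modules} {π : M ⟶ G}
    (hG : TFOne.IsQuotOn X M Z G π) :
    TFOne.IsQuotOn Y ((Scheme.Modules.pullback g).obj M) (g.base ⁻¹' Z) ((Scheme.Modules.pullback g).obj G)
      ((Scheme.Modules.pullback g).map π) := by
  haveI := hG.1
  refine ⟨inferInstance, ZClosLib.isCoh_pullback g hG.2.1, isTorsionFree_pullback g hG.2.1.1 hG.2.2.1, ?_⟩
  rw [QCoh.support_pullback g hG.2.1.1 hG.2.1.2, hG.2.2.2]

section Field

variable (k K : Type u) [Field k] [Field K] [Algebra k K] [X.Over (Spec (CommRingCat.of k))]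
  [IsProper (X ↘ Spec (CommRingCat.of k))] [Y.Over (Spec (CommRingCat.of K))]
  [IsProper (Y ↘ Spec (CommRingCat.of K))] [IsReduced Y] [IsNoetherian Y]
  (hpb : IsPullback g (Y ↘ Spec (CommRingCat.of K)) (X ↘ Spec (CommRingCat.of k))
    (Spec.map (CommRingCat.ofHom (algebraMap k K))))

include hpb in
/-- The Euler characteristic of a quotient is insensitive to the base field. -/
theorem chiQ_pullback (hM : TFOne.IsTF1 X M) (P : X → Prop) :
    chiQ K ((Scheme.Modules.pullback g).obj M) (fun w => P (g.base w)) = chiQ k M P := by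
  have hG := isQuotOn_pullback g (isQuotOn_quotM hM P)
  rw [← euler_eq_chiQ K (isTF1_pullback g hM) hG fun w hw =>
    mem_compUnion_gen (isGen_map g hw)]
  haveI : CompactSpace X := inferInstance
  haveI : QuasiSeparatedSpace X := quasiSeparatedSpace_of_quasiSeparated (X ↘ Spec (CommRingCat.of k))
  exact CurveBC.euler_eq k K g hpb _ (isQuotOn_quotM hM P).2.1.1

variable (hpX : ∀ C ∈ irreducibleComponents (X : Type u), topologicalKrullDim C = 1)
  (hpY : ∀ C ∈ irreducibleComponents (Y : Type u), topologicalKrullDim C = 1)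
  {E : X.Modules} {r : ℕ} (hE : FlatMod.IsFinLocFreeOfRank r E)

include hpb hpX hpY in
/-- `β` is insensitive to the base field. -/
theorem beta_pullback (hM : TFOne.IsTF1 X M) (P : X → Prop) :
    beta K (isFinLocFreeOfRank_pullback g hE) ((Scheme.Modules.pullback g).obj M) (fun w => P (g.base w)) =
      beta k hE M P := by
  have hQ := isQuotOn_quotM hM P
  have hG := isQuotOn_pullback g hQ
  rw [beta_eq_euler_tensor k hpX hE hM hQ (P := P) fun η hη => mem_compUnion_gen hη,
    beta_eq_euler_tensor K hpY (isFinLocFreeOfRank_pullback g hE) (isTF1_pullback g hM) hG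
      (P := fun w => P (g.base w)) fun w hw => mem_compUnion_gen (isGen_map g hw)]
  haveI : CompactSpace X := inferInstance
  haveI : QuasiSeparatedSpace X := quasiSeparatedSpace_of_quasiSeparated (X ↘ Spec (CommRingCat.of k))
  have hEf : FlatMod.IsFinLocFree E := fun y => let ⟨W, hy, he⟩ := hE y; ⟨W, r, hy, he⟩
  rw [← CurveBC.euler_eq k K g hpb _ (CurveTensor.isCoh_tensor hEf hQ.2.1).1]
  exact (CurveCohLib.euler_congr (k := K) (((KFlatLib.pullTensorBiIso g).app E).app (quotM M P))).symm

end Field

end Groth.Agent.BunLib68.TF
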