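import Groth.Agent.TFCurvLib.AssTF
import Groth.Agent.QCoh.Support
import Groth.Agent.VarGeom.Normal
import Groth.Agent.KFlatLib.Scheme.Exact
import Groth.Agent.Lib.CurveBundle
import Groth.Prelude.Def_TFOne

/-!
# Generic points and stalk criteria for torsion-free modules on reduced Noetherian schemes
-/

set_option autoImplicit false
set_option backward.isDefEq.respectTransparency false
set_option backward.isDefEq.respectTransparency.types false
set_option linter.style.haveILetI false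
set_option linter.unusedSectionVars false
set_option linter.overlappingInstances false

universe u

open CategoryTheory CategoryTheory.Limits AlgebraicGeometry TopologicalSpace Opposite
open scoped nonZeroDivisors

noncomputable section

namespace Groth.Agent.BunLib68.TF

variable {X : Scheme.{u}} {F G H K : X.Modules}

/-- The linear map on stalks. -/
abbrev sm (φ : F ⟶ G) (x : X) : F.presheaf.stalk x →ₗ[X.presheaf.stalk x] G.presheaf.stalk x :=
  Algz.stalkMapₗ φ x

theorem sm_germ (φ : F ⟶ G) {U : X.Opens} {x : X} (hx : x ∈ U) (s : Γ(F, U)) :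
    sm φ x (F.presheaf.germ U x hx s) = G.presheaf.germ U x hx (φ.app U s) :=
  DerSch.stalkFunctor_map_germ x φ U hx s

theorem sm_comp (φ : F ⟶ G) (ψ : G ⟶ H) (x : X) (v : F.presheaf.stalk x) :
    sm (φ ≫ ψ) x v = sm ψ x (sm φ x v) := by
  obtain ⟨U, hx, s, rfl⟩ := TopCat.Presheaf.exists_germ_eq F.presheaf v
  rw [sm_germ, sm_germ, sm_germ]
  rfl

theorem sm_zero (x : X) (v : F.presheaf.stalk x) : sm (0 : F ⟶ G) x v = 0 := by
  obtain ⟨U, hx, s, rfl⟩ := TopCat.Presheaf.exists_germ_eq F.presheaf v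
  rw [sm_germ, show (0 : F ⟶ G).app U s = 0 from rfl, map_zero]

theorem sm_id (x : X) (v : F.presheaf.stalk x) : sm (𝟙 F) x v = v := by
  obtain ⟨U, hx, s, rfl⟩ := TopCat.Presheaf.exists_germ_eq F.presheaf v
  rw [sm_germ]; rfl

theorem sm_add (φ ψ : F ⟶ G) (x : X) (v : F.presheaf.stalk x) : sm (φ + ψ) x v = sm φ x v + sm ψ x v := by
  obtain ⟨U, hx, s, rfl⟩ := TopCat.Presheaf.exists_germ_eq F.presheaf v
  rw [sm_germ, sm_germ, sm_germ, ← map_add]
  rfl

theorem sm_sub (φ ψ : F ⟶ G) (x : X) (v : F.presheaf.stalk x) : sm (φ - ψ) x v = sm φ x v - sm ψ x v := by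
  have h := sm_add (φ - ψ) ψ x v
  rw [sub_add_cancel] at h
  rw [h, add_sub_cancel_right]

theorem sm_neg (φ : F ⟶ G) (x : X) (v : F.presheaf.stalk x) : sm (-φ) x v = -sm φ x v := by
  rw [← zero_sub φ, sm_sub, sm_zero, zero_sub]

theorem sm_injective (φ : F ⟶ G) [Mono φ] (x : X) : Function.Injective (sm φ x) :=
  CurveBundle.stalkMap_injective φ x

theorem sm_surjective (φ : F ⟶ G) [Epi φ] (x : X) : Function.Surjective (sm φ x) := by
  haveI : Epi ((DerSch.stalkFunctor X x).map φ) := inferInstance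
  exact (ModuleCat.epi_iff_surjective _).1 this

/-- Exactness on stalks. -/
theorem exists_sm_eq {S : ShortComplex X.Modules} (hS : S.Exact) (x : X) {v : S.X₂.presheaf.stalk x}
    (hv : sm S.g x v = 0) : ∃ a, sm S.f x a = v :=
  (ShortComplex.moduleCat_exact_iff _).1 (hS.map (DerSch.stalkFunctor X x)) v hv

theorem exists_kernel_eq (φ : F ⟶ G) (x : X) {v : F.presheaf.stalk x} (hv : sm φ x v = 0) :
    ∃ a, sm (kernel.ι φ) x a = v :=
  exists_sm_eq (ShortComplex.exact_kernel φ) x hv

/-- The points whose local ring is a field. -/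
def IsGen (x : X) : Prop := IsField (X.presheaf.stalk x)

theorem IsGen.eq_of_specializes {x y : X} (hx : IsGen x) (h : y ⤳ x) : y = x :=
  TFCurvLib.eq_of_specializes_of_isField hx h

theorem IsGen.isUnit {x : X} (hx : IsGen x) {a : X.presheaf.stalk x} (ha : a ≠ 0) : IsUnit a := by
  obtain ⟨b, hb⟩ := hx.mul_inv_cancel ha
  exact IsUnit.of_mul_eq_one b hb

theorem IsGen.mem_genericPoints {x : X} (hx : IsGen x) : x ∈ genericPoints X := by
  refine ⟨isIrreducible_singleton.closure, fun S hS hle => ?_⟩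
  obtain ⟨η, hη⟩ := QuasiSober.sober hS.closure isClosed_closure
  have hs : η ⤳ x := hη.specializes (subset_closure (hle (subset_closure rfl)))
  have := hx.eq_of_specializes hs
  subst this
  exact subset_closure.trans hη.def.ge

theorem isGen_of_mem_genericPoints [IsReduced X] {x : X} (hx : x ∈ genericPoints X) : IsGen x := by
  have hu : ∀ y : X, y ⤳ x → y = x := fun y hy => by
    have h1 : closure ({x} : Set X) ⊆ closure {y} := specializes_iff_closure_subset.1 hy
    have h2 : closure ({y} : Set X) ⊆ closure {x} := hx.2 isIrreducible_singleton.closure h1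
    exact (inseparable_iff_closure_eq.2 (subset_antisymm h2 h1)).eq
  haveI : Subsingleton (PrimeSpectrum (X.presheaf.stalk x)) := ⟨fun p q => by
    refine (X.fromSpecStalk x).isEmbedding.injective ?_
    have hp : X.fromSpecStalk x p ∈ Set.range (X.fromSpecStalk x) := ⟨p, rfl⟩
    have hq : X.fromSpecStalk x q ∈ Set.range (X.fromSpecStalk x) := ⟨q, rfl⟩
    rw [Scheme.range_fromSpecStalk] at hp hq
    exact (hu _ hp).trans (hu _ hq).symm⟩
  refine IsLocalRing.isField_iff_maximalIdeal_eq.2 (eq_bot_iff.2 fun r hr => ?_)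
  have hn : IsNilpotent r := by
    rw [← mem_nilradical, nilradical_eq_sInf, Ideal.mem_sInf]
    intro p hp
    have := congrArg PrimeSpectrum.asIdeal
      (Subsingleton.elim (⟨p, hp⟩ : PrimeSpectrum (X.presheaf.stalk x)) (IsLocalRing.closedPoint _))
    exact (show p = IsLocalRing.maximalIdeal (X.presheaf.stalk x) from this) ▸ hr
  exact (Submodule.mem_bot _).2 hn.eq_zero

theorem finite_isGen [IsNoetherian X] : {x : X | IsGen x}.Finite :=
  Set.Finite.subset (Set.finite_coe_iff.1
      (genericPoints.finite (NoetherianSpace.finite_irreducibleComponents (α := X))))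
    fun _ h => IsGen.mem_genericPoints h

theorem exists_isGen [IsReduced X] (x : X) : ∃ η, IsGen η ∧ η ⤳ x :=
  ⟨(genericPoints.ofComponent ⟨_, irreducibleComponent_mem_irreducibleComponents x⟩).1,
    isGen_of_mem_genericPoints (genericPoints.ofComponent _).2,
    (genericPoints.isGenericPoint_ofComponent ⟨_, irreducibleComponent_mem_irreducibleComponents x⟩).specializes
      mem_irreducibleComponent⟩

theorem IsGen.component_mem {η : X} (hη : IsGen η) : closure ({η} : Set X) ∈ irreducibleComponents (X : Type u) :=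
  hη.mem_genericPoints

theorem exists_isGen_component [IsReduced X] {C : Set X} (hC : C ∈ irreducibleComponents (X : Type u)) :
    ∃ η, IsGen η ∧ closure ({η} : Set X) = C :=
  ⟨(genericPoints.ofComponent ⟨C, hC⟩).1, isGen_of_mem_genericPoints (genericPoints.ofComponent ⟨C, hC⟩).2,
    (genericPoints.isGenericPoint_ofComponent ⟨C, hC⟩).def⟩

/-- The union of the components at a set of generic points. -/
def compUnion (P : X → Prop) : Set X := {x | ∃ η, IsGen η ∧ P η ∧ η ⤳ x}

theorem mem_compUnion_gen {P : X → Prop} {η : X} (hη : IsGen η) : η ∈ compUnion P ↔ P η := by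
  constructor
  · rintro ⟨ξ, -, hP, h⟩
    rwa [hη.eq_of_specializes h] at hP
  · exact fun h => ⟨η, hη, h, specializes_refl η⟩

theorem isClosed_compUnion [IsNoetherian X] (P : X → Prop) : IsClosed (compUnion P) := by
  have : compUnion P = ⋃ η ∈ {x : X | IsGen x ∧ P x}, closure ({η} : Set X) := by
    ext x
    simp [compUnion, specializes_iff_mem_closure, and_assoc]
  rw [this]
  exact (finite_isGen.subset fun _ h => h.1).isClosed_biUnion fun _ _ => isClosed_closure

theorem isSubcurve_compUnion {P : X → Prop} {η : X} (hη : IsGen η) (h : P η) :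
    VecSt.IsSubcurve X (compUnion P) := by
  refine ⟨{C | ∃ ξ, IsGen ξ ∧ P ξ ∧ closure ({ξ} : Set X) = C}, ?_, ⟨_, η, hη, h, rfl⟩, ?_⟩
  · rintro _ ⟨ξ, hξ, -, rfl⟩
    exact hξ.component_mem
  · ext x
    constructor
    · rintro ⟨ξ, hξ, hP, hx⟩
      exact ⟨_, ⟨ξ, hξ, hP, rfl⟩, hx.mem_closure⟩
    · rintro ⟨_, ⟨ξ, hξ, hP, rfl⟩, hx⟩
      exact ⟨ξ, hξ, hP, specializes_iff_mem_closure.2 hx⟩

theorem isSubcurve_eq_compUnion [IsReduced X] {Z : Set X} (hc : IsClosed Z) (hZ : VecSt.IsSubcurve X Z) :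
    Z = compUnion (· ∈ Z) ∧ ∃ η, IsGen η ∧ η ∈ Z := by
  obtain ⟨S, hS, ⟨C, hC⟩, rfl⟩ := hZ
  refine ⟨subset_antisymm ?_ ?_, ?_⟩
  · rintro x ⟨D, hD, hx⟩
    obtain ⟨η, hη, rfl⟩ := exists_isGen_component (hS hD)
    exact ⟨η, hη, ⟨_, hD, subset_closure rfl⟩, specializes_iff_mem_closure.2 hx⟩
  · rintro x ⟨η, -, hη, hx⟩
    exact hx.mem_closed hc hη
  · obtain ⟨η, hη, rfl⟩ := exists_isGen_component (hS hC)
    exact ⟨η, hη, ⟨_, hC, subset_closure rfl⟩⟩

theorem sUnion_components_eq [IsReduced X] (P : Set X → Prop) :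
    ⋃₀ {C | C ∈ irreducibleComponents (X : Type u) ∧ P C} = compUnion (fun η => P (closure ({η} : Set X))) := by
  ext x
  constructor
  · rintro ⟨C, ⟨hC, hP⟩, hx⟩
    obtain ⟨η, hη, rfl⟩ := exists_isGen_component hC
    exact ⟨η, hη, hP, specializes_iff_mem_closure.2 hx⟩
  · rintro ⟨η, hη, hP, hx⟩
    exact ⟨_, ⟨hη.component_mem, hP⟩, hx.mem_closure⟩

theorem mem_iff_closure_subset {Z : Set X} (hZ : IsClosed Z) {η : X} : η ∈ Z ↔ closure ({η} : Set X) ⊆ Z := by
  rw [hZ.closure_subset_iff, Set.singleton_subset_iff]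

theorem eq_univ_of_forall_gen [IsReduced X] {Z : Set X} (hZ : IsClosed Z) (h : ∀ η, IsGen η → η ∈ Z) :
    Z = Set.univ :=
  Set.eq_univ_of_forall fun x => by
    obtain ⟨η, hη, hx⟩ := exists_isGen x
    exact hx.mem_closed hZ (h η hη)

theorem germ_eq_zero_of_specializes (M : X.Modules) {U : X.Opens} {x y : X} (h : y ⤳ x) (hx : x ∈ U) (s : Γ(M, U))
    (h0 : M.presheaf.germ U x hx s = 0) : M.presheaf.germ U y (h.mem_open U.2 hx) s = 0 := by
  rw [← TopCat.Presheaf.germ_stalkSpecializes M.presheaf hx h]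
  show M.presheaf.stalkSpecializes h (M.presheaf.germ U x hx s) = 0
  rw [h0, map_zero]

section Noeth

variable [IsLocallyNoetherian X] [IsReduced X]

theorem eq_zero_of_gen (hF : Coh.IsQCoh F) (htF : TorSh.IsTorsionFree F) {U : X.Opens} (s : Γ(F, U))
    (h : ∀ y (hy : y ∈ U), IsGen y → F.presheaf.germ U y hy s = 0) : s = 0 :=
  TFCurvLib.eq_zero_of_germ_isField hF htF s h

/-- A map into a torsion-free module vanishes if it vanishes at the generic points. -/
theorem hom_eq_zero_of_gen (f : F ⟶ G) (hG : Coh.IsQCoh G) (htG : TorSh.IsTorsionFree G)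
    (h : ∀ η, IsGen η → ∀ v, sm f η v = 0) : f = 0 := by
  refine Scheme.Modules.hom_ext _ _ fun V => AddCommGrpCat.hom_ext (AddMonoidHom.ext fun a => ?_)
  exact eq_zero_of_gen hG htG (f.app V a) fun y hy hg => by rw [← sm_germ]; exact h y hg _

theorem hom_ext_gen {f g : F ⟶ G} (hG : Coh.IsQCoh G) (htG : TorSh.IsTorsionFree G)
    (h : ∀ η, IsGen η → ∀ v, sm f η v = sm g η v) : f = g :=
  sub_eq_zero.1 (hom_eq_zero_of_gen _ hG htG fun η hη v => by rw [sm_sub, h η hη v, sub_self])

/-- A map out of a torsion-free module is mono if it is injective at the generic points. -/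
theorem mono_of_gen (f : F ⟶ G) (hF : Coh.IsQCoh F) (htF : TorSh.IsTorsionFree F)
    (h : ∀ η, IsGen η → ∀ v, sm f η v = 0 → v = 0) : Mono f := by
  refine QCoh.mono_of_app_injective f fun U => (injective_iff_map_eq_zero (f.app U).hom).2 fun s hs => ?_
  refine eq_zero_of_gen hF htF s fun y hy hg => h y hg _ ?_
  rw [sm_germ, show f.app U s = 0 from hs, map_zero]

theorem eq_zero_of_mem_stalk (hF : Coh.IsQCoh F) (htF : TorSh.IsTorsionFree F) [IsNoetherian X] {x : X}
    (h : ∀ η, IsGen η → η ⤳ x → Subsingleton (F.presheaf.stalk η)) : Subsingleton (F.presheaf.stalk x) := by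
  refine subsingleton_of_forall_eq 0 fun v => ?_
  obtain ⟨U, hx, s, rfl⟩ := TopCat.Presheaf.exists_germ_eq F.presheaf v
  let W : X.Opens := ⟨(compUnion fun η => ¬ η ⤳ x)ᶜ, (isClosed_compUnion _).isOpen_compl⟩
  have hxW : x ∈ W := fun ⟨η, _, hn, hs⟩ => hn hs
  have h0 : F.presheaf.map (homOfLE (inf_le_left : U ⊓ W ≤ U)).op s = 0 :=
    eq_zero_of_gen hF htF _ fun y hy hg =>
      haveI := h y hg (not_not.1 fun hn => hy.2 ((mem_compUnion_gen hg).2 hn))
      Subsingleton.elim _ _
  rw [← F.presheaf.germ_res_apply (homOfLE (inf_le_left : U ⊓ W ≤ U)) x ⟨hx, hxW⟩ s, h0, map_zero]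

/-- The support of a torsion-free coherent module is the union of the components at which it is non-zero. -/
theorem support_eq_compUnion [IsNoetherian X] (hF : Coh.IsCoh F) (htF : TorSh.IsTorsionFree F) :
    CohB1.support F = compUnion (· ∈ CohB1.support F) := by
  refine subset_antisymm (fun x hx => ?_) ?_
  · by_contra hn
    exact hx (eq_zero_of_mem_stalk hF.1 htF fun η hη hs => not_not.1 fun h => hn ⟨η, hη, h, hs⟩)
  · rintro x ⟨η, -, hη, hs⟩
    exact hs.mem_closed (QCoh.isClosed_support_of_isFT hF.1 hF.2) hη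

theorem regular_stalkSpecializes {x y : X} (h : y ⤳ x) {a : X.presheaf.stalk x}
    (ha : a ∈ (X.presheaf.stalk x)⁰) : X.presheaf.stalkSpecializes h a ∈ (X.presheaf.stalk y)⁰ := by
  obtain ⟨S, hS⟩ := VarGeom.exists_isLocalization_stalkSpecializes h
  letI := (X.presheaf.stalkSpecializes h).hom.toAlgebra
  haveI := hS
  exact IsLocalization.map_nonZeroDivisors_le S (X.presheaf.stalk y) ⟨a, ha, rfl⟩

/-- Modules whose sections are detected at the generic points are torsion-free. -/
theorem isTorsionFree_of_gen [IsNoetherian X]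
    (h : ∀ (U : X.Opens) (s : Γ(F, U)), (∀ y (hy : y ∈ U), IsGen y → F.presheaf.germ U y hy s = 0) → s = 0) :
    TorSh.IsTorsionFree F := by
  intro x
  refine ⟨fun a ha => (injective_iff_map_eq_zero (DistribSMul.toAddMonoidHom _ a)).2 fun v hv => ?_⟩
  have hav : a • v = 0 := hv
  obtain ⟨U, hx, s, rfl⟩ := TopCat.Presheaf.exists_germ_eq F.presheaf v
  obtain ⟨V, hVU, hxV, r, hr, hrs⟩ : ∃ (V : X.Opens) (hV : V ≤ U) (hxV : x ∈ V) (r : Γ(X, V)),
      X.presheaf.germ V x hxV r = a ∧ F.presheaf.germ V x hxV (r • F.presheaf.map (homOfLE hV).op s) = 0 := by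
    obtain ⟨W, hxW, r, rfl⟩ := TopCat.Presheaf.exists_germ_eq X.presheaf a
    refine ⟨W ⊓ U, inf_le_right, ⟨hxW, hx⟩, X.presheaf.map (homOfLE (inf_le_left : W ⊓ U ≤ W)).op r,
      X.presheaf.germ_res_apply (homOfLE inf_le_left) x ⟨hxW, hx⟩ r, ?_⟩
    rw [QCoh.germ_smul', F.presheaf.germ_res_apply, X.presheaf.germ_res_apply]
    exact hav
  let W : X.Opens := ⟨(compUnion fun η => ¬ η ⤳ x)ᶜ, (isClosed_compUnion _).isOpen_compl⟩
  have hxW : x ∈ W := fun ⟨η, _, hn, hs⟩ => hn hs
  have h0 : F.presheaf.map (homOfLE ((inf_le_left : V ⊓ W ≤ V).trans hVU)).op s = 0 := by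
    refine h _ _ fun y hy hg => ?_
    have hyx : y ⤳ x := not_not.1 fun hn => hy.2 ((mem_compUnion_gen hg).2 hn)
    have h1 := germ_eq_zero_of_specializes F hyx hxV _ hrs
    rw [QCoh.germ_smul', F.presheaf.germ_res_apply] at h1
    have hu : IsUnit (X.presheaf.germ V y (hyx.mem_open V.2 hxV) r) := by
      rw [← TopCat.Presheaf.germ_stalkSpecializes X.presheaf hxV hyx]
      show IsUnit (X.presheaf.stalkSpecializes hyx (X.presheaf.germ V x hxV r))
      rw [hr]
      have hm := regular_stalkSpecializes hyx (IsRegular.mem_nonZeroDivisors ha)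
      haveI := hg.nontrivial
      exact hg.isUnit (nonZeroDivisors.ne_zero hm)
    rw [F.presheaf.germ_res_apply]
    exact hu.smul_eq_zero.1 h1
  rw [← F.presheaf.germ_res_apply (homOfLE ((inf_le_left : V ⊓ W ≤ V).trans hVU)) x ⟨hxV, hxW⟩ s, h0, map_zero]

theorem isTorsionFree_of_mono [IsNoetherian X] (f : F ⟶ G) [Mono f] (hG : Coh.IsQCoh G)
    (htG : TorSh.IsTorsionFree G) : TorSh.IsTorsionFree F :=
  isTorsionFree_of_gen fun U s hs => QCoh.app_injective f U (by
    rw [map_zero]
    exact eq_zero_of_gen hG htG _ fun y hy hg => by rw [← sm_germ, hs y hy hg, map_zero])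

theorem isTorsionFree_ext [IsNoetherian X] {S : ShortComplex X.Modules} (hS : S.ShortExact)
    (h₁ : Coh.IsQCoh S.X₁) (ht₁ : TorSh.IsTorsionFree S.X₁) (h₃ : Coh.IsQCoh S.X₃)
    (ht₃ : TorSh.IsTorsionFree S.X₃) : TorSh.IsTorsionFree S.X₂ := by
  haveI := hS.mono_f
  refine isTorsionFree_of_gen fun U s hs => ?_
  have h0 : S.g.app U s = 0 := eq_zero_of_gen h₃ ht₃ _ fun y hy hg => by rw [← sm_germ, hs y hy hg, map_zero]
  obtain ⟨w, rfl⟩ := QCoh.exists_app_f_eq hS U s h0
  rw [eq_zero_of_gen h₁ ht₁ w fun y hy hg => sm_injective S.f y (by rw [sm_germ, hs y hy hg, map_zero]), map_zero]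

end Noeth

end Groth.Agent.BunLib68.TF
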