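import Groth.Agent.BunLib68.TF.Push
import Groth.Agent.FlatMisc.GeomRedOpen
import Groth.Agent.GeomField.Reduced
import Groth.Agent.H23.GysinPb
import Groth.Agent.H23.GysinSq
import Groth.Agent.FibDim.BaseField
import Groth.Agent.FlatDvr.FibreStalk
import Groth.Agent.S4932

/-!
# Geometry of a flat proper family of reduced curves over a discrete valuation ring
-/

set_option autoImplicit false
set_option backward.isDefEq.respectTransparency false
set_option backward.isDefEq.respectTransparency.types false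
set_option linter.style.haveILetI false
set_option linter.unusedSectionVars false
set_option linter.overlappingInstances false

universe u

open CategoryTheory CategoryTheory.Limits AlgebraicGeometry TopologicalSpace Opposite

noncomputable section

namespace Groth.Agent.BunLib68.TF

section Field

variable {k : Type u} [Field k] {X : Scheme.{u}} [X.Over (Spec (CommRingCat.of k))]

/-- An open piece of a geometrically reduced scheme is geometrically reduced. -/
theorem geometricallyReduced_open {U W S : Scheme.{u}} (j : U ⟶ W) [IsOpenImmersion j] (g : W ⟶ S)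
    [GeometricallyReduced g] : GeometricallyReduced (j ≫ g) := by
  refine ⟨fun L _ y Z fst snd h => ?_⟩
  haveI : IsReduced (pullback g y) :=
    GeometricallyReduced.geometrically_isReduced (f := g) y _ _ (IsPullback.of_hasPullback g y)
  let l : Z ⟶ pullback g y := pullback.lift (fst ≫ j) snd (by rw [Category.assoc, h.w])
  have hl : IsPullback fst l j (pullback.fst g y) :=
    IsPullback.of_bot (v₂₁ := pullback.snd g y) (v₁₁ := l) (v₂₂ := g)
      (by rw [pullback.lift_snd]; exact h) (pullback.lift_fst _ _ _).symm (IsPullback.of_hasPullback g y).flip.flip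
  haveI : IsOpenImmersion l := MorphismProperty.of_isPullback hl ‹_›
  exact isReduced_of_isOpenImmersion l

/-- A reduced curve whose components are geometrically integral is geometrically reduced. -/
theorem geometricallyReduced_of_components [IsReduced X] [IsNoetherian X]
    (hgi : ∀ (C : Set X) (hC : C ∈ irreducibleComponents (X : Type u)),
      GeometricallyIntegral (VecSt.subschι X C (isClosed_of_mem_irreducibleComponents C hC) ≫
        (X ↘ Spec (CommRingCat.of k)))) :
    GeometricallyReduced (X ↘ Spec (CommRingCat.of k)) := by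
  refine GeomField.geometricallyReduced_iff.2 fun x =>
    GeomField.isGeomReducedAt_of_generic x fun η _ hη => ?_
  have hC : closure ({η} : Set X) ∈ irreducibleComponents (X : Type u) := GeomField.genericPoint_of_maximal hη
  haveI := hgi _ hC
  let ι := VecSt.subschι X (closure ({η} : Set X)) (isClosed_of_mem_irreducibleComponents _ hC)
  let V : X.Opens := ⟨(compUnion fun ζ => ζ ≠ η)ᶜ, (isClosed_compUnion _).isOpen_compl⟩
  have hηV : η ∈ V := fun ⟨ζ, hζ, hne, hs⟩ => hne (hη ζ hs)
  haveI : IsClosedImmersion (ι ∣_ V) := IsZariskiLocalAtTarget.restrict (by infer_instance) V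
  haveI : IsReduced (V : Scheme.{u}) := isReduced_of_isOpenImmersion V.ι
  haveI : Surjective (ι ∣_ V) := ⟨fun v => by
    obtain ⟨ζ, hζ, hs⟩ := exists_isGen (V.ι v)
    have hz : ζ = η := by
      by_contra hne
      exact v.2 ⟨ζ, hζ, hne, hs⟩
    subst hz
    obtain ⟨c, hc⟩ : V.ι v ∈ Set.range ι := (range_subschι X _ _).ge (specializes_iff_mem_closure.1 hs)
    refine ⟨⟨c, show ι c ∈ V from hc ▸ v.2⟩, V.ι.isOpenEmbedding.injective ?_⟩
    rw [← Scheme.Hom.comp_apply, morphismRestrict_ι, Scheme.Hom.comp_apply]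
    exact hc⟩
  haveI := isIso_of_isClosedImmersion_of_surjective (ι ∣_ V)
  haveI hV : GeometricallyReduced (V.ι ≫ (X ↘ Spec (CommRingCat.of k))) := by
    have e : V.ι ≫ (X ↘ Spec (CommRingCat.of k)) =
        (inv (ι ∣_ V) ≫ (ι ⁻¹ᵁ V).ι) ≫ ι ≫ (X ↘ Spec (CommRingCat.of k)) := by
      rw [Category.assoc, ← morphismRestrict_ι_assoc, IsIso.inv_hom_id_assoc]
    rw [e]
    exact geometricallyReduced_open _ _
  intro L _ _ x' hx'
  let b := Curv2.bcFst k X L
  haveI : IsReduced ((b ⁻¹ᵁ V : Scheme.Opens _) : Scheme.{u}) :=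
    GeometricallyReduced.geometrically_isReduced (f := V.ι ≫ (X ↘ Spec (CommRingCat.of k)))
      (Spec.map (CommRingCat.ofHom (algebraMap k L))) (b ∣_ V) ((b ⁻¹ᵁ V).ι ≫ Curv2.bcSnd k X L)
      ((isPullback_morphismRestrict b V).paste_vert (IsPullback.of_hasPullback _ _))
  have hx : x' ∈ b ⁻¹ᵁ V := show b x' ∈ V from hx' ▸ hηV
  exact isReduced_of_injective ((asIso ((b ⁻¹ᵁ V).ι.stalkMap ⟨x', hx⟩)).commRingCatIsoToRingEquiv)
    (RingEquiv.injective _)

variable {Y : Scheme.{u}} {L : Type u} [Field L] [Algebra k L] {g : Y ⟶ X}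
  {qY : Y ⟶ Spec (CommRingCat.of L)}
  (hpb : IsPullback g qY (X ↘ Spec (CommRingCat.of k)) (Spec.map (CommRingCat.ofHom (algebraMap k L))))

include hpb in
theorem flat_proj : Flat g := by
  letI : Module.Free k L := Module.Free.of_divisionRing _ _
  haveI : Flat (Spec.map (CommRingCat.ofHom (algebraMap k L))) :=
    (HasRingHomProperty.Spec_iff (P := @Flat)).2 ((RingHom.flat_algebraMap_iff).2 inferInstance)
  exact MorphismProperty.of_isPullback hpb.flip ‹_›

include hpb in
theorem surjective_proj : Surjective g := by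
  haveI : Surjective (Spec.map (CommRingCat.ofHom (algebraMap k L))) :=
    ⟨fun s => ⟨IsLocalRing.closedPoint L, Subsingleton.elim (α := PrimeSpectrum k) _ _⟩⟩
  exact MorphismProperty.of_isPullback hpb.flip ‹_›

include hpb in
/-- Over each generic point of a curve with geometrically irreducible components lies one generic point only. -/
theorem eq_of_gen_over [IsReduced X] [IsReduced Y] [Flat g]
    (hgi : ∀ (C : Set X) (hC : C ∈ irreducibleComponents (X : Type u)),
      GeometricallyIntegral (VecSt.subschι X C (isClosed_of_mem_irreducibleComponents C hC) ≫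
        (X ↘ Spec (CommRingCat.of k))))
    {w w' : Y} (hw : IsGen w) (hw' : IsGen w') (h : g w = g w') : w = w' := by
  have hη : IsGen (g w) := by
    refine isGen_of_mem_genericPoints ⟨isIrreducible_singleton.closure, fun S hS hle => ?_⟩
    obtain ⟨ξ, hξ⟩ := QuasiSober.sober hS.closure isClosed_closure
    obtain ⟨v, hv, he⟩ := Flat.generalizingMap g (hξ.specializes (subset_closure (hle (subset_closure rfl))))
    obtain rfl := hw.eq_of_specializes hv
    rw [← he] at hξ
    exact subset_closure.trans hξ.def.ge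
  haveI := hgi _ hη.component_mem
  let ι := VecSt.subschι X (closure ({g w} : Set X)) (isClosed_of_mem_irreducibleComponents _ hη.component_mem)
  haveI : IsIntegral (pullback ι g) := GeometricallyIntegral.geometrically_isIntegral
    (f := ι ≫ (X ↘ Spec (CommRingCat.of k))) _ (pullback.fst ι g) (pullback.snd ι g ≫ qY)
    ((IsPullback.of_hasPullback ι g).paste_vert hpb)
  have hr : Set.range (pullback.snd ι g) = g ⁻¹' closure {g w} := by
    rw [Scheme.Pullback.range_snd, range_subschι]
  have key : ∀ v : Y, IsGen v → g v = g w → pullback.snd ι g (genericPoint ↥(pullback ι g)) = v := by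
    intro v hv he
    obtain ⟨z, hz⟩ := hr.ge (show v ∈ g ⁻¹' closure {g w} from he ▸ subset_closure rfl)
    exact hv.eq_of_specializes (hz ▸ ((genericPoint_spec _).specializes (Set.mem_univ z)).map
      (pullback.snd ι g).continuous)
  exact (key w hw rfl).symm.trans (key w' hw' h.symm)

include hpb in
/-- Base change of the field keeps a curve of pure dimension one. -/
theorem pure_baseChange [LocallyOfFiniteType (X ↘ Spec (CommRingCat.of k))]
    (hpure : ∀ C ∈ irreducibleComponents (X : Type u), topologicalKrullDim C = 1) :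
    ∀ C ∈ irreducibleComponents (Y : Type u), topologicalKrullDim C = 1 := by
  intro C hC
  haveI : LocallyOfFiniteType qY := MorphismProperty.of_isPullback hpb inferInstance
  haveI := FibDim.subsingleton_spec_field k
  haveI := FibDim.subsingleton_spec_field L
  haveI : Surjective (Spec.map (CommRingCat.ofHom (algebraMap k L))) :=
    ⟨fun s => ⟨IsLocalRing.closedPoint L, Subsingleton.elim _ _⟩⟩
  letI : Module.Free k L := Module.Free.of_divisionRing _ _
  haveI : Flat (Spec.map (CommRingCat.ofHom (algebraMap k L))) :=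
    (HasRingHomProperty.Spec_iff (P := @Flat)).2 ((RingHom.flat_algebraMap_iff).2 inferInstance)
  obtain ⟨D, hD, he⟩ := (FibDim.component_dims_baseChange hpb).le ⟨C, hC, rfl⟩
  exact he.symm.trans (hpure D hD)

end Field

theorem dim_preimage_eq {A B : Type u} [TopologicalSpace A] [TopologicalSpace B] {e : A → B}
    (he : Topology.IsEmbedding e) {T : Set B} (hT : T ⊆ Set.range e) :
    topologicalKrullDim ↥(e ⁻¹' T) = topologicalKrullDim ↥T :=
  ((he.comp Topology.IsEmbedding.subtypeVal).toHomeomorph.trans (Homeomorph.setCongr (by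
    ext b
    exact ⟨fun ⟨a, ha⟩ => ha ▸ a.2, fun hb => let ⟨a, ha⟩ := hT hb
      ⟨⟨a, show e a ∈ T from ha ▸ hb⟩, ha⟩⟩))).isHomeomorph.topologicalKrullDim_eq

section Family

variable {R : Type u} [CommRing R] [IsDomain R] [IsDiscreteValuationRing R]
  {X Xs : Scheme.{u}} {f : X ⟶ Spec (CommRingCat.of R)} {i : Xs ⟶ X}
  {q : Xs ⟶ Spec (CommRingCat.of (IsLocalRing.ResidueField R))}
  (hsq : IsPullback i q f (Spec.map (CommRingCat.ofHom (IsLocalRing.residue R))))

include hsq in
theorem range_special : Set.range i = f ⁻¹' {IsLocalRing.closedPoint R} := by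
  haveI : IsLocalHom (CommRingCat.ofHom (IsLocalRing.residue R)).hom :=
    inferInstanceAs (IsLocalHom (IsLocalRing.residue R))
  rw [← hsq.isoPullback_hom_fst, Scheme.Hom.comp_base, TopCat.coe_comp, Set.range_comp,
    (Scheme.Hom.surjective hsq.isoPullback.hom).range_eq, Set.image_univ, Scheme.Pullback.range_fst]
  congr 1
  ext s
  simp only [Set.mem_range, Set.mem_singleton_iff]
  constructor
  · rintro ⟨p, rfl⟩
    rw [Subsingleton.elim (α := PrimeSpectrum _) p (IsLocalRing.closedPoint _)]
    exact IsLocalRing.comap_closedPoint _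
  · rintro rfl
    exact ⟨IsLocalRing.closedPoint _, IsLocalRing.comap_closedPoint _⟩

include hsq in
theorem isClosedImmersion_special : IsClosedImmersion i := by
  haveI : IsClosedImmersion (Spec.map (CommRingCat.ofHom (IsLocalRing.residue R))) :=
    IsClosedImmersion.spec_of_surjective _ Ideal.Quotient.mk_surjective
  exact MorphismProperty.of_isPullback hsq.flip inferInstance

include hsq in
/-- A family with geometrically reduced special fibre is geometrically reduced. -/
theorem geometricallyReduced_family [Flat f] [IsProper f] [GeometricallyReduced q] : GeometricallyReduced f := by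
  haveI : LocallyOfFinitePresentation f := by infer_instance
  have hs : IsLocalRing.closedPoint R ∈ FlatMisc.GeomRedConstr.locus f := by
    have h : IsLocalRing.closedPoint (IsLocalRing.ResidueField R) ∈ FlatMisc.GeomRedConstr.locus q :=
      (inferInstance : GeometricallyReduced (q.fiberToSpecResidueField _))
    rw [FlatMisc.GeomRedConstr.locus_preimage hsq] at h
    rwa [← IsLocalRing.comap_closedPoint (IsLocalRing.residue R)]
  refine ⟨geometrically_iff_forall_fiberToSpecResidueField.2 fun y => ?_⟩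
  exact ((IsLocalRing.specializes_closedPoint y).mem_open
    (FlatMisc.GeomRedOpen.isOpen_locus f) hs : GeometricallyReduced _).geometrically_isReduced

/-- The germ of an element of the base ring. -/
def baseGerm (f : X ⟶ Spec (CommRingCat.of R)) (r : R) (x : X) : X.presheaf.stalk x :=
  (f.stalkMap x).hom ((Spec (CommRingCat.of R)).presheaf.germ ⊤ (f x) trivial
    ((Scheme.ΓSpecIso (CommRingCat.of R)).inv r))

theorem isRegular_baseGerm [Flat f] {t : R} (ht : t ≠ 0) (x : X) : IsRegular (baseGerm f t x) := by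
  letI := (f.stalkMap x).hom.toAlgebra
  haveI : Module.Flat ((Spec (CommRingCat.of R)).presheaf.stalk (f x)) (X.presheaf.stalk x) := Flat.stalkMap f x
  letI : Algebra R ((Spec (CommRingCat.of R)).presheaf.stalk (f x)) := StructureSheaf.stalkAlgebra R (f x)
  haveI : IsLocalization.AtPrime ((Spec (CommRingCat.of R)).presheaf.stalk (f x)) (f x).asIdeal :=
    StructureSheaf.IsLocalization.to_stalk (CommRingCat.of R) (f x)
  have hinj : Function.Injective (algebraMap R ((Spec (CommRingCat.of R)).presheaf.stalk (f x))) :=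
    IsLocalization.injective _ (Ideal.primeCompl_le_nonZeroDivisors (f x).asIdeal)
  haveI : IsDomain ((Spec (CommRingCat.of R)).presheaf.stalk (f x)) :=
    IsLocalization.isDomain_of_le_nonZeroDivisors ((Spec (CommRingCat.of R)).presheaf.stalk (f x))
      (Ideal.primeCompl_le_nonZeroDivisors (f x).asIdeal)
  let c := algebraMap R ((Spec (CommRingCat.of R)).presheaf.stalk (f x)) t
  have h1 : IsSMulRegular (X.presheaf.stalk x) c := Module.Flat.isSMulRegular_of_nonZeroDivisors
    (mem_nonZeroDivisors_of_ne_zero ((map_ne_zero_iff _ hinj).2 ht))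
  have h2 : ∀ a b : X.presheaf.stalk x, baseGerm f t x * a = baseGerm f t x * b → a = b := fun a b hab => h1 hab
  exact ⟨fun a b hab => h2 a b hab, fun a b hab => h2 a b (by rw [mul_comm _ a, mul_comm _ b]; exact hab)⟩

include hsq in
theorem exists_eq_mul_baseGerm {t : R} (ht : Irreducible t) (z : Xs) {a : X.presheaf.stalk (i z)}
    (ha : (i.stalkMap z).hom a = 0) : ∃ b, a = baseGerm f t (i z) * b := by
  haveI : IsClosedImmersion (Spec.map (CommRingCat.ofHom (IsLocalRing.residue R))) :=
    IsClosedImmersion.spec_of_surjective _ Ideal.Quotient.mk_surjective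
  let ρ := Spec.map (CommRingCat.ofHom (IsLocalRing.residue R))
  let e := hsq.isoPullback.hom
  have hzero : a ∈ RingHom.ker (i.stalkMap z).hom := ha
  have hmain : ∀ (z' : (pullback f ρ : Scheme.{u})) (a' : X.presheaf.stalk (pullback.fst f ρ z')),
      a' ∈ RingHom.ker ((pullback.fst f ρ).stalkMap z').hom →
        ∃ b, a' = baseGerm f t (pullback.fst f ρ z') * b := by
    intro z' a' ha'
    rw [H23.GysinPb.ker_stalkMap_fst] at ha'
    suffices h : Ideal.map (H23.GysinPb.baseMap f ρ z').hom
        (RingHom.ker (ρ.stalkMap (pullback.snd f ρ z')).hom) ≤ Ideal.span {baseGerm f t (pullback.fst f ρ z')} by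
      obtain ⟨b, hb⟩ := Ideal.mem_span_singleton'.1 (h ha')
      exact ⟨b, by rw [← hb, mul_comm]⟩
    refine Ideal.map_le_iff_le_comap.2 fun c hc => ?_
    let p := ρ (pullback.snd f ρ z')
    letI : Algebra R ((Spec (CommRingCat.of R)).presheaf.stalk p) := StructureSheaf.stalkAlgebra R p
    haveI : IsLocalization.AtPrime ((Spec (CommRingCat.of R)).presheaf.stalk p) p.asIdeal :=
      StructureSheaf.IsLocalization.to_stalk (CommRingCat.of R) p
    obtain ⟨⟨r, s⟩, hrs⟩ := IsLocalization.surj p.asIdeal.primeCompl c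
    have hgen : ∀ r : R, (ρ.stalkMap (pullback.snd f ρ z')).hom (algebraMap R _ r) =
        (Spec (CommRingCat.of (IsLocalRing.ResidueField R))).presheaf.germ ⊤ _ trivial
          ((Scheme.ΓSpecIso _).inv (IsLocalRing.residue R r)) := fun r => by
      refine (Scheme.Hom.germ_stalkMap_apply ρ ⊤ _ trivial ((Scheme.ΓSpecIso (CommRingCat.of R)).inv r)).trans ?_
      refine congrArg _ ?_
      exact (congr($(Scheme.ΓSpecIso_inv_naturality (CommRingCat.ofHom (IsLocalRing.residue R))) r)).symm
    have hr0 : IsLocalRing.residue R r = 0 := by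
      have h1 : (ρ.stalkMap (pullback.snd f ρ z')).hom (algebraMap R _ r) = 0 := by
        rw [← hrs, map_mul, show (ρ.stalkMap (pullback.snd f ρ z')).hom c = 0 from hc, zero_mul]
      rw [hgen] at h1
      exact (map_eq_zero_iff (((Spec (CommRingCat.of (IsLocalRing.ResidueField R))).presheaf.germ ⊤ (pullback.snd f ρ z')
        trivial).hom.comp (Scheme.ΓSpecIso (CommRingCat.of (IsLocalRing.ResidueField R))).inv.hom)
        (RingHom.injective _)).1 h1
    obtain ⟨r', rfl⟩ := Ideal.mem_span_singleton'.1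
      ((ht.maximalIdeal_eq) ▸ (IsLocalRing.residue_eq_zero_iff r).1 hr0)
    obtain ⟨w, hw⟩ := IsLocalization.map_units ((Spec (CommRingCat.of R)).presheaf.stalk p) s
    have hc' : c = (↑w⁻¹ * algebraMap R _ r') * algebraMap R _ t := by
      rw [mul_assoc, ← map_mul]
      change c = ↑w⁻¹ * algebraMap R _ ((r' * t, s).1)
      rw [← hrs, ← hw, mul_comm c, Units.inv_mul_cancel_left]
    rw [Ideal.mem_comap, hc', map_mul]
    refine Ideal.mul_mem_left _ _ (Ideal.mem_span_singleton.2 (dvd_of_eq ?_))
    show _ = (f.stalkMap (pullback.fst f ρ z')).hom _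
    refine congrArg _ ?_
    exact (TopCat.Presheaf.germ_stalkSpecializes_apply _ _ _ _).symm
  haveI : IsIso e := inferInstanceAs (IsIso hsq.isoPullback.hom)
  have he : i = e ≫ pullback.fst f ρ := hsq.isoPullback_hom_fst.symm
  clear_value e
  subst he
  rw [H23.GysinSq.ker_stalkMap_iso_comp] at hzero
  exact hmain (e z) a hzero

include hsq in
theorem stalkMap_baseGerm_eq_zero {t : R} (ht : Irreducible t) (x : Xs) :
    (i.stalkMap x).hom (baseGerm f t (i x)) = 0 := by
  let σ := (Scheme.ΓSpecIso (CommRingCat.of R)).inv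
  show (i.stalkMap x).hom ((f.stalkMap (i x)).hom _) = 0
  rw [Scheme.Hom.germ_stalkMap_apply]
  erw [Scheme.Hom.germ_stalkMap_apply]
  have h1 : i.appTop (f.appTop (σ t)) = q.appTop ((Scheme.ΓSpecIso _).inv (IsLocalRing.residue R t)) := by
    have := congr($(congrArg Scheme.Hom.appTop hsq.w) (σ t))
    simp only [Scheme.Hom.comp_appTop, CommRingCat.comp_apply] at this
    refine this.trans (congrArg _ ?_)
    exact (congr($(Scheme.ΓSpecIso_inv_naturality (CommRingCat.ofHom (IsLocalRing.residue R))) t)).symm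
  refine (congrArg (fun s => Xs.presheaf.germ ⊤ x trivial s) h1).trans ?_
  rw [(IsLocalRing.residue_eq_zero_iff t).2 (ht.maximalIdeal_eq ▸ Ideal.mem_span_singleton_self t), map_zero, map_zero,
    map_zero]

include hsq in
/-- A component of the family through a point of the special fibre contains one of its components. -/
theorem exists_gen_mem_of_specializes [Flat f] [IsLocallyNoetherian X] [IsReduced Xs] {η : X}
    (hη : ∀ v, v ⤳ η → v = η) {x : Xs} (h : η ⤳ i x) : ∃ w : Xs, IsGen w ∧ w ⤳ x ∧ η ⤳ i w := by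
  by_contra hno
  obtain ⟨t, ht⟩ := IsDiscreteValuationRing.exists_irreducible R
  let O := X.presheaf.stalk (i x)
  let ψ : O →+* Xs.presheaf.stalk x := (i.stalkMap x).hom
  let τ : O := baseGerm f t (i x)
  have hreg : IsRegular τ := isRegular_baseGerm ht.ne_zero _
  obtain ⟨P, hP⟩ : η ∈ Set.range (X.fromSpecStalk (i x)) := by rw [Scheme.range_fromSpecStalk]; exact h
  let P' : PrimeSpectrum O := P
  have hmin : P'.asIdeal ∈ minimalPrimes O := ⟨⟨P'.2, bot_le⟩, fun Q ⟨hQ, _⟩ hQP => by
    let Q' : PrimeSpectrum O := ⟨Q, hQ⟩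
    have hs : X.fromSpecStalk (i x) Q' ⤳ η :=
      hP ▸ ((PrimeSpectrum.le_iff_specializes Q' P').1 hQP).map (X.fromSpecStalk (i x)).continuous
    have he : Q' = P' := (X.fromSpecStalk (i x)).isEmbedding.injective ((hη _ hs).trans hP.symm)
    exact he ▸ le_rfl⟩
  have hass : IsAssociatedPrime P'.asIdeal O := by
    refine Module.associatedPrimes.minimalPrimes_annihilator_subset_associatedPrimes O O ?_
    rwa [Module.annihilator_eq_bot.2 inferInstance]
  obtain ⟨-, z, hz⟩ := isAssociatedPrime_iff.1 hass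
  have hPz : ∀ a ∈ P'.asIdeal, a * z = 0 := fun a ha => by
    rw [hz, Submodule.mem_colon_singleton, Submodule.mem_bot] at ha
    exact ha
  have step : ∀ w : O, (∀ a ∈ P'.asIdeal, a * w = 0) → ∃ w', w = τ * w' ∧ ∀ a ∈ P'.asIdeal, a * w' = 0 := by
    intro w hw
    have h0 : ψ w = 0 := by
      refine IsReduced.eq_zero _ ?_
      rw [nilpotent_iff_mem_prime]
      intro J hJ
      obtain ⟨q₀, hq₀, hle⟩ := Ideal.exists_minimalPrimes_le (bot_le : (⊥ : Ideal _) ≤ J)
      refine hle ?_
      let Q : PrimeSpectrum (Xs.presheaf.stalk x) := ⟨q₀, hq₀.1.1⟩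
      let v := Xs.fromSpecStalk x Q
      have hvx : v ⤳ x := by
        have : v ∈ Set.range (Xs.fromSpecStalk x) := ⟨Q, rfl⟩
        rwa [Scheme.range_fromSpecStalk] at this
      have hv : IsGen v := by
        obtain ⟨w₁, hw₁, hs⟩ := exists_isGen v
        obtain ⟨Q₁, hQ₁⟩ : w₁ ∈ Set.range (Xs.fromSpecStalk x) := by
          rw [Scheme.range_fromSpecStalk]; exact hs.trans hvx
        let Q₁' : PrimeSpectrum (Xs.presheaf.stalk x) := Q₁
        have hle : Q₁'.asIdeal ≤ Q.asIdeal := (PrimeSpectrum.le_iff_specializes Q₁' Q).2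
          ((Xs.fromSpecStalk x).isEmbedding.isInducing.specializes_iff.1 (hQ₁ ▸ hs))
        have : Q₁' = Q := PrimeSpectrum.ext (le_antisymm hle (hq₀.2 ⟨Q₁'.2, bot_le⟩ hle))
        have hw : w₁ = v := hQ₁ ▸ congrArg (Xs.fromSpecStalk x) this
        exact hw ▸ hw₁
      obtain ⟨a, ha, ha'⟩ : ∃ a ∈ P'.asIdeal, ψ a ∉ q₀ := by
        by_contra hc
        push Not at hc
        refine hno ⟨v, hv, hvx, ?_⟩
        have h1 : i v = X.fromSpecStalk (i x) (Spec.map (i.stalkMap x) Q) :=
          congr($(Scheme.SpecMap_stalkMap_fromSpecStalk (f := i) (x := x)) Q).symm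
        rw [h1, ← hP]
        exact ((PrimeSpectrum.le_iff_specializes P' (Spec.map (i.stalkMap x) Q)).1 fun a ha => hc a ha).map
          (X.fromSpecStalk (i x)).continuous
      have h2 : ψ a * ψ w = 0 := by rw [← map_mul, hw a ha, map_zero]
      exact (hq₀.1.1.mem_or_mem (h2 ▸ zero_mem q₀)).resolve_left ha'
    obtain ⟨w', rfl⟩ := exists_eq_mul_baseGerm hsq ht x h0
    exact ⟨w', rfl, fun a ha => hreg.left (show τ * (a * w') = τ * 0 by
      rw [mul_zero, mul_left_comm]; exact hw a ha)⟩
  have hpow : ∀ n : ℕ, ∃ w', z = τ ^ n * w' ∧ ∀ a ∈ P'.asIdeal, a * w' = 0 := fun n => by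
    induction n with
    | zero => exact ⟨z, by rw [pow_zero, one_mul], hPz⟩
    | succ n ih =>
      obtain ⟨w', rfl, hw'⟩ := ih
      obtain ⟨w'', rfl, hw''⟩ := step w' hw'
      exact ⟨w'', by rw [pow_succ, mul_assoc], hw''⟩
  have hτ : Ideal.span {τ} ≠ ⊤ := fun htop => by
    have hu : IsUnit τ := Ideal.span_singleton_eq_top.1 htop
    refine (hu.map ψ).ne_zero ?_
    show (i.stalkMap x).hom ((f.stalkMap (i x)).hom _) = 0
    exact stalkMap_baseGerm_eq_zero hsq ht x
  have hz0 : z = 0 := by
    have hmem : z ∈ ⨅ n : ℕ, Ideal.span {τ} ^ n := Ideal.mem_iInf.2 fun n => by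
      obtain ⟨w', hw', -⟩ := hpow n
      rw [Ideal.span_singleton_pow, hw', mul_comm]
      exact Ideal.mem_span_singleton'.2 ⟨w', rfl⟩
    rwa [Ideal.iInf_pow_eq_bot_of_isLocalRing _ hτ, Ideal.mem_bot] at hmem
  refine P'.2.ne_top (top_le_iff.1 ?_)
  rw [hz, hz0]
  intro a _
  rw [Submodule.mem_colon_singleton, smul_zero]
  exact zero_mem _

section Generic

variable [Flat f] [IsProper f] [IsReduced Xs] [IsNoetherian Xs]
  (hpure : ∀ C ∈ irreducibleComponents (Xs : Type u), topologicalKrullDim C = 1)
  {Ω : Type u} [Field Ω] [Algebra R Ω] (hΩ : Function.Injective (algebraMap R Ω))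
  {XΩ : Scheme.{u}} {φ : XΩ ⟶ X} {qΩ : XΩ ⟶ Spec (CommRingCat.of Ω)}
  (hsqΩ : IsPullback φ qΩ f (Spec.map (CommRingCat.ofHom (algebraMap R Ω))))

include hΩ hsqΩ in
theorem flat_generic_proj : Flat φ := by
  haveI : Module.Flat R Ω := Module.Flat.flat_iff_torsion_eq_bot_of_isBezout.2 (eq_bot_iff.2 (by
    rintro v ⟨⟨a, ha⟩, hav⟩
    have h0 : algebraMap R Ω a * v = 0 := (Algebra.smul_def a v).symm.trans hav
    exact (mul_eq_zero.1 h0).resolve_left fun hh =>
      nonZeroDivisors.ne_zero ha (hΩ (hh.trans (map_zero _).symm))))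
  haveI : Flat (Spec.map (CommRingCat.ofHom (algebraMap R Ω))) :=
    (HasRingHomProperty.Spec_iff (P := @Flat)).2 ((RingHom.flat_algebraMap_iff).2 inferInstance)
  exact MorphismProperty.of_isPullback hsqΩ.flip ‹_›

theorem range_specMap_of_injective {L : Type u} [Field L] (ψ : R →+* L) (hψ : Function.Injective ψ) :
    Set.range (Spec.map (CommRingCat.ofHom ψ)) = {genericPoint (Spec (CommRingCat.of R))} := by
  have key : ∀ p, Spec.map (CommRingCat.ofHom ψ) p = genericPoint (Spec (CommRingCat.of R)) := fun p => by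
    rw [genericPoint_eq_bot_of_affine]
    refine PrimeSpectrum.ext ?_
    show Ideal.comap ψ (p : PrimeSpectrum L).asIdeal = ⊥
    rw [((p : PrimeSpectrum L).asIdeal.eq_bot_or_top).resolve_right (p : PrimeSpectrum L).2.ne_top]
    exact (RingHom.injective_iff_ker_eq_bot ψ).1 hψ
  ext s
  exact ⟨fun ⟨p, hp⟩ => hp ▸ key p, fun hs => ⟨IsLocalRing.closedPoint L, (key _).trans hs.symm⟩⟩

include hΩ hsqΩ hsq hpure in
/-- The general fibre of a flat proper family with special fibre of pure dimension one has pure dimension one. -/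
theorem pure_generic : ∀ C ∈ irreducibleComponents (XΩ : Type u), topologicalKrullDim C = 1 := by
  let K := FractionRing R
  letI : Algebra K Ω := (IsFractionRing.lift (A := R) (K := K) hΩ).toAlgebra
  haveI : IsScalarTower R K Ω := IsScalarTower.of_algebraMap_eq fun a => (IsFractionRing.lift_algebraMap hΩ a).symm
  let ρ := Spec.map (CommRingCat.ofHom (algebraMap R K))
  let Xg := pullback f ρ
  let j : Xg ⟶ X := pullback.fst f ρ
  let qg : Xg ⟶ Spec (CommRingCat.of K) := pullback.snd f ρ
  have hcomp : Spec.map (CommRingCat.ofHom (algebraMap K Ω)) ≫ ρ = Spec.map (CommRingCat.ofHom (algebraMap R Ω)) := by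
    rw [← Spec.map_comp, IsScalarTower.algebraMap_eq R K Ω]
    rfl
  let g : XΩ ⟶ Xg := pullback.lift φ (qΩ ≫ Spec.map (CommRingCat.ofHom (algebraMap K Ω)))
    (by rw [Category.assoc, hcomp, hsqΩ.w])
  have hg : IsPullback g qΩ qg (Spec.map (CommRingCat.ofHom (algebraMap K Ω))) :=
    IsPullback.of_right (h₁₂ := j) (by rw [pullback.lift_fst, hcomp]; exact hsqΩ) (pullback.lift_snd _ _ _)
      (IsPullback.of_hasPullback f ρ)
  letI : Xg.Over (Spec (CommRingCat.of K)) := ⟨qg⟩
  haveI : LocallyOfFiniteType (Xg ↘ Spec (CommRingCat.of K)) :=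
    inferInstanceAs (LocallyOfFiniteType (pullback.snd f ρ))
  refine pure_baseChange (k := K) (L := Ω) (g := g) (qY := qΩ) hg ?_
  intro C hC
  haveI : IsNoetherian X := {
    toIsLocallyNoetherian := LocallyOfFiniteType.isLocallyNoetherian f
    toCompactSpace := QuasiCompact.compactSpace_of_compactSpace f }
  haveI : IsPreimmersion ρ := IsPreimmersion.of_isLocalization (nonZeroDivisors R)
  haveI : IsPreimmersion j := inferInstanceAs (IsPreimmersion (pullback.fst f ρ))
  have hrj : Set.range j = f ⁻¹' {genericPoint (Spec (CommRingCat.of R))} := by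
    rw [Scheme.Pullback.range_fst, range_specMap_of_injective _ (IsFractionRing.injective R K)]
  haveI : Flat j := flat_generic_proj (IsFractionRing.injective R K) (IsPullback.of_hasPullback f ρ)
  obtain ⟨ξ, rfl, hξ⟩ := FDescent.exists_maximal_of_mem_irreducibleComponents hC
  let η : X := j ξ
  have hη : ∀ v, v ⤳ η → v = η := fun v hv => by
    obtain ⟨u, hu, rfl⟩ := Flat.generalizingMap j hv
    rw [hξ u hu]
  have hfη : f η = genericPoint (Spec (CommRingCat.of R)) := hrj.le ⟨ξ, rfl⟩
  let T : Set X := closure {η}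
  let W := VecSt.subsch X T isClosed_closure
  let ι : W ⟶ X := VecSt.subschι X T isClosed_closure
  have hι : Set.range ι = T := range_subschι X _ _
  obtain ⟨w₀, hw₀⟩ : η ∈ Set.range ι := hι.ge (subset_closure rfl)
  have hgen : IsGenericPoint w₀ (Set.univ : Set W) := by
    refine isGenericPoint_iff_specializes.2 fun z => ⟨fun _ => Set.mem_univ _, fun _ => ?_⟩
    refine ι.isClosedEmbedding.isInducing.specializes_iff.1 ?_
    rw [hw₀]
    exact specializes_iff_mem_closure.2 (hι.le ⟨z, rfl⟩)
  haveI : IrreducibleSpace W := {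
    isPreirreducible_univ := hgen.isIrreducible.isPreirreducible
    toNonempty := ⟨w₀⟩ }
  haveI : IsDominant (ι ≫ f) := ⟨by
    refine Dense.mono (s₁ := {genericPoint (Spec (CommRingCat.of R))}) ?_ ?_
    · rintro _ rfl
      exact ⟨w₀, by rw [Scheme.Hom.comp_apply, hw₀, hfη]⟩
    · exact dense_iff_closure_eq.2 (genericPoint_spec _).def⟩
  obtain ⟨x₀, hx₀, hfx₀⟩ : ∃ x ∈ T, f x = IsLocalRing.closedPoint R := by
    have hTc : IsClosed T := isClosed_closure
    obtain ⟨x, hx, hfx⟩ := ((genericPoint_spec (Spec (CommRingCat.of R))).specializes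
      (Set.mem_univ (IsLocalRing.closedPoint R))).mem_closed (f.isClosedMap T hTc)
        ⟨η, subset_closure rfl, hfη⟩
    exact ⟨x, hx, hfx⟩
  haveI := isClosedImmersion_special hsq
  have hri := range_special hsq
  obtain ⟨x, hx⟩ := hri.ge hfx₀
  obtain ⟨w, hw, hwx, hηw⟩ := exists_gen_mem_of_specializes hsq hη (x := x)
    (hx ▸ specializes_iff_mem_closure.2 hx₀)
  have hdim : topologicalKrullDim ↥(i ⁻¹' T) = 1 := by
    refine le_antisymm ?_ ?_
    · refine (topologicalKrullDim_subspace_le Xs _).trans ?_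
      exact H23.TopDim.dim_eq_iSup_irreducibleComponents.trans_le (iSup₂_le fun D hD => (hpure D hD).le)
    · rw [← hpure _ hw.component_mem]
      have hsub : closure ({w} : Set Xs) ⊆ i ⁻¹' T :=
        closure_minimal (Set.singleton_subset_iff.2 (specializes_iff_mem_closure.1 hηw))
          (isClosed_closure.preimage i.continuous)
      exact (Topology.IsEmbedding.inclusion hsub).isInducing.topologicalKrullDim_le
  let s := IsLocalRing.closedPoint R
  let γ := genericPoint (Spec (CommRingCat.of R))
  have hfib : ∀ p, topologicalKrullDim ↥((ι ≫ f).fiber p) = topologicalKrullDim ↥(T ∩ f ⁻¹' {p}) := fun p => by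
    rw [((ι ≫ f).fiberHomeo p).isHomeomorph.topologicalKrullDim_eq,
      ← dim_preimage_eq ι.isEmbedding (T := T ∩ f ⁻¹' {p}) (fun z hz => hι.ge hz.1)]
    refine (Homeomorph.setCongr ?_).isHomeomorph.topologicalKrullDim_eq
    ext z
    exact ⟨fun hz => ⟨hι.le ⟨z, rfl⟩, hz⟩, fun hz => hz.2⟩
  obtain ⟨w₁, hw₁⟩ := hι.ge (show i x ∈ T by rw [hx]; exact hx₀)
  have hne : Nonempty ↥((ι ≫ f).fiber s) := ⟨((ι ≫ f).fiberHomeo s).symm ⟨w₁, by
    show (ι ≫ f) w₁ = s
    rw [Scheme.Hom.comp_apply, hw₁, hx, hfx₀]⟩⟩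
  have key := S4932.result (ι ≫ f) hne
  rw [hfib, hfib, ← dim_preimage_eq i.isEmbedding (T := T ∩ f ⁻¹' {s}) (fun z hz => hri.ge hz.2),
    ← dim_preimage_eq j.isEmbedding (T := T ∩ f ⁻¹' {γ}) (fun z hz => hrj.ge hz.2)] at key
  have e1 : i ⁻¹' (T ∩ f ⁻¹' {s}) = i ⁻¹' T := Set.inter_eq_left.2 fun z _ => hri.le ⟨z, rfl⟩
  have e2 : j ⁻¹' (T ∩ f ⁻¹' {γ}) = closure ({ξ} : Set Xg) := by
    refine (show j ⁻¹' (T ∩ f ⁻¹' {γ}) = j ⁻¹' T from Set.inter_eq_left.2 fun z _ => hrj.le ⟨z, rfl⟩).trans ?_
    rw [show T = closure (j '' {ξ}) by rw [Set.image_singleton], ← j.isEmbedding.isInducing.closure_eq_preimage_closure_image]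
  rw [e1, e2, hdim] at key
  exact key.symm

end Generic

end Family

end Groth.Agent.BunLib68.TF
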