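import Groth.Agent.BunLib68.TF.Transfer
import Groth.Agent.HTopAwn.PtFun

/-!
# Completion of the base, and the impossibility of towers decomposing forever
-/

set_option autoImplicit false
set_option backward.isDefEq.respectTransparency false
set_option backward.isDefEq.respectTransparency.types false
set_option linter.style.haveILetI false
set_option linter.unusedSectionVars false
set_option linter.overlappingInstances false

universe u

open CategoryTheory CategoryTheory.Limits AlgebraicGeometry TopologicalSpace Opposite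

noncomputable section

namespace Groth.Agent.BunLib68.TF

section Scalars

variable {R A : Type u} [CommRing R] [CommRing A] [Algebra R A] {X Xh : Scheme.{u}}
  [X.Over (Spec (CommRingCat.of R))] [Xh.Over (Spec (CommRingCat.of A))] (g : Xh ⟶ X)
  (hg : g ≫ (X ↘ Spec (CommRingCat.of R)) =
    (Xh ↘ Spec (CommRingCat.of A)) ≫ Spec.map (CommRingCat.ofHom (algebraMap R A)))

include hg in
/-- Multiplication by a scalar commutes with base change. -/
theorem pullback_smulMod_baseChange (M : X.Modules) (a : R) :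
    (Scheme.Modules.pullback g).map (Formal.smulMod R M a) =
      Formal.smulMod A ((Scheme.Modules.pullback g).obj M) (algebraMap R A a) := by
  letI : Xh.Over (Spec (CommRingCat.of R)) := ⟨g ≫ (X ↘ Spec (CommRingCat.of R))⟩
  have e : Coh.toGlobal (Xh ↘ Spec (CommRingCat.of R)) a =
      Coh.toGlobal (Xh ↘ Spec (CommRingCat.of A)) (algebraMap R A a) := by
    show (g ≫ (X ↘ Spec (CommRingCat.of R))).appTop ((Scheme.ΓSpecIso (CommRingCat.of R)).inv a) = _
    rw [hg, Scheme.Hom.comp_appTop]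
    show (Xh ↘ Spec (CommRingCat.of A)).appTop
      ((Spec.map (CommRingCat.ofHom (algebraMap R A))).appTop ((Scheme.ΓSpecIso (CommRingCat.of R)).inv a)) = _
    exact congrArg _ (congr($(Scheme.ΓSpecIso_inv_naturality (CommRingCat.ofHom (algebraMap R A))) a)).symm
  refine (Algz7.pullback_smulMod (A := R) g rfl M a).trans (Scheme.Modules.hom_ext _ _ fun U => ?_)
  ext m
  refine (FFun.smulMod_app (A := R) _ a U m).trans ?_
  refine Eq.trans ?_ (FFun.smulMod_app (A := A) _ _ U m).symm
  rw [e]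

end Scalars

section Residue

variable {Xs : Scheme.{u}} (k K : Type u) [Field k] [Field K] [Algebra k K]
  [Xs.Over (Spec (CommRingCat.of k))] [IsProper (Xs ↘ Spec (CommRingCat.of k))]
  [Xs.Over (Spec (CommRingCat.of K))] [IsProper (Xs ↘ Spec (CommRingCat.of K))]
  (hpb : IsPullback (𝟙 Xs) (Xs ↘ Spec (CommRingCat.of K)) (Xs ↘ Spec (CommRingCat.of k))
    (Spec.map (CommRingCat.ofHom (algebraMap k K))))
  [IsReduced Xs] [IsNoetherian Xs]
  (hpure : ∀ C ∈ irreducibleComponents (Xs : Type u), topologicalKrullDim C = 1)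

include hpb hpure in
/-- `β` only depends on the isomorphism classes and not on the name of the base field. -/
theorem beta_rename {M M' E E' : Xs.Modules} {r : ℕ} (hE : FlatMod.IsFinLocFreeOfRank r E)
    (hE' : FlatMod.IsFinLocFreeOfRank r E') (eM : M' ≅ M) (eE : E' ≅ E) (hM : TFOne.IsTF1 Xs M) (P : Xs → Prop) :
    beta K hE' M' P = beta k hE M P := by
  have hQ := isQuotOn_quotM hM P
  rw [beta_eq_euler_tensor k hpure hE hM hQ (P := P) fun η hη => mem_compUnion_gen hη,
    beta_eq_euler_tensor K hpure hE' (isTF1_iso eM.symm hM) (isQuotOn_source_iso eM hQ) (P := P)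
      fun η hη => mem_compUnion_gen hη,
    CurveCohLib.euler_congr (k := K) ((DCoh.tensorBi.mapIso eE).app (quotM M P))]
  have hEf : FlatMod.IsFinLocFree E := fun y => let ⟨W, hy, he⟩ := hE y; ⟨W, r, hy, he⟩
  have h := CurveBC.euler_eq k K (𝟙 Xs) hpb _ (CurveTensor.isCoh_tensor hEf hQ.2.1).1
  rw [← h]
  exact CurveCohLib.euler_congr (k := K) ((Scheme.Modules.pullbackId Xs).app _).symm

end Residue

variable {R : Type u} [CommRing R] [IsDomain R] [IsDiscreteValuationRing R]
  {X : Scheme.{u}} [X.Over (Spec (CommRingCat.of R))] [IsProper (X ↘ Spec (CommRingCat.of R))]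
  [Flat (X ↘ Spec (CommRingCat.of R))]
  {Xs : Scheme.{u}} [Xs.Over (Spec (CommRingCat.of (IsLocalRing.ResidueField R)))]
  [IsProper (Xs ↘ Spec (CommRingCat.of (IsLocalRing.ResidueField R)))] [IsReduced Xs] [IsNoetherian Xs]
  [GeometricallyReduced (Xs ↘ Spec (CommRingCat.of (IsLocalRing.ResidueField R)))]
  {i : Xs ⟶ X}
  (hsq : IsPullback i (Xs ↘ Spec (CommRingCat.of (IsLocalRing.ResidueField R))) (X ↘ Spec (CommRingCat.of R))
    (Spec.map (CommRingCat.ofHom (IsLocalRing.residue R))))
  (hpure : ∀ C ∈ irreducibleComponents (Xs : Type u), topologicalKrullDim C = 1)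
  {t : R} (ht : Irreducible t) {Y Y' : Set Xs} {E : X.Modules} {r : ℕ} (hE : FlatMod.IsFinLocFreeOfRank r E)

/-- A geometric point of the generic point of the base, factored through the completion. -/
structure HatData (i : Xs ⟶ X) where
  A : Type u
  [cA : CommRing A]
  [dA : IsDomain A]
  [vA : IsDiscreteValuationRing A]
  [compl : IsAdicComplete (IsLocalRing.maximalIdeal A) A]
  [alg : Algebra R A]
  injA : Function.Injective (algebraMap R A)
  irr : ∀ t : R, Irreducible t → Irreducible (algebraMap R A t)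
  Xh : Scheme.{u}
  g : Xh ⟶ X
  [flatg : Flat g]
  [ovh : Xh.Over (Spec (CommRingCat.of A))]
  [proph : IsProper (Xh ↘ Spec (CommRingCat.of A))]
  [flath : Flat (Xh ↘ Spec (CommRingCat.of A))]
  hgp : IsPullback g (Xh ↘ Spec (CommRingCat.of A)) (X ↘ Spec (CommRingCat.of R))
    (Spec.map (CommRingCat.ofHom (algebraMap R A)))
  ih : Xs ⟶ Xh
  hih : ih ≫ g = i
  [algκ : Algebra (IsLocalRing.ResidueField R) (IsLocalRing.ResidueField A)]
  qA : Xs ⟶ Spec (CommRingCat.of (IsLocalRing.ResidueField A))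
  [propA : IsProper qA]
  hA : IsPullback ih qA (Xh ↘ Spec (CommRingCat.of A)) (Spec.map (CommRingCat.ofHom (IsLocalRing.residue A)))
  hκ : IsPullback (𝟙 Xs) qA (Xs ↘ Spec (CommRingCat.of (IsLocalRing.ResidueField R)))
    (Spec.map (CommRingCat.ofHom (algebraMap (IsLocalRing.ResidueField R) (IsLocalRing.ResidueField A))))
  Ω : Type u
  [fΩ : Field Ω]
  [algClosed : IsAlgClosed Ω]
  [algAΩ : Algebra A Ω]
  [algRΩ : Algebra R Ω]
  injΩ : Function.Injective (algebraMap A Ω)
  injRΩ : Function.Injective (algebraMap R Ω)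
  tower : algebraMap R Ω = (algebraMap A Ω).comp (algebraMap R A)
  XΩ : Scheme.{u}
  [ovΩ : XΩ.Over (Spec (CommRingCat.of Ω))]
  [propΩ : IsProper (XΩ ↘ Spec (CommRingCat.of Ω))]
  [redΩ : IsReduced XΩ]
  [noethΩ : IsNoetherian XΩ]
  φ : XΩ ⟶ Xh
  hφ : IsPullback φ (XΩ ↘ Spec (CommRingCat.of Ω)) (Xh ↘ Spec (CommRingCat.of A))
    (Spec.map (CommRingCat.ofHom (algebraMap A Ω)))
  hφR : IsPullback (φ ≫ g) (XΩ ↘ Spec (CommRingCat.of Ω)) (X ↘ Spec (CommRingCat.of R))
    (Spec.map (CommRingCat.ofHom (algebraMap R Ω)))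

attribute [instance] HatData.cA HatData.dA HatData.vA HatData.compl HatData.alg HatData.flatg HatData.ovh
  HatData.proph HatData.flath HatData.algκ HatData.propA HatData.fΩ HatData.algClosed HatData.algAΩ
  HatData.algRΩ HatData.ovΩ HatData.propΩ HatData.redΩ HatData.noethΩ

include hsq in
theorem exists_hatData : Nonempty (HatData (R := R) i) := by
  let f := X ↘ Spec (CommRingCat.of R)
  let A := AdicCompletion (IsLocalRing.maximalIdeal R) R
  obtain ⟨hd, hv, hinj⟩ := HTopAwn.isDVR_completion (V := R)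
  haveI := hd
  haveI := hv
  let ρ : CommRingCat.of R ⟶ CommRingCat.of A := CommRingCat.ofHom (algebraMap R A)
  haveI : Module.Flat R A := Module.Flat.flat_iff_torsion_eq_bot_of_isBezout.2 (eq_bot_iff.2 (by
    rintro v ⟨⟨a, ha⟩, hav⟩
    have h0 : algebraMap R A a * v = 0 := (Algebra.smul_def a v).symm.trans hav
    exact (mul_eq_zero.1 h0).resolve_left fun hh =>
      nonZeroDivisors.ne_zero ha (hinj (hh.trans (map_zero _).symm))))
  haveI : Flat (Spec.map ρ) :=
    (HasRingHomProperty.Spec_iff (P := @Flat)).2 ((RingHom.flat_algebraMap_iff).2 inferInstance)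
  let Xh := pullback f (Spec.map ρ)
  letI : Xh.Over (Spec (CommRingCat.of A)) := ⟨pullback.snd f (Spec.map ρ)⟩
  haveI : IsProper (Xh ↘ Spec (CommRingCat.of A)) := inferInstanceAs (IsProper (pullback.snd f (Spec.map ρ)))
  haveI : Flat (Xh ↘ Spec (CommRingCat.of A)) := inferInstanceAs (Flat (pullback.snd f (Spec.map ρ)))
  haveI : Flat (pullback.fst f (Spec.map ρ)) := inferInstance
  haveI : IsLocalHom (algebraMap R A) := inferInstance
  let e : IsLocalRing.ResidueField R →+* IsLocalRing.ResidueField A := IsLocalRing.ResidueField.map (algebraMap R A)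
  letI : Algebra (IsLocalRing.ResidueField R) (IsLocalRing.ResidueField A) := e.toAlgebra
  have he : Function.Bijective e := AdicCompletion.residueField_map_bijective (R := R)
  haveI : IsIso (CommRingCat.ofHom e) := (ConcreteCategory.isIso_iff_bijective _).2 he
  haveI : IsIso (Spec.map (CommRingCat.ofHom e)) := inferInstance
  let qA : Xs ⟶ Spec (CommRingCat.of (IsLocalRing.ResidueField A)) :=
    (Xs ↘ Spec (CommRingCat.of (IsLocalRing.ResidueField R))) ≫ inv (Spec.map (CommRingCat.ofHom e))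
  haveI : IsProper qA := inferInstanceAs (IsProper (_ ≫ inv (Spec.map (CommRingCat.ofHom e))))
  have hκ : IsPullback (𝟙 Xs) qA (Xs ↘ Spec (CommRingCat.of (IsLocalRing.ResidueField R)))
      (Spec.map (CommRingCat.ofHom e)) :=
    IsPullback.of_horiz_isIso ⟨by simp [qA]⟩
  have hi : IsPullback i qA f (Spec.map (CommRingCat.ofHom e) ≫ Spec.map (CommRingCat.ofHom (IsLocalRing.residue R))) := by
    simpa using hκ.paste_horiz hsq
  have hres : Spec.map (CommRingCat.ofHom e) ≫ Spec.map (CommRingCat.ofHom (IsLocalRing.residue R)) =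
      Spec.map (CommRingCat.ofHom (IsLocalRing.residue A)) ≫ Spec.map ρ := by
    rw [← Spec.map_comp, ← Spec.map_comp]
    rfl
  rw [hres] at hi
  let ih : Xs ⟶ Xh := pullback.lift i (qA ≫ Spec.map (CommRingCat.ofHom (IsLocalRing.residue A)))
    (by rw [hi.w]; exact (Category.assoc _ _ _).symm)
  have hA : IsPullback ih qA (Xh ↘ Spec (CommRingCat.of A)) (Spec.map (CommRingCat.ofHom (IsLocalRing.residue A))) :=
    IsPullback.of_right (h₁₂ := pullback.fst f (Spec.map ρ)) (by rw [pullback.lift_fst]; exact hi)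
      (pullback.lift_snd _ _ _) (IsPullback.of_hasPullback f (Spec.map ρ))
  let Ω := AlgebraicClosure (FractionRing A)
  letI : Algebra A Ω := ((algebraMap (FractionRing A) Ω).comp (algebraMap A (FractionRing A))).toAlgebra
  letI : Algebra R Ω := ((algebraMap A Ω).comp (algebraMap R A)).toAlgebra
  have hAΩ : Function.Injective (algebraMap A Ω) :=
    (algebraMap (FractionRing A) Ω).injective.comp (IsFractionRing.injective A (FractionRing A))
  have hRΩ : Function.Injective (algebraMap R Ω) := hAΩ.comp hinj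
  let s := Spec.map (CommRingCat.ofHom (algebraMap A Ω))
  let XΩ := pullback (Xh ↘ Spec (CommRingCat.of A)) s
  letI : XΩ.Over (Spec (CommRingCat.of Ω)) := ⟨pullback.snd (Xh ↘ Spec (CommRingCat.of A)) s⟩
  haveI : IsProper (XΩ ↘ Spec (CommRingCat.of Ω)) :=
    inferInstanceAs (IsProper (pullback.snd (Xh ↘ Spec (CommRingCat.of A)) s))
  have hφR : IsPullback (pullback.fst (Xh ↘ Spec (CommRingCat.of A)) s ≫ pullback.fst f (Spec.map ρ))
      (XΩ ↘ Spec (CommRingCat.of Ω)) f (Spec.map (CommRingCat.ofHom (algebraMap R Ω))) := by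
    have h := (IsPullback.of_hasPullback (Xh ↘ Spec (CommRingCat.of A)) s).paste_horiz
      (IsPullback.of_hasPullback f (Spec.map ρ))
    rw [← Spec.map_comp] at h
    exact h
  haveI := geometricallyReduced_family hsq
  haveI : IsReduced XΩ := GeometricallyReduced.geometrically_isReduced (f := f) _ _ _ hφR
  haveI : IsNoetherian XΩ := CurveCohLib.isNoetherian_of_proper (k := Ω) (X := XΩ)
  refine ⟨{
    A := A, injA := hinj, irr := fun t ht => ?_, Xh := Xh, g := pullback.fst f (Spec.map ρ),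
    hgp := IsPullback.of_hasPullback _ _, tower := rfl, ih := ih, hih := pullback.lift_fst _ _ _, qA := qA, hA := hA, hκ := hκ,
    Ω := Ω, injΩ := hAΩ, injRΩ := hRΩ, XΩ := XΩ, φ := pullback.fst (Xh ↘ Spec (CommRingCat.of A)) s,
    hφ := IsPullback.of_hasPullback _ _, hφR := hφR }⟩
  refine (IsDiscreteValuationRing.irreducible_iff_uniformizer _).2 ?_
  rw [AdicCompletion.maximalIdeal_eq_map]
  exact (congrArg (Ideal.map (algebraMap R A)) ht.maximalIdeal_eq).trans
    (by rw [Ideal.map_span, Set.image_singleton])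

variable {D : HatData (R := R) i}

/-- The restriction to the special fibre through the completion. -/
def HatData.cIso (D : HatData (R := R) i) :
    Scheme.Modules.pullback D.g ⋙ Scheme.Modules.pullback D.ih ≅ Scheme.Modules.pullback i :=
  Scheme.Modules.pullbackComp D.ih D.g ≪≫ Scheme.Modules.pullbackCongr D.hih

include ht in
theorem HatData.mono_pullback (D : HatData (R := R) i) {M : X.Modules} [Mono (Formal.smulMod R M t)] :
    Mono (Formal.smulMod D.A ((Scheme.Modules.pullback D.g).obj M) (algebraMap R D.A t)) := by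
  haveI := KFlatLib.preservesHomology_pullback D.g
  rw [← pullback_smulMod_baseChange D.g D.hgp.w]
  infer_instance

include ht in
/-- The tower pulled back to the completion. -/
theorem HatData.exists_quotient (D : HatData (R := R) i) (T : DecTower (R := R) i t Y Y') :
    ∃ (F : D.Xh.Modules) (p : (Scheme.Modules.pullback D.g).obj (T.In 0) ⟶ F), Coh.IsCoh F ∧ Epi p ∧
      Mono (Formal.smulMod D.A F (algebraMap R D.A t)) ∧
      TFOne.IsQuotOn Xs ((Scheme.Modules.pullback D.ih).obj ((Scheme.Modules.pullback D.g).obj (T.In 0))) Y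
        ((Scheme.Modules.pullback D.ih).obj F) ((Scheme.Modules.pullback D.ih).map p) ∧
      ∃ e : (Scheme.Modules.pullback D.ih).obj F ≅ T.G 0,
        (Scheme.Modules.pullback D.ih).map p ≫ e.hom = D.cIso.hom.app (T.In 0) ≫ T.π 0 := by
  let L := Scheme.Modules.pullback D.g
  let c := D.cIso
  haveI := LocallyOfFiniteType.isLocallyNoetherian (X ↘ Spec (CommRingCat.of R))
  haveI := LocallyOfFiniteType.isLocallyNoetherian (D.Xh ↘ Spec (CommRingCat.of D.A))
  let T' : DecTower (R := D.A) D.ih (algebraMap R D.A t) Y Y' :=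
    { In := fun n => L.obj (T.In n)
      a := fun n => L.map (T.a n)
      u := fun n => L.map (T.u n)
      au := fun n => by rw [← L.map_comp, T.au, pullback_smulMod_baseChange D.g D.hgp.w]
      ua := fun n => by rw [← L.map_comp, T.ua, pullback_smulMod_baseChange D.g D.hgp.w]
      coh := fun n => ZClosLib.isCoh_pullback D.g (T.coh n)
      mono_t := fun n => haveI := T.mono_t n; D.mono_pullback ht
      G := T.G
      G' := T.G'
      π := fun n => c.hom.app (T.In n) ≫ T.π n
      π' := fun n => c.hom.app (T.In n) ≫ T.π' n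
      isQuot := fun n => isQuotOn_source_iso (c.app (T.In n)) (T.isQuot n)
      isQuot' := fun n => isQuotOn_source_iso (c.app (T.In n)) (T.isQuot' n)
      a_π := fun n => by
        show (L ⋙ Scheme.Modules.pullback D.ih).map (T.a n) ≫ c.hom.app _ ≫ _ = 0
        rw [← Category.assoc, c.hom.naturality, Category.assoc, T.a_π, comp_zero]
      desc := fun n {Z} g hg => by
        have h0 : (Scheme.Modules.pullback i).map (T.a n) ≫ c.inv.app (T.In n) ≫ g = 0 := by
          rw [← Category.assoc, c.inv.naturality, Category.assoc]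
          show c.inv.app _ ≫ (Scheme.Modules.pullback D.ih).map (L.map (T.a n)) ≫ g = 0
          rw [hg, comp_zero]
        obtain ⟨h, hh⟩ := T.desc n _ h0
        exact ⟨h, by rw [Category.assoc, hh, ← Category.assoc, c.hom_inv_id_app]; exact Category.id_comp g⟩
      dec := fun n => by
        haveI := T.dec n
        rw [show biprod.lift (c.hom.app (T.In n) ≫ T.π n) (c.hom.app (T.In n) ≫ T.π' n) =
          c.hom.app (T.In n) ≫ biprod.lift (T.π n) (T.π' n) from biprod.hom_ext _ _ (by simp) (by simp)]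
        infer_instance
      disj := T.disj }
  obtain ⟨F, p, hF, hp, hFt, e, he⟩ := DecTower.exists_flat_quotient D.hA (D.irr t ht) T'
  exact ⟨F, p, hF, hp, hFt, isQuotOn_iso (isQuotOn_source_iso (c.app (T.In 0)) (T.isQuot 0))
    (ZClosLib.isCoh_pullback D.ih hF) e he, e, he⟩

/-- The geometric generic fibres used to state hypotheses on the general fibre. -/
def GenCond (P : ∀ (Ω : Type u) [Field Ω] [IsAlgClosed Ω] (W : Scheme.{u}),
    (W ⟶ Spec (CommRingCat.of Ω)) → (W ⟶ X) → Prop) : Prop :=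
  ∀ (Ω : Type u) [Field Ω] [IsAlgClosed Ω] [Algebra R Ω], Function.Injective (algebraMap R Ω) →
    ∀ (W : Scheme.{u}) (φ : W ⟶ X) (q : W ⟶ Spec (CommRingCat.of Ω)),
      IsPullback φ q (X ↘ Spec (CommRingCat.of R)) (Spec.map (CommRingCat.ofHom (algebraMap R Ω))) → P Ω W q φ

/-- The generic fibres of `I` are semistable. -/
def GenSS (I E : X.Modules) (r : ℕ) : Prop :=
  GenCond (R := R) (X := X) fun Ω _ _ W q φ =>
    TFOne.IsSemistable W Ω q ((Scheme.Modules.pullback φ).obj I) ((Scheme.Modules.pullback φ).obj E) r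

/-- The generic fibres of `I` are simple. -/
def GenSimple (I : X.Modules) : Prop :=
  GenCond (R := R) (X := X) fun Ω _ _ W q φ =>
    TFOne.IsTF1 W ((Scheme.Modules.pullback φ).obj I) ∧ TFOne.IsSimple W Ω q ((Scheme.Modules.pullback φ).obj I)

include hsq hpure ht in
/-- No tower decomposes forever along a destabilising selection. -/
theorem DecTower.false_of_ss (T : DecTower (R := R) i t Y Y') (hgen : GenSS (R := R) (T.In 0) E r)
    (hIs : TFOne.IsTF1 Xs ((Scheme.Modules.pullback i).obj (T.In 0)))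
    (h0 : beta (IsLocalRing.ResidueField R) (isFinLocFreeOfRank_pullback i hE)
      ((Scheme.Modules.pullback i).obj (T.In 0)) (fun _ => True) = 0)
    (hneg : beta (IsLocalRing.ResidueField R) (isFinLocFreeOfRank_pullback i hE)
      ((Scheme.Modules.pullback i).obj (T.In 0)) (· ∈ Y) < 0) : False := by
  obtain ⟨D⟩ := exists_hatData hsq
  haveI := T.mono_t 0
  obtain ⟨F, p, hF, hp, hFt, hq, -⟩ := D.exists_quotient ht T
  haveI := hp
  haveI := hFt
  haveI := D.mono_pullback ht (M := T.In 0)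
  letI : Xs.Over (Spec (CommRingCat.of (IsLocalRing.ResidueField D.A))) := ⟨D.qA⟩
  haveI : IsProper (Xs ↘ Spec (CommRingCat.of (IsLocalRing.ResidueField D.A))) := D.propA
  haveI := LocallyOfFiniteType.isLocallyNoetherian (X ↘ Spec (CommRingCat.of R))
  haveI := LocallyOfFiniteType.isLocallyNoetherian (D.Xh ↘ Spec (CommRingCat.of D.A))
  let eM := D.cIso.app (T.In 0)
  let eE := D.cIso.app E
  have hE' := isFinLocFreeOfRank_pullback D.g hE
  have key := beta_rename (IsLocalRing.ResidueField R) (IsLocalRing.ResidueField D.A) D.hκ hpure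
    (isFinLocFreeOfRank_pullback i hE) (isFinLocFreeOfRank_pullback D.ih hE') eM eE hIs
  have hss := isSemistable_iso D.Ω (D.XΩ ↘ Spec (CommRingCat.of D.Ω))
    (((Scheme.Modules.pullbackComp D.φ D.g).app (T.In 0)).symm)
    (((Scheme.Modules.pullbackComp D.φ D.g).app E).symm) (hgen D.Ω D.injRΩ D.XΩ _ _ D.hφR)
  have := beta_nonneg_of_quotient D.hA D.Ω D.injΩ D.hφ hpure (D.irr t ht) (ZClosLib.isCoh_pullback D.g (T.coh 0))
    hss.1 (isTF1_iso eM.symm hIs) hF p hq hE' ((key _).trans h0) hss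
  exact absurd ((key _).symm ▸ this) (not_le.2 hneg)

include hsq hpure ht in
/-- No tower decomposes forever along a selection through the section with `β ≤ 0`. -/
theorem DecTower.false_of_qs (T : DecTower (R := R) i t Y Y') (σ : Spec (CommRingCat.of R) ⟶ X)
    (hσ : σ ≫ (X ↘ Spec (CommRingCat.of R)) = 𝟙 _)
    (hgen : GenCond (R := R) (X := X) fun Ω _ _ W q φ => ∀ y : Spec (CommRingCat.of Ω) ⟶ W, y ≫ q = 𝟙 _ →
      y ≫ φ = y ≫ φ ≫ (X ↘ Spec (CommRingCat.of R)) ≫ σ →
      TFOne.IsQuasistableAtPt W Ω q ((Scheme.Modules.pullback φ).obj (T.In 0)) ((Scheme.Modules.pullback φ).obj E) r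
        (y.base (IsLocalRing.closedPoint Ω)))
    {x : Xs} (hxσ : i x = σ (IsLocalRing.closedPoint R)) [IsDomain (Xs.presheaf.stalk x)] (hxY : x ∈ Y)
    (hY : ∃ η, IsGen η ∧ η ∉ Y)
    (hIs : TFOne.IsTF1 Xs ((Scheme.Modules.pullback i).obj (T.In 0)))
    (hle : beta (IsLocalRing.ResidueField R) (isFinLocFreeOfRank_pullback i hE)
      ((Scheme.Modules.pullback i).obj (T.In 0)) (· ∈ Y) ≤ 0) : False := by
  obtain ⟨D⟩ := exists_hatData hsq
  haveI := T.mono_t 0
  obtain ⟨F, p, hF, hp, hFt, hq, -⟩ := D.exists_quotient ht T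
  haveI := hp
  haveI := hFt
  haveI := D.mono_pullback ht (M := T.In 0)
  letI : Xs.Over (Spec (CommRingCat.of (IsLocalRing.ResidueField D.A))) := ⟨D.qA⟩
  haveI : IsProper (Xs ↘ Spec (CommRingCat.of (IsLocalRing.ResidueField D.A))) := D.propA
  haveI := LocallyOfFiniteType.isLocallyNoetherian (X ↘ Spec (CommRingCat.of R))
  haveI := LocallyOfFiniteType.isLocallyNoetherian (D.Xh ↘ Spec (CommRingCat.of D.A))
  let f := X ↘ Spec (CommRingCat.of R)
  let ρ := Spec.map (CommRingCat.ofHom (algebraMap R D.Ω))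
  let y : Spec (CommRingCat.of D.Ω) ⟶ D.XΩ :=
    D.hφR.lift (ρ ≫ σ) (𝟙 _) (by rw [Category.assoc, hσ, Category.comp_id, Category.id_comp])
  have hy1 : y ≫ D.φ ≫ D.g = ρ ≫ σ := D.hφR.lift_fst _ _ _
  have hy : y ≫ (D.φ ≫ D.g) = y ≫ (D.φ ≫ D.g) ≫ f ≫ σ := by
    rw [← Category.assoc y (D.φ ≫ D.g), hy1, Category.assoc, ← Category.assoc σ f, hσ, Category.id_comp]
  have hqs := isQuasistableAtPt_iso D.Ω (D.XΩ ↘ Spec (CommRingCat.of D.Ω))
    (((Scheme.Modules.pullbackComp D.φ D.g).app (T.In 0)).symm)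
    (((Scheme.Modules.pullbackComp D.φ D.g).app E).symm)
    (hgen D.Ω D.injRΩ D.XΩ _ _ D.hφR y (D.hφR.lift_snd _ _ _) hy)
  -- the section over the completion
  let a := Spec.map (CommRingCat.ofHom (algebraMap R D.A))
  haveI : IsLocalHom (algebraMap R D.A) := ⟨fun r hr => by
    by_contra hn
    exact (D.irr t ht).not_isUnit (isUnit_of_dvd_unit (map_dvd (algebraMap R D.A)
      (Ideal.mem_span_singleton.1 (ht.maximalIdeal_eq ▸ (IsLocalRing.mem_maximalIdeal r).2 hn))) hr)⟩
  have hΩe : algebraMap R D.Ω = (algebraMap D.A D.Ω).comp (algebraMap R D.A) := D.tower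
  obtain ⟨σh, hσh₁, hσh₂⟩ : ∃ σh : Spec (CommRingCat.of D.A) ⟶ D.Xh, σh ≫ D.g = a ≫ σ ∧
      σh ≫ (D.Xh ↘ Spec (CommRingCat.of D.A)) = 𝟙 _ := by
    refine ⟨D.hgp.lift (a ≫ σ) (𝟙 _) (by rw [Category.assoc, hσ, Category.comp_id, Category.id_comp]),
      D.hgp.lift_fst _ _ _, D.hgp.lift_snd _ _ _⟩
  have hyφ : y ≫ D.φ = Spec.map (CommRingCat.ofHom (algebraMap D.A D.Ω)) ≫ σh := by
    refine D.hgp.hom_ext ?_ ?_
    · rw [Category.assoc, Category.assoc, hσh₁, ← Category.assoc (Spec.map _) a σ, ← Spec.map_comp]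
      refine hy1.trans ?_
      show Spec.map (CommRingCat.ofHom (algebraMap R D.Ω)) ≫ σ = _
      rw [hΩe]
      rfl
    · rw [Category.assoc, Category.assoc, hσh₂, Category.comp_id, D.hφ.w, ← Category.assoc]
      show (y ≫ (D.XΩ ↘ Spec (CommRingCat.of D.Ω))) ≫ _ = _
      rw [D.hφR.lift_snd, Category.id_comp]
  have hyx : D.φ (y (IsLocalRing.closedPoint D.Ω)) ⤳ D.ih x := by
    have h1 : σh (IsLocalRing.closedPoint D.A) = D.ih x := by
      obtain ⟨x', hx'⟩ := (range_special D.hA).ge (show (D.Xh ↘ Spec (CommRingCat.of D.A))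
        (σh (IsLocalRing.closedPoint D.A)) = IsLocalRing.closedPoint D.A by
          rw [← Scheme.Hom.comp_apply, hσh₂]; rfl)
      rw [← hx']
      haveI := isClosedImmersion_fibre hsq
      refine congrArg D.ih (i.isClosedEmbedding.injective ?_)
      refine (congr($(D.hih) x')).symm.trans ?_
      rw [Scheme.Hom.comp_apply, hx', ← Scheme.Hom.comp_apply, hσh₁, Scheme.Hom.comp_apply,
        show a (IsLocalRing.closedPoint D.A) = IsLocalRing.closedPoint R from IsLocalRing.comap_closedPoint _, hxσ]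
    rw [← Scheme.Hom.comp_apply, hyφ, Scheme.Hom.comp_apply, ← h1]
    exact (IsLocalRing.specializes_closedPoint _).map σh.continuous
  have key := beta_rename (IsLocalRing.ResidueField R) (IsLocalRing.ResidueField D.A) D.hκ hpure
    (isFinLocFreeOfRank_pullback i hE) (isFinLocFreeOfRank_pullback D.ih (isFinLocFreeOfRank_pullback D.g hE))
    (D.cIso.app (T.In 0)) (D.cIso.app E) hIs
  have := beta_pos_of_quotient D.hA D.Ω D.injΩ D.hφ hpure (D.irr t ht) (ZClosLib.isCoh_pullback D.g (T.coh 0))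
    hqs.1.1 (isTF1_iso (D.cIso.app (T.In 0)).symm hIs) hF p hq (isFinLocFreeOfRank_pullback D.g hE) hxY hyx hY hqs
  exact absurd ((key _).symm ▸ this) (not_lt.2 hle)

include hsq hpure ht in
/-- Not both towers along a selection and its complement decompose forever. -/
theorem DecTower.false_of_simple {Y₂ Y₂' : Set Xs} (T : DecTower (R := R) i t Y Y')
    (T' : DecTower (R := R) i t Y₂ Y₂') (eI : T.In 0 ≅ T'.In 0)
    [IsIso (biprod.lift (T.π 0) ((Scheme.Modules.pullback i).map eI.hom ≫ T'.π 0))]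
    (hY : ∃ η, IsGen η ∧ η ∈ Y) (hY' : ∃ η, IsGen η ∧ η ∈ Y₂) (hgen : GenSimple (R := R) (T.In 0))
    (hIs : TFOne.IsTF1 Xs ((Scheme.Modules.pullback i).obj (T.In 0))) : False := by
  obtain ⟨D⟩ := exists_hatData hsq
  haveI := T.mono_t 0
  obtain ⟨F, p, hF, hp, hFt, hq, e₁, he₁⟩ := D.exists_quotient ht T
  obtain ⟨F', p₀, hF', hp', hFt', hq₀, e₂, he₂⟩ := D.exists_quotient ht T'
  haveI := hp
  haveI := hFt
  haveI := hp'
  haveI := hFt'
  haveI := D.mono_pullback ht (M := T.In 0)
  let L := Scheme.Modules.pullback D.g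
  let Lh := Scheme.Modules.pullback D.ih
  let p' : L.obj (T.In 0) ⟶ F' := L.map eI.hom ≫ p₀
  haveI : Epi p' := epi_comp _ _
  have hq' : TFOne.IsQuotOn Xs (Lh.obj (L.obj (T.In 0))) Y₂ (Lh.obj F') (Lh.map p') := by
    rw [Lh.map_comp]
    exact isQuotOn_source_iso (Lh.mapIso (L.mapIso eI)) hq₀
  haveI : IsIso (biprod.lift (Lh.map p) (Lh.map p')) := by
    have e : biprod.lift (Lh.map p) (Lh.map p') ≫ biprod.map e₁.hom e₂.hom =
        D.cIso.hom.app (T.In 0) ≫ biprod.lift (T.π 0) ((Scheme.Modules.pullback i).map eI.hom ≫ T'.π 0) := by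
      refine biprod.hom_ext _ _ ?_ ?_
      · simp only [Category.assoc, biprod.map_fst, biprod.lift_fst, biprod.lift_fst_assoc]
        exact he₁
      · simp only [Category.assoc, biprod.map_snd, biprod.lift_snd, biprod.lift_snd_assoc]
        show Lh.map (L.map eI.hom ≫ p₀) ≫ e₂.hom = _
        rw [Lh.map_comp, Category.assoc, he₂, ← Category.assoc, ← Category.assoc]
        exact congrArg (· ≫ T'.π 0) (D.cIso.hom.naturality eI.hom)
    haveI : IsIso (biprod.lift (Lh.map p) (Lh.map p') ≫ biprod.map e₁.hom e₂.hom) := by rw [e]; infer_instance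
    haveI : IsIso (biprod.map e₁.hom e₂.hom) := inferInstanceAs (IsIso (biprod.mapIso e₁ e₂).hom)
    exact IsIso.of_isIso_comp_right _ (biprod.map e₁.hom e₂.hom)
  letI : Xs.Over (Spec (CommRingCat.of (IsLocalRing.ResidueField D.A))) := ⟨D.qA⟩
  haveI : IsProper (Xs ↘ Spec (CommRingCat.of (IsLocalRing.ResidueField D.A))) := D.propA
  haveI := LocallyOfFiniteType.isLocallyNoetherian (X ↘ Spec (CommRingCat.of R))
  obtain ⟨hT, hs⟩ := hgen D.Ω D.injRΩ D.XΩ _ _ D.hφR
  exact false_of_split D.hA D.Ω D.injΩ D.hφ (D.irr t ht) (ZClosLib.isCoh_pullback D.g (T.coh 0))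
    (isTF1_iso ((Scheme.Modules.pullbackComp D.φ D.g).app (T.In 0)).symm hT)
    (isTF1_iso (D.cIso.app (T.In 0)).symm hIs) hF p hq hF' p' hq' hY hY'
    (isSimple_iso D.Ω (D.XΩ ↘ Spec (CommRingCat.of D.Ω)) ((Scheme.Modules.pullbackComp D.φ D.g).app (T.In 0)).symm hs)

end Groth.Agent.BunLib68.TF
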