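import Groth.Agent.BunLib68.TF.Beta

/-!
# The combinatorics of one modification step
-/

set_option autoImplicit false
set_option backward.isDefEq.respectTransparency false
set_option backward.isDefEq.respectTransparency.types false
set_option linter.style.haveILetI false
set_option linter.unusedSectionVars false
set_option linter.overlappingInstances false

universe u

open CategoryTheory CategoryTheory.Limits AlgebraicGeometry TopologicalSpace Opposite

noncomputable section

namespace Groth.Agent.BunLib68.TF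

variable {X : Scheme.{u}} (k : Type u) [Field k] [X.Over (Spec (CommRingCat.of k))]
  [IsProper (X ↘ Spec (CommRingCat.of k))] [IsReduced X] [IsNoetherian X]
  (hpure : ∀ C ∈ irreducibleComponents (X : Type u), topologicalKrullDim C = 1)
  {M M' : X.Modules} {Y : X → Prop}

/-- `M` decomposes along the components selected by `P`, in terms of Euler characteristics. -/
def Dec (M : X.Modules) (P : X → Prop) : Prop :=
  chiQ k M P + chiQ k M (fun η => ¬ P η) = chiQ k M (fun _ => True)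

/-- The number of generic points selected by `P`. -/
def cnt (P : X → Prop) : ℕ := {η : X | IsGen η ∧ P η}.ncard

theorem finite_sel (P : X → Prop) : {η : X | IsGen η ∧ P η}.Finite := finite_isGen.subset fun _ h => h.1

theorem cnt_le (P : X → Prop) : cnt P ≤ {η : X | IsGen η}.ncard :=
  Set.ncard_le_ncard (fun _ h => h.1) finite_isGen

theorem cnt_mono {P Q : X → Prop} (h : ∀ η, IsGen η → P η → Q η) : cnt P ≤ cnt Q :=
  Set.ncard_le_ncard (fun η hη => ⟨hη.1, h η hη.1 hη.2⟩) (finite_sel Q)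

theorem cnt_lt {P Q : X → Prop} (h : ∀ η, IsGen η → P η → Q η) {η : X} (hη : IsGen η) (hQ : Q η) (hP : ¬ P η) :
    cnt P < cnt Q :=
  Set.ncard_lt_ncard ⟨fun x hx => ⟨hx.1, h x hx.1 hx.2⟩, fun hsub => hP (hsub ⟨hη, hQ⟩).2⟩ (finite_sel Q)

theorem eq_of_cnt_le {P Q : X → Prop} (h : ∀ η, IsGen η → P η → Q η) (hc : cnt Q ≤ cnt P) :
    ∀ η, IsGen η → (P η ↔ Q η) := fun η hη =>
  ⟨h η hη, fun hQ => by
    by_contra hP
    exact absurd (cnt_lt h hη hQ hP) (by omega)⟩

theorem Dec.congr (hM : TFOne.IsTF1 X M) {P Q : X → Prop} (h : ∀ η, IsGen η → (P η ↔ Q η)) (hd : Dec k M P) :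
    Dec k M Q := by
  unfold Dec at hd ⊢
  rw [chiQ_congr k hM (P := Q) (Q := P) fun η hη => (h η hη).symm,
    chiQ_congr k hM (P := fun η => ¬ Q η) (Q := fun η => ¬ P η) fun η hη => not_congr (h η hη).symm]
  exact hd

theorem Dec.compl (hM : TFOne.IsTF1 X M) {P : X → Prop} (hd : Dec k M P) : Dec k M (fun η => ¬ P η) := by
  unfold Dec at hd ⊢
  rw [chiQ_congr k hM (P := fun η => ¬¬ P η) (Q := P) fun η _ => not_not]
  linarith

include hpure in
/-- A decomposed sheaf splits every selection of components. -/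
theorem Dec.split (hM : TFOne.IsTF1 X M) (hY : Dec k M Y) (Q : X → Prop) :
    chiQ k M Q = chiQ k M (fun η => Q η ∧ Y η) + chiQ k M (fun η => Q η ∧ ¬ Y η) := by
  have h1 := chiQ_submodular k hpure hM (fun η => Q η ∧ Y η) (fun η => Q η ∧ ¬ Y η)
  rw [chiQ_congr k hM (P := fun η => (Q η ∧ Y η) ∨ (Q η ∧ ¬ Y η)) (Q := Q) (fun η _ => by tauto),
    chiQ_congr k hM (P := fun η => (Q η ∧ Y η) ∧ (Q η ∧ ¬ Y η)) (Q := fun _ => False) (fun η _ => by tauto),
    chiQ_false k hM] at h1
  have h2 := chiQ_submodular k hpure hM Q Y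
  have h3 := chiQ_submodular k hpure hM (fun η => Q η ∨ Y η) (fun η => ¬ Y η)
  rw [chiQ_congr k hM (P := fun η => (Q η ∨ Y η) ∨ ¬ Y η) (Q := fun _ => True) (fun η _ => by tauto),
    chiQ_congr k hM (P := fun η => (Q η ∨ Y η) ∧ ¬ Y η) (Q := fun η => Q η ∧ ¬ Y η) (fun η _ => by tauto)] at h3
  unfold Dec at hY
  linarith

include hpure in
/-- Decompositions do not increase under modification along a decomposing selection. -/
theorem IsModif.dec_mono (h : IsModif k M M' Y) (hM : TFOne.IsTF1 X M) (hY : Dec k M Y) {P : X → Prop}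
    (hP : Dec k M' P) : Dec k M P := by
  have hT : chiQ k M' (fun _ => True) = chiQ k M (fun _ => True) := by
    rw [chiQ_true k h.tf1, chiQ_true k hM, h.euler_eq]
  have a := h.le P
  have b := h.le (fun η => ¬ P η)
  have s1 := hY.split k hpure hM P
  have s2 := hY.split k hpure hM (fun η => ¬ P η)
  have t1 := hY.split k hpure hM (fun η => P η ∨ Y η)
  have t2 := hY.split k hpure hM (fun η => ¬ P η ∨ Y η)
  rw [chiQ_congr k hM (P := fun η => (P η ∨ Y η) ∧ Y η) (Q := Y) (fun η _ => by tauto),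
    chiQ_congr k hM (P := fun η => (P η ∨ Y η) ∧ ¬ Y η) (Q := fun η => P η ∧ ¬ Y η) (fun η _ => by tauto)] at t1
  rw [chiQ_congr k hM (P := fun η => (¬ P η ∨ Y η) ∧ Y η) (Q := Y) (fun η _ => by tauto),
    chiQ_congr k hM (P := fun η => (¬ P η ∨ Y η) ∧ ¬ Y η) (Q := fun η => ¬ P η ∧ ¬ Y η) (fun η _ => by tauto)] at t2
  have u := chiQ_submodular k hpure hM P (fun η => ¬ P η)
  rw [chiQ_congr k hM (P := fun η => P η ∨ ¬ P η) (Q := fun _ => True) (fun η _ => by tauto),
    chiQ_congr k hM (P := fun η => P η ∧ ¬ P η) (Q := fun _ => False) (fun η _ => by tauto), chiQ_false k hM] at u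
  unfold Dec at hP ⊢
  linarith

/-- The modification decomposes along `Y` exactly when `χ` is unchanged there. -/
theorem IsModif.dec_self_iff (h : IsModif k M M' Y) (hM : TFOne.IsTF1 X M) :
    Dec k M' Y ↔ chiQ k M' Y = chiQ k M Y := by
  have e := h.eq (fun η => ¬ Y η) (Or.inr fun η _ hh => hh.1 hh.2)
  rw [chiQ_congr k hM (P := fun η => ¬ Y η ∧ Y η) (Q := fun _ => False) (fun η _ => by tauto), chiQ_false k hM,
    chiQ_congr k hM (P := fun η => ¬ Y η ∨ Y η) (Q := fun _ => True) (fun η _ => by tauto)] at e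
  have hT : chiQ k M' (fun _ => True) = chiQ k M (fun _ => True) := by
    rw [chiQ_true k h.tf1, chiQ_true k hM, h.euler_eq]
  unfold Dec
  constructor <;> intro hh <;> linarith

variable {E : X.Modules} {r : ℕ} (hE : FlatMod.IsFinLocFreeOfRank r E)

include hpure in
theorem beta_submodular (hM : TFOne.IsTF1 X M) (P Q : X → Prop) :
    beta k hE M (fun η => P η ∨ Q η) + beta k hE M (fun η => P η ∧ Q η) ≤ beta k hE M P + beta k hE M Q := by
  have h1 := mul_le_mul_of_nonneg_left (chiQ_submodular k hpure hM P Q) (show (0 : ℤ) ≤ r from Int.natCast_nonneg r)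
  have h2 := dsum_add k hE P Q
  unfold beta
  linarith

theorem Dec.beta_add (hM : TFOne.IsTF1 X M) (hY : Dec k M Y) :
    beta k hE M Y + beta k hE M (fun η => ¬ Y η) = beta k hE M (fun _ => True) := by
  have h := dsum_add k hE Y (fun η => ¬ Y η)
  rw [dsum_congr k hE (P := fun η => Y η ∨ ¬ Y η) (Q := fun _ => True) (fun η _ => by tauto),
    dsum_congr k hE (P := fun η => Y η ∧ ¬ Y η) (Q := fun _ => False) (fun η _ => by tauto), dsum_false k hE] at h
  unfold Dec at hY
  unfold beta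
  have := congrArg (fun z : ℤ => (r : ℤ) * z) hY
  simp only [mul_add] at this
  linarith

include hpure in
/-- There is a largest selection minimising `β`. -/
theorem exists_maxmin (hM : TFOne.IsTF1 X M) : ∃ Y : X → Prop, (∀ P, beta k hE M Y ≤ beta k hE M P) ∧
    ∀ P, beta k hE M P = beta k hE M Y → ∀ η, IsGen η → P η → Y η := by
  classical
  let T : Finset (Set X) := (finite_isGen (X := X)).finite_subsets.toFinset
  have hmem : ∀ P : X → Prop, {η | IsGen η ∧ P η} ∈ T := fun P =>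
    (Set.Finite.mem_toFinset _).2 fun _ h => h.1
  have hcg : ∀ P : X → Prop, beta k hE M P = beta k hE M (· ∈ {η | IsGen η ∧ P η}) := fun P =>
    beta_congr k hE hM fun η hη => ⟨fun h => ⟨hη, h⟩, fun h => h.2⟩
  obtain ⟨S₀, hS₀, hmin⟩ := T.exists_min_image (fun S => beta k hE M (· ∈ S)) ⟨_, hmem fun _ => True⟩
  let U := T.filter fun S => beta k hE M (· ∈ S) = beta k hE M (· ∈ S₀)
  obtain ⟨S, hS, hmax⟩ := U.exists_max_image (fun S => cnt (X := X) (· ∈ S))
    ⟨S₀, Finset.mem_filter.2 ⟨hS₀, rfl⟩⟩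
  have hSm := (Finset.mem_filter.1 hS).2
  have hle : ∀ P, beta k hE M (· ∈ S) ≤ beta k hE M P := fun P => by
    rw [hSm, hcg P]; exact hmin _ (hmem P)
  refine ⟨(· ∈ S), hle, fun P hP η hη hPη => ?_⟩
  have h1 := beta_submodular k hpure hE hM P (· ∈ S)
  have h2 := hle fun η => P η ∧ η ∈ S
  have h3 := hle fun η => P η ∨ η ∈ S
  have h4 : cnt (fun η => P η ∨ η ∈ S) ≤ cnt (X := X) (· ∈ S) := by
    refine le_trans ?_ (hmax _ (Finset.mem_filter.2 ⟨hmem fun η => P η ∨ η ∈ S, ?_⟩))
    · exact cnt_mono fun η hη h => ⟨hη, h⟩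
    · rw [← hcg]; linarith
  exact (eq_of_cnt_le (fun η _ h => Or.inr h) h4 η hη).2 (Or.inl hPη)

include hpure in
/-- One step at the largest minimiser does not lower the minimum. -/
theorem IsModif.min_le (h : IsModif k M M' Y) (hM : TFOne.IsTF1 X M) (hmin : ∀ P, beta k hE M Y ≤ beta k hE M P)
    (hmax : ∀ P, beta k hE M P = beta k hE M Y → ∀ η, IsGen η → P η → Y η) (P : X → Prop) :
    beta k hE M Y ≤ beta k hE M' P ∧ (beta k hE M' P = beta k hE M Y → ∀ η, IsGen η → P η → Y η) := by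
  have h1 := h.beta_le k hE P
  have h2 := hmin fun η => P η ∧ Y η
  have h3 := hmin fun η => P η ∨ Y η
  refine ⟨by linarith, fun he η hη hP => ?_⟩
  exact hmax (fun η => P η ∨ Y η) (by linarith) η hη (Or.inl hP)

/-- Semistability survives a step at a selection with `β = 0`. -/
theorem IsModif.nonneg (h : IsModif k M M' Y) (hss : ∀ P, 0 ≤ beta k hE M P) (hY : beta k hE M Y = 0)
    (P : X → Prop) : 0 ≤ beta k hE M' P := by
  have h1 := h.beta_le k hE P
  have h2 := hss fun η => P η ∧ Y η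
  have h3 := hss fun η => P η ∨ Y η
  linarith

include hpure in
/-- There is a smallest selection with `β = 0` containing a given generic point. -/
theorem exists_minzero (hM : TFOne.IsTF1 X M) (hss : ∀ P, 0 ≤ beta k hE M P)
    (h0 : beta k hE M (fun _ => True) = 0) {η₀ : X} (hη₀ : IsGen η₀) :
    ∃ Y : X → Prop, Y η₀ ∧ beta k hE M Y = 0 ∧
      ∀ P, P η₀ → beta k hE M P = 0 → ∀ η, IsGen η → Y η → P η := by
  classical
  let T : Finset (Set X) := ((finite_isGen (X := X)).finite_subsets.toFinset).filter fun S =>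
    η₀ ∈ S ∧ beta k hE M (· ∈ S) = 0
  have hmem : ∀ P : X → Prop, P η₀ → beta k hE M P = 0 → {η | IsGen η ∧ P η} ∈ T := fun P hP hb =>
    Finset.mem_filter.2 ⟨(Set.Finite.mem_toFinset _).2 fun _ h => h.1, ⟨hη₀, hP⟩,
      (beta_congr k hE hM fun η hη => ⟨fun h => h.2, fun h => ⟨hη, h⟩⟩).trans hb⟩
  obtain ⟨S, hS, hmin⟩ := T.exists_min_image (fun S => cnt (X := X) (· ∈ S)) ⟨_, hmem _ trivial h0⟩
  obtain ⟨-, hS₁, hS₂⟩ := Finset.mem_filter.1 hS
  refine ⟨(· ∈ S), hS₁, hS₂, fun P hP hb η hη hη' => ?_⟩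
  have h1 := beta_submodular k hpure hE hM P (· ∈ S)
  have h2 := hss fun η => P η ∧ η ∈ S
  have h3 := hss fun η => P η ∨ η ∈ S
  have h4 := hmin _ (hmem (fun η => P η ∧ η ∈ S) ⟨hP, hS₁⟩ (by linarith))
  have h5 : cnt (X := X) (fun η => IsGen η ∧ P η ∧ η ∈ S) ≤ cnt (fun η => P η ∧ η ∈ S) :=
    cnt_mono fun η _ h => h.2
  exact ((eq_of_cnt_le (P := fun η => P η ∧ η ∈ S) (Q := (· ∈ S)) (fun η _ h => h.2)
    (le_trans h4 h5) η hη).2 hη').1

/-- One step at the smallest zero selection. -/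
theorem IsModif.zero_mono (h : IsModif k M M' Y) (hss : ∀ P, 0 ≤ beta k hE M P) (hY : beta k hE M Y = 0)
    {η₀ : X} (hY₀ : Y η₀) (hmin : ∀ P, P η₀ → beta k hE M P = 0 → ∀ η, IsGen η → Y η → P η)
    {P : X → Prop} (hP : P η₀) (hb : beta k hE M' P = 0) : ∀ η, IsGen η → Y η → P η := by
  have h1 := h.beta_le k hE P
  have h2 := hss fun η => P η ∧ Y η
  have h3 := hss fun η => P η ∨ Y η
  exact fun η hη hYη => (hmin (fun η => P η ∧ Y η) ⟨hP, hY₀⟩ (by linarith) η hη hYη).1

include hpure in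
/-- All selections have non-negative `β` when the sheaf is semistable and `β` vanishes on the whole. -/
theorem beta_nonneg_of_ss' (h0 : beta k hE M (fun _ => True) = 0)
    (hss : TFOne.IsSemistable X k (X ↘ Spec (CommRingCat.of k)) M E r) (P : X → Prop) : 0 ≤ beta k hE M P := by
  by_cases h1 : ∀ η, IsGen η → ¬ P η
  · rw [beta_empty k hE hss.1 h1]
  by_cases h2 : ∀ η, IsGen η → P η
  · rw [beta_congr k hE hss.1 (Q := fun _ => True) fun η hη => iff_of_true (h2 η hη) trivial, h0]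
  push Not at h1 h2
  obtain ⟨η, hη, hP⟩ := h1
  obtain ⟨ξ, hξ, hn⟩ := h2
  have hQ := isQuotOn_quotM hss.1 P
  have := hss.2 (compUnion P) (isClosed_compUnion P) (isSubcurve_compUnion hη hP)
    (fun hu => hn ((mem_compUnion_gen hξ).1 (hu.ge (Set.mem_univ ξ)))) _ _ hQ
  rwa [rBeta_eq_beta k hpure hE hss.1 hQ _ rfl fun η hη => mem_compUnion_gen hη] at this

end Groth.Agent.BunLib68.TF
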