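import Groth.Agent.BunLib68.TF.Decomposing
import Groth.Agent.BunLib68.TF.Constancy
import Groth.Agent.BunLib68.TF.FieldBC
import Groth.Agent.BunLib68.TF.GenGeometry
import Groth.Agent.BunLib68.TF.Steps
import Groth.Agent.Lib.CurveLinear
import Groth.Agent.Lib.CurveTensor
import Groth.Agent.Algz7.PullbackFormal
import Groth.Agent.S9525

/-!
# Sheaves on a family over a discrete valuation ring, compared on the special and the general fibre
-/

set_option autoImplicit false
set_option backward.isDefEq.respectTransparency false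
set_option backward.isDefEq.respectTransparency.types false
set_option linter.style.haveILetI false
set_option linter.unusedSectionVars false
set_option linter.overlappingInstances false

universe u

open CategoryTheory CategoryTheory.Limits AlgebraicGeometry TopologicalSpace Opposite
open scoped TensorProduct

noncomputable section

namespace Groth.Agent.BunLib68.TF

section Stalks

variable {X : Scheme.{u}}

/-- An element of a stalk vanishing at a generalization is killed by an element invertible there. -/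
theorem exists_smul_stalk_eq_zero {M : X.Modules} (hM : Coh.IsQCoh M) {x y : X} (h : y ⤳ x)
    {v : M.presheaf.stalk x} (hv : M.presheaf.stalkSpecializes h v = 0) :
    ∃ a : X.presheaf.stalk x, IsUnit (X.presheaf.stalkSpecializes h a) ∧ a • v = 0 := by
  obtain ⟨W, hxW, m, rfl⟩ := TopCat.Presheaf.exists_germ_eq M.presheaf v
  obtain ⟨U, hU, hxU, hUW⟩ := exists_isAffineOpen_mem_and_subset (x := x) (U := W) hxW
  let hUW' : U ≤ W := hUW
  let t := M.presheaf.map (homOfLE hUW').op m
  have ht : M.presheaf.germ U x hxU t = M.presheaf.germ W x hxW m :=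
    M.presheaf.germ_res_apply (homOfLE hUW') x hxU m
  rw [← ht] at hv ⊢
  rw [TopCat.Presheaf.germ_stalkSpecializes_apply] at hv
  obtain ⟨a, hya, hat⟩ := S9525.exists_smul_eq_zero hM hU (h.mem_open U.2 hxU) t hv
  refine ⟨X.presheaf.germ U x hxU a, ?_, ?_⟩
  · rw [TopCat.Presheaf.germ_stalkSpecializes_apply]
    exact (X.mem_basicOpen a y (h.mem_open U.2 hxU)).1 hya
  · rw [← QCoh.germ_smul', hat, map_zero]

/-- A stalk vanishing at a generalization is killed by one element invertible there. -/
theorem exists_annihilator_stalk {M : X.Modules} (hM : Coh.IsCoh M) {x y : X} (h : y ⤳ x)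
    (hy : y ∉ CohB1.support M) :
    ∃ a : X.presheaf.stalk x, IsUnit (X.presheaf.stalkSpecializes h a) ∧ ∀ v : M.presheaf.stalk x, a • v = 0 := by
  haveI : Subsingleton (M.presheaf.stalk y) := not_not.1 hy
  haveI := QCoh.finite_stalk_of_isFT hM.1 hM.2 x
  obtain ⟨s, hs⟩ := (Module.Finite.fg_top : (⊤ : Submodule (X.presheaf.stalk x) (M.presheaf.stalk x)).FG)
  choose a ha ha' using fun v : M.presheaf.stalk x =>
    exists_smul_stalk_eq_zero hM.1 h (v := v) (Subsingleton.elim _ _)
  classical
  refine ⟨∏ v ∈ s, a v, ?_, fun v => ?_⟩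
  · rw [map_prod]
    exact IsUnit.prod_iff.2 fun v _ => ha v
  · have hv : v ∈ Submodule.span (X.presheaf.stalk x) (s : Set (M.presheaf.stalk x)) := hs ▸ Submodule.mem_top
    induction hv using Submodule.span_induction with
    | mem w hw => rw [← Finset.prod_erase_mul s a hw, mul_smul, ha' w, smul_zero]
    | zero => rw [smul_zero]
    | add w w' _ _ h1 h2 => rw [smul_add, h1, h2, add_zero]
    | smul c w _ h1 => rw [smul_comm, h1, smul_zero]

/-- Quotients on a set transfer along isomorphisms of the quotient. -/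
theorem isQuotOn_iso {M G G' : X.Modules} {Z : Set X} {π : M ⟶ G} (hG : TFOne.IsQuotOn X M Z G π)
    (hc : Coh.IsCoh G') (e : G' ≅ G) {π' : M ⟶ G'} (h : π' ≫ e.hom = π) : TFOne.IsQuotOn X M Z G' π' := by
  haveI := hG.1
  have he : π' = π ≫ e.inv := by rw [← h, Category.assoc, e.hom_inv_id, Category.comp_id]
  refine ⟨he ▸ epi_comp _ _, hc, fun y => ?_, ?_⟩
  · haveI := hG.2.2.1 y
    exact Function.Injective.moduleIsTorsionFree (sm e.hom y) (sm_injective _ y) fun a m => map_smul _ a m
  · rw [← hG.2.2.2]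
    ext y
    exact not_congr ⟨fun _ => Function.Injective.subsingleton (sm_injective e.inv y),
      fun _ => Function.Injective.subsingleton (sm_injective e.hom y)⟩

/-- The sheaf itself is its quotient on its support. -/
theorem isQuotOn_id {M : X.Modules} (hM : TFOne.IsTF1 X M) :
    TFOne.IsQuotOn X M (CohB1.support M) M (𝟙 M) := ⟨inferInstance, hM.1, hM.2.1, rfl⟩

theorem gen_mem_support {M : X.Modules} (hM : TFOne.IsTF1 X M) {η : X} (hη : IsGen η) : η ∈ CohB1.support M := by
  intro hs
  haveI := nontrivial_stalk hM.2.2 hη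
  exact not_subsingleton _ hs

end Stalks

section Base

variable {R : Type u} [CommRing R] [IsDomain R] [IsDiscreteValuationRing R]
  {X : Scheme.{u}} [X.Over (Spec (CommRingCat.of R))] {Xs : Scheme.{u}} {i : Xs ⟶ X}
  {q : Xs ⟶ Spec (CommRingCat.of (IsLocalRing.ResidueField R))}
  (hsq : IsPullback i q (X ↘ Spec (CommRingCat.of R)) (Spec.map (CommRingCat.ofHom (IsLocalRing.residue R))))
  {t : R} (ht : Irreducible t)

theorem germ_toGlobal (t : R) (x : X) :
    X.presheaf.germ ⊤ x trivial (Coh.toGlobal (X ↘ Spec (CommRingCat.of R)) t) =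
      baseGerm (X ↘ Spec (CommRingCat.of R)) t x :=
  (Scheme.Hom.germ_stalkMap_apply (X ↘ Spec (CommRingCat.of R)) ⊤ x trivial _).symm

theorem sm_smulMod_base (M : X.Modules) (t : R) (x : X) (v : M.presheaf.stalk x) :
    sm (Formal.smulMod R M t) x v = baseGerm (X ↘ Spec (CommRingCat.of R)) t x • v := by
  obtain ⟨U, hx, m, rfl⟩ := TopCat.Presheaf.exists_germ_eq M.presheaf v
  rw [sm_germ, FFun.smulMod_app, QCoh.germ_smul', ← germ_toGlobal]
  exact congrArg (fun r => r • M.presheaf.germ U x hx m)
    (TopCat.Presheaf.germ_res_apply X.presheaf (homOfLE (le_top : U ≤ ⊤)) x hx _)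

theorem baseGerm_smul_injective {M : X.Modules} {t : R} [Mono (Formal.smulMod R M t)] {x : X}
    {v : M.presheaf.stalk x} (hv : baseGerm (X ↘ Spec (CommRingCat.of R)) t x • v = 0) : v = 0 :=
  sm_injective (Formal.smulMod R M t) x (by rw [sm_smulMod_base, hv, map_zero])

include hsq ht in
/-- A family of sheaves without `t`-torsion vanishing off the special fibre vanishes. -/
theorem isZero_of_support_special {M : X.Modules} (hM : Coh.IsQCoh M) [Mono (Formal.smulMod R M t)]
    (h : CohB1.support M ⊆ Set.range i) : IsZero M := by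
  refine KFlatLib.isZero_of_stalk _ fun x => ?_
  suffices hs : Subsingleton (M.presheaf.stalk x) from
    haveI : Subsingleton ((DerSch.stalkFunctor X x).obj M) := hs
    ModuleCat.isZero_of_subsingleton _
  refine subsingleton_of_forall_eq 0 fun v => ?_
  obtain ⟨W, hxW, m, rfl⟩ := TopCat.Presheaf.exists_germ_eq M.presheaf v
  obtain ⟨U, hU, hxU, hUW⟩ := exists_isAffineOpen_mem_and_subset (x := x) (U := W) hxW
  let hUW' : U ≤ W := hUW
  let s : Γ(M, U) := M.presheaf.map (homOfLE hUW').op m
  rw [← M.presheaf.germ_res_apply (homOfLE hUW') x hxU m]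
  let τ : Γ(X, U) := Coh.resTop X (op U) (Coh.toGlobal (X ↘ Spec (CommRingCat.of R)) t)
  have hτ : ∀ y (hy : y ∈ U), X.presheaf.germ U y hy τ = baseGerm (X ↘ Spec (CommRingCat.of R)) t y :=
    fun y hy => (TopCat.Presheaf.germ_res_apply X.presheaf (homOfLE (le_top : U ≤ ⊤)) y hy _).trans
      (germ_toGlobal t y)
  obtain ⟨n, hn⟩ := QCoh.exists_pow_smul_eq_zero hM hU τ s (ZClosLib.section_ext M _ _ fun y hy => by
    have hyr : y ∉ Set.range i := by
      rintro ⟨z, rfl⟩
      have hu := ((X.mem_basicOpen τ (i z) (X.basicOpen_le τ hy)).1 hy).map (i.stalkMap z).hom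
      rw [hτ, stalkMap_baseGerm_eq_zero hsq ht z] at hu
      exact not_isUnit_zero hu
    haveI : Subsingleton (M.presheaf.stalk y) := not_not.1 fun hh => hyr (h hh)
    exact Subsingleton.elim _ _)
  have hs : s = 0 := by
    clear h
    induction n with
    | zero => rwa [pow_zero, one_smul] at hn
    | succ n ih =>
      refine ih (ZClosLib.app_injective_of_mono (Formal.smulMod R M t) U ?_)
      rw [map_zero, FFun.smulMod_app]
      show τ • τ ^ n • s = 0
      rw [← mul_smul, ← pow_succ']
      exact hn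
  show M.presheaf.germ U x hxU s = 0
  rw [hs, map_zero]

include hsq in
/-- A coherent sheaf with zero special fibre vanishes. -/
theorem isZero_of_special [IsProper (X ↘ Spec (CommRingCat.of R))] {M : X.Modules} (hM : Coh.IsCoh M)
    (h : IsZero ((Scheme.Modules.pullback i).obj M)) : IsZero M := by
  refine KFlatLib.isZero_of_stalk _ fun x => ?_
  suffices hs : Subsingleton (M.presheaf.stalk x) from
    haveI : Subsingleton ((DerSch.stalkFunctor X x).obj M) := hs
    ModuleCat.isZero_of_subsingleton _
  by_contra hx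
  let f := X ↘ Spec (CommRingCat.of R)
  have hc : IsClosed (CohB1.support M) := QCoh.isClosed_support_of_ft hM.2
  obtain ⟨y, hy, hfy⟩ := (IsLocalRing.specializes_closedPoint (f x)).mem_closed (f.isClosedMap _ hc)
    ⟨x, hx, rfl⟩
  obtain ⟨z, rfl⟩ := (range_special hsq).ge hfy
  have hz : z ∈ CohB1.support ((Scheme.Modules.pullback i).obj M) := by
    rw [QCoh.support_pullback i hM.1 hM.2]
    exact hy
  exact hz (subsingleton_of_forall_eq 0 fun v => by rw [← sm_id z v, h.eq_of_src (𝟙 _) 0, sm_zero])

include hsq ht in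
/-- The generalizations of a special point at which the special fibre is a domain and a family is non-zero
all lie in the support of the family. -/
theorem mem_support_of_domain [Flat (X ↘ Spec (CommRingCat.of R))] [IsLocallyNoetherian X] {F : X.Modules}
    (hF : Coh.IsCoh F) [Mono (Formal.smulMod R F t)]
    (htF : TorSh.IsTorsionFree ((Scheme.Modules.pullback i).obj F)) {x : Xs}
    [IsDomain (Xs.presheaf.stalk x)] (hx : x ∈ CohB1.support ((Scheme.Modules.pullback i).obj F))
    {y : X} (h : y ⤳ i x) : y ∈ CohB1.support F := by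
  by_contra hy
  let f := X ↘ Spec (CommRingCat.of R)
  let τ := baseGerm f t (i x)
  let ψ := (i.stalkMap x).hom
  obtain ⟨a, hau, ha⟩ := exists_annihilator_stalk hF h hy
  have step : ∀ a, (∀ v : F.presheaf.stalk (i x), a • v = 0) →
      ∃ a', a = τ * a' ∧ ∀ v : F.presheaf.stalk (i x), a' • v = 0 := by
    intro a ha
    have h0 : ψ a = 0 := by
      by_contra hne
      refine hx (subsingleton_of_forall_eq 0 fun w => ?_)
      haveI := htF x
      letI := ψ.toAlgebra
      have hreg : IsRegular (ψ a) := IsRegular.of_ne_zero hne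
      refine Module.IsTorsionFree.isSMulRegular hreg ?_
      show ψ a • w = ψ a • 0
      rw [smul_zero]
      apply (stalkPullEquiv i F x).injective
      rw [map_smul, map_zero]
      induction (stalkPullEquiv i F x) w using TensorProduct.induction_on with
      | zero => rw [smul_zero]
      | tmul c v =>
        show (ψ a • c) ⊗ₜ[X.presheaf.stalk (i x)] v = 0
        rw [show ψ a • c = a • c from (Algebra.smul_def a c).symm, TensorProduct.smul_tmul, ha, TensorProduct.tmul_zero]
      | add c c' h1 h2 => rw [smul_add, h1, h2, add_zero]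
    obtain ⟨a', rfl⟩ := exists_eq_mul_baseGerm hsq ht x h0
    exact ⟨a', rfl, fun v => baseGerm_smul_injective (t := t) (by rw [← mul_smul]; exact ha v)⟩
  have hpow : ∀ n : ℕ, ∃ a', a = τ ^ n * a' ∧ ∀ v : F.presheaf.stalk (i x), a' • v = 0 := fun n => by
    induction n with
    | zero => exact ⟨a, by rw [pow_zero, one_mul], ha⟩
    | succ n ih =>
      obtain ⟨a', rfl, ha'⟩ := ih
      obtain ⟨a'', rfl, ha''⟩ := step a' ha'
      exact ⟨a'', by rw [pow_succ, mul_assoc], ha''⟩
  have hτ : Ideal.span {τ} ≠ ⊤ := fun htop => by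
    have hu : IsUnit τ := Ideal.span_singleton_eq_top.1 htop
    exact (hu.map ψ).ne_zero (stalkMap_baseGerm_eq_zero hsq ht x)
  have hmem : a ∈ ⨅ n : ℕ, Ideal.span {τ} ^ n := Ideal.mem_iInf.2 fun n => by
    obtain ⟨a', ha', -⟩ := hpow n
    rw [Ideal.span_singleton_pow, ha', mul_comm]
    exact Ideal.mem_span_singleton'.2 ⟨a', rfl⟩
  rw [Ideal.iInf_pow_eq_bot_of_isLocalRing _ hτ, Ideal.mem_bot] at hmem
  rw [hmem, map_zero] at hau
  exact not_isUnit_zero hau

/-- The uniformiser stays injective after tensoring with a bundle. -/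
theorem mono_smulMod_tensor {E F : X.Modules} (hE : FlatMod.IsFinLocFree E) {t : R}
    [Mono (Formal.smulMod R F t)] : Mono (Formal.smulMod R ((DCoh.tensorBi.obj E).obj F) t) := by
  let S := ShortComplex.mk (Formal.smulMod R F t) (cokernel.π _) (cokernel.condition _)
  have h := CurveTensor.shortExact_tensor hE (Formal.smulMod R F t) (cokernel.π _) (cokernel.condition _)
    { exact := ShortComplex.exact_cokernel _, mono_f := ‹_›, epi_g := inferInstance }
  have e : (DCoh.tensorBi.obj E).map (Formal.smulMod R F t) = Formal.smulMod R ((DCoh.tensorBi.obj E).obj F) t :=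
    CurveLinear.tensor_map_smul E F _
  exact e ▸ h.mono_f

end Base

section Compare

variable {R : Type u} [CommRing R] [IsDomain R] [IsDiscreteValuationRing R]
  {X : Scheme.{u}} [X.Over (Spec (CommRingCat.of R))] [IsProper (X ↘ Spec (CommRingCat.of R))]
  [Flat (X ↘ Spec (CommRingCat.of R))]
  {Xs : Scheme.{u}} [Xs.Over (Spec (CommRingCat.of (IsLocalRing.ResidueField R)))]
  [IsProper (Xs ↘ Spec (CommRingCat.of (IsLocalRing.ResidueField R)))] [IsReduced Xs] [IsNoetherian Xs]
  {i : Xs ⟶ X}
  (hsq : IsPullback i (Xs ↘ Spec (CommRingCat.of (IsLocalRing.ResidueField R))) (X ↘ Spec (CommRingCat.of R))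
    (Spec.map (CommRingCat.ofHom (IsLocalRing.residue R))))
  (Ω : Type u) [Field Ω] [Algebra R Ω] (hΩ : Function.Injective (algebraMap R Ω))
  {XΩ : Scheme.{u}} [XΩ.Over (Spec (CommRingCat.of Ω))] [IsProper (XΩ ↘ Spec (CommRingCat.of Ω))]
  [IsReduced XΩ] [IsNoetherian XΩ] {φ : XΩ ⟶ X}
  (hφ : IsPullback φ (XΩ ↘ Spec (CommRingCat.of Ω)) (X ↘ Spec (CommRingCat.of R))
    (Spec.map (CommRingCat.ofHom (algebraMap R Ω))))
  (hpure : ∀ C ∈ irreducibleComponents (Xs : Type u), topologicalKrullDim C = 1)
  {t : R} (ht : Irreducible t)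

include hsq hΩ hφ hpure in
theorem pure_omega : ∀ C ∈ irreducibleComponents (XΩ : Type u), topologicalKrullDim C = 1 :=
  pure_generic hsq hpure hΩ hφ

include hsq ht hΩ hφ in
/-- A family without `t`-torsion vanishing on the general fibre vanishes. -/
theorem isZero_of_omega {M : X.Modules} (hM : Coh.IsCoh M) [Mono (Formal.smulMod R M t)]
    (h : IsZero ((Scheme.Modules.pullback φ).obj M)) : IsZero M := by
  refine isZero_of_support_special hsq ht hM.1 fun y hy => ?_
  by_contra hyr
  have hγ : (X ↘ Spec (CommRingCat.of R)) y = genericPoint (Spec (CommRingCat.of R)) := by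
    by_contra hne
    refine hyr ((range_special hsq).ge ?_)
    show _ = IsLocalRing.closedPoint R
    rw [genericPoint_eq_bot_of_affine] at hne
    refine PrimeSpectrum.ext ((IsLocalRing.eq_maximalIdeal ?_))
    have hp : ((X ↘ Spec (CommRingCat.of R)) y : PrimeSpectrum R).asIdeal ≠ ⊥ := fun h0 =>
      hne (PrimeSpectrum.ext h0)
    exact Ideal.IsPrime.isMaximal ((X ↘ Spec (CommRingCat.of R)) y : PrimeSpectrum R).2 hp
  obtain ⟨z, hz⟩ : y ∈ Set.range φ := by
    rw [← hφ.isoPullback_hom_fst, Scheme.Hom.comp_base, TopCat.coe_comp, Set.range_comp,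
      (Scheme.Hom.surjective hφ.isoPullback.hom).range_eq, Set.image_univ, Scheme.Pullback.range_fst,
      range_specMap_of_injective _ hΩ]
    exact hγ
  have hz' : z ∈ CohB1.support ((Scheme.Modules.pullback φ).obj M) := by
    rw [QCoh.support_pullback φ hM.1 hM.2]
    exact (show φ z ∈ CohB1.support M from hz ▸ hy)
  exact hz' (subsingleton_of_forall_eq 0 fun v => by rw [← sm_id z v, h.eq_of_src (𝟙 _) 0, sm_zero])

variable {I F : X.Modules} (hI : Coh.IsCoh I) [Mono (Formal.smulMod R I t)]
  (hIΩ : TFOne.IsTF1 XΩ ((Scheme.Modules.pullback φ).obj I))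
  (hIs : TFOne.IsTF1 Xs ((Scheme.Modules.pullback i).obj I))
  (hF : Coh.IsCoh F) [Mono (Formal.smulMod R F t)] (p : I ⟶ F) [Epi p] {Y : Set Xs}
  (hq : TFOne.IsQuotOn Xs ((Scheme.Modules.pullback i).obj I) Y ((Scheme.Modules.pullback i).obj F)
    ((Scheme.Modules.pullback i).map p))
  {E : X.Modules} {r : ℕ} (hE : FlatMod.IsFinLocFreeOfRank r E)

include hsq hΩ hφ ht in
/-- Euler characteristics of twists agree on the two fibres. -/
theorem euler_tensor_fibre_eq {G : X.Modules} (hG : Coh.IsCoh G) [Mono (Formal.smulMod R G t)]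
    {E : X.Modules} {r : ℕ} (hE : FlatMod.IsFinLocFreeOfRank r E) :
    Curv2.euler Ω XΩ ((DCoh.tensorBi.obj ((Scheme.Modules.pullback φ).obj E)).obj
        ((Scheme.Modules.pullback φ).obj G)) =
      Curv2.euler (IsLocalRing.ResidueField R) Xs ((DCoh.tensorBi.obj ((Scheme.Modules.pullback i).obj E)).obj
        ((Scheme.Modules.pullback i).obj G)) := by
  haveI : IsLocallyNoetherian X := LocallyOfFiniteType.isLocallyNoetherian (X ↘ Spec (CommRingCat.of R))
  have hEf : FlatMod.IsFinLocFree E := fun y => let ⟨W, hy, he⟩ := hE y; ⟨W, r, hy, he⟩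
  haveI := mono_smulMod_tensor (R := R) (t := t) hEf (F := G)
  exact (CurveCohLib.euler_congr (k := Ω) (((KFlatLib.pullTensorBiIso φ).app E).app G)).symm.trans
    ((euler_fibre_eq hsq Ω hφ ht hΩ (CurveTensor.isCoh_tensor hEf hG)).trans
      (CurveCohLib.euler_congr (k := IsLocalRing.ResidueField R) (((KFlatLib.pullTensorBiIso i).app E).app G)))

include hsq hΩ hφ ht hpure hI hIΩ hIs in
/-- `β` of the whole sheaf is the same on the two fibres. -/
theorem beta_true_fibre :
    beta Ω (isFinLocFreeOfRank_pullback φ hE) ((Scheme.Modules.pullback φ).obj I) (fun _ => True) =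
      beta (IsLocalRing.ResidueField R) (isFinLocFreeOfRank_pullback i hE) ((Scheme.Modules.pullback i).obj I)
        (fun _ => True) := by
  rw [beta_eq_euler_tensor Ω (pure_omega hsq Ω hΩ hφ hpure) _ hIΩ (isQuotOn_id hIΩ) (P := fun _ => True)
      fun η hη => iff_of_true (gen_mem_support hIΩ hη) trivial,
    beta_eq_euler_tensor (IsLocalRing.ResidueField R) hpure _ hIs (isQuotOn_id hIs) (P := fun _ => True)
      fun η hη => iff_of_true (gen_mem_support hIs hη) trivial]
  exact euler_tensor_fibre_eq hsq Ω hΩ hφ ht hI hE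

include hIΩ in
/-- At a generic point of its support a quotient of a rank one sheaf has rank one. -/
theorem injective_gen_quot {w : XΩ} (hw : IsGen w) (hP : w ∈ CohB1.support ((Scheme.Modules.pullback φ).obj F))
    {v} (hv : sm ((Scheme.Modules.pullback φ).map p) w v = 0) : v = 0 := by
  by_contra hne
  refine hP (subsingleton_of_forall_eq 0 fun u => ?_)
  obtain ⟨v', rfl⟩ := sm_surjective ((Scheme.Modules.pullback φ).map p) w u
  obtain ⟨a, rfl⟩ := IsTF1.exists_smul_eq hIΩ.2.2 hw hne v'
  rw [map_smul, hv, smul_zero]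

include hsq hΩ hφ ht hpure hI hIΩ hIs hF hq in
/-- The general fibre of a quotient has `β` at most that of its special fibre. -/
theorem beta_omega_le :
    beta Ω (isFinLocFreeOfRank_pullback φ hE) ((Scheme.Modules.pullback φ).obj I)
        (fun η => η ∈ CohB1.support ((Scheme.Modules.pullback φ).obj F)) ≤
      beta (IsLocalRing.ResidueField R) (isFinLocFreeOfRank_pullback i hE) ((Scheme.Modules.pullback i).obj I)
        (· ∈ Y) := by
  let L := Scheme.Modules.pullback φ
  let P : XΩ → Prop := fun η => η ∈ CohB1.support (L.obj F)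
  have hFΩ : Coh.IsCoh (L.obj F) := ZClosLib.isCoh_pullback φ hF
  have hp := pure_omega hsq Ω hΩ hφ hpure
  rw [beta_eq_euler_tensor (IsLocalRing.ResidueField R) hpure _ hIs hq (P := (· ∈ Y)) fun η _ => Iff.rfl,
    ← euler_tensor_fibre_eq hsq Ω hΩ hφ ht hF hE,
    euler_tensor_eq Ω hp (isFinLocFreeOfRank_pullback φ hE) hFΩ (P := P)
      (fun η hη hP => by
        obtain ⟨e₀⟩ := hIΩ.2.2 η hη.mem_genericPoints
        exact ⟨(LinearEquiv.ofBijective (sm (L.map p) η) ⟨(injective_iff_map_eq_zero _).2
          fun v hv => injective_gen_quot hIΩ p hη hP hv, sm_surjective (L.map p) η⟩).symm.trans e₀⟩)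
      (fun η _ hP => not_not.1 hP), beta]
  refine add_le_add (mul_le_mul_of_nonneg_left ?_ (Int.natCast_nonneg r)) le_rfl
  have hQ := isQuotOn_quotM hIΩ P
  haveI := hQ.1
  have h0 : kernel.ι (L.map p) ≫ quotπ (L.obj I) P = 0 := hom_eq_zero_of_gen _ hQ.2.1.1 hQ.2.2.1 fun η hη v => by
    rw [sm_comp]
    by_cases hP : P η
    · have : sm (L.map p) η (sm (kernel.ι (L.map p)) η v) = 0 := by rw [← sm_comp, kernel.condition, sm_zero]
      rw [injective_gen_quot hIΩ p hη hP this, map_zero]
    · haveI := quot_subsingleton hQ fun hh => hP ((mem_compUnion_gen hη).1 hh)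
      exact Subsingleton.elim _ _
  let d := Abelian.epiDesc (L.map p) (quotπ (L.obj I) P) h0
  have hd : L.map p ≫ d = quotπ (L.obj I) P := Abelian.comp_epiDesc _ _ _
  haveI : Epi (L.map p ≫ d) := by rw [hd]; infer_instance
  haveI : Epi d := epi_of_epi (L.map p) d
  refine (euler_le_of_epi Ω hp d hFΩ hQ.2.1 fun η hη v hv => ?_).1
  by_cases hP : P η
  · obtain ⟨u, rfl⟩ := sm_surjective (L.map p) η v
    rw [← sm_comp, hd] at hv
    rw [quot_injective hIΩ.2.2 hQ hη ((mem_compUnion_gen hη).2 hP) hv, map_zero]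
  · haveI : Subsingleton ((L.obj F).presheaf.stalk η) := not_not.1 hP
    exact Subsingleton.elim _ _

include hsq hΩ hφ ht hpure hI hIΩ hIs hF hq in
/-- Semistability on the general fibre bounds `β` of a flat quotient on the special fibre. -/
theorem beta_nonneg_of_quotient
    (h0 : beta (IsLocalRing.ResidueField R) (isFinLocFreeOfRank_pullback i hE)
      ((Scheme.Modules.pullback i).obj I) (fun _ => True) = 0)
    (hss : TFOne.IsSemistable XΩ Ω (XΩ ↘ Spec (CommRingCat.of Ω)) ((Scheme.Modules.pullback φ).obj I)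
      ((Scheme.Modules.pullback φ).obj E) r) :
    0 ≤ beta (IsLocalRing.ResidueField R) (isFinLocFreeOfRank_pullback i hE) ((Scheme.Modules.pullback i).obj I)
      (· ∈ Y) :=
  le_trans (beta_nonneg_of_ss' Ω (pure_omega hsq Ω hΩ hφ hpure) (isFinLocFreeOfRank_pullback φ hE)
    ((beta_true_fibre hsq Ω hΩ hφ hpure ht hI hIΩ hIs hE).trans h0) hss _)
    (beta_omega_le hsq Ω hΩ hφ hpure ht hI hIΩ hIs hF p hq hE)

include hsq hΩ hφ ht hpure hI hIΩ hIs hF hq in
/-- Quasistability on the general fibre makes `β` positive on a proper flat quotient through the section. -/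
theorem beta_pos_of_quotient {x : Xs} [IsDomain (Xs.presheaf.stalk x)] (hx : x ∈ Y) {y : XΩ}
    (hyx : φ y ⤳ i x) (hY : ∃ η, IsGen η ∧ η ∉ Y)
    (hqs : TFOne.IsQuasistableAtPt XΩ Ω (XΩ ↘ Spec (CommRingCat.of Ω)) ((Scheme.Modules.pullback φ).obj I)
      ((Scheme.Modules.pullback φ).obj E) r y) :
    0 < beta (IsLocalRing.ResidueField R) (isFinLocFreeOfRank_pullback i hE) ((Scheme.Modules.pullback i).obj I)
      (· ∈ Y) := by
  haveI : IsLocallyNoetherian X := LocallyOfFiniteType.isLocallyNoetherian (X ↘ Spec (CommRingCat.of R))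
  let L := Scheme.Modules.pullback φ
  let P : XΩ → Prop := fun η => η ∈ CohB1.support (L.obj F)
  refine lt_of_lt_of_le ?_ (beta_omega_le hsq Ω hΩ hφ hpure ht hI hIΩ hIs hF p hq hE)
  have hsx : x ∈ CohB1.support ((Scheme.Modules.pullback i).obj F) := hq.2.2.2.ge hx
  obtain ⟨w, hw, hwy⟩ := exists_isGen y
  have hPw : P w := by
    show w ∈ CohB1.support (L.obj F)
    rw [QCoh.support_pullback φ hF.1 hF.2]
    exact mem_support_of_domain hsq ht hF hq.2.2.1 hsx ((hwy.map φ.continuous).trans hyx)
  have hmem : y ∈ compUnion P := ⟨w, hw, hPw, hwy⟩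
  have hne : compUnion P ≠ Set.univ := by
    intro hu
    have hall : ∀ η, IsGen η → P η := fun η hη => (mem_compUnion_gen hη).1 (hu.ge (Set.mem_univ η))
    haveI : Mono (L.map p) := mono_of_gen _ hIΩ.1.1 hIΩ.2.1 fun η hη v hv =>
      injective_gen_quot hIΩ p hη (hall η hη) hv
    haveI : IsNoetherian X := {
      toIsLocallyNoetherian := LocallyOfFiniteType.isLocallyNoetherian (X ↘ Spec (CommRingCat.of R))
      toCompactSpace := QuasiCompact.compactSpace_of_compactSpace (X ↘ Spec (CommRingCat.of R)) }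
    haveI : Flat φ := flat_generic_proj hΩ hφ
    haveI := KFlatLib.preservesHomology_pullback φ
    haveI : Mono (L.map (kernel.ι p)) := inferInstance
    have hz : IsZero (L.obj (kernel p)) := IsZero.of_mono_eq_zero (L.map (kernel.ι p)) (by
      rw [← cancel_mono (L.map p), zero_comp, ← Functor.map_comp, kernel.condition, Functor.map_zero])
    haveI : Mono (Formal.smulMod R (kernel p) t) := by
      haveI : Mono (Formal.smulMod R (kernel p) t ≫ kernel.ι p) := by
        rw [FFun.smulMod_naturality]; exact mono_comp _ _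
      exact mono_of_mono _ (kernel.ι p)
    have hk := isZero_of_omega hsq Ω hΩ hφ ht (QCoh.isCoh_kernel hI hF p) hz
    haveI : Mono p := Preadditive.mono_of_isZero_kernel p hk
    haveI : IsIso p := isIso_of_mono_of_epi p
    obtain ⟨η, hη, hηY⟩ := hY
    haveI := quot_subsingleton hq hηY
    haveI := nontrivial_stalk hIs.2.2 hη
    exact not_subsingleton _ (Function.Injective.subsingleton (sm_injective ((Scheme.Modules.pullback i).map p) η) :
      Subsingleton (((Scheme.Modules.pullback i).obj I).presheaf.stalk η))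
  have hQ := isQuotOn_quotM hIΩ P
  have := hqs.2 (compUnion P) (isClosed_compUnion P) (isSubcurve_compUnion hw hPw) hne hmem _ _ hQ
  rwa [rBeta_eq_beta Ω (pure_omega hsq Ω hΩ hφ hpure) (isFinLocFreeOfRank_pullback φ hE) hIΩ hQ _ rfl
    fun η hη => mem_compUnion_gen hη] at this

omit [Flat (X ↘ Spec (CommRingCat.of R))] in
include hsq ht hI hF in
/-- Two quotients splitting the special fibre split the family. -/
theorem isIso_of_special_split {F' : X.Modules} (hF' : Coh.IsCoh F') [Mono (Formal.smulMod R F' t)]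
    (p' : I ⟶ F') [IsIso (biprod.lift ((Scheme.Modules.pullback i).map p) ((Scheme.Modules.pullback i).map p'))] :
    IsIso (biprod.lift p p') := by
  haveI : IsLocallyNoetherian X := LocallyOfFiniteType.isLocallyNoetherian (X ↘ Spec (CommRingCat.of R))
  haveI := isClosedImmersion_special hsq
  let L := Scheme.Modules.pullback i
  let P := Scheme.Modules.pushforward i
  let q := biprod.lift p p'
  haveI : PreservesBinaryBiproduct F F' L := preservesBinaryBiproduct_of_preservesBiproduct _ _ _
  haveI : IsIso (L.map q) := by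
    have e : L.map q ≫ (L.mapBiprod F F').hom = biprod.lift (L.map p) (L.map p') :=
      biprod.map_lift_mapBiprod _ _ _ _ _
    haveI : IsIso (L.map q ≫ (L.mapBiprod F F').hom) := by rw [e]; infer_instance
    exact IsIso.of_isIso_comp_right (L.map q) (L.mapBiprod F F').hom
  have hB : Coh.IsCoh (F ⊞ F') := KZ.isCoh_X₂ (ShortComplex.Splitting.ofHasBinaryBiproduct F F').shortExact hF hF'
  haveI : Mono (Formal.smulMod R (F ⊞ F') t) := Preadditive.mono_of_cancel_zero _ fun {Z} g hg => by
    refine biprod.hom_ext _ _ ?_ ?_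
    · rw [zero_comp, ← cancel_mono (Formal.smulMod R F t), zero_comp, Category.assoc, ← FFun.smulMod_naturality,
        ← Category.assoc, hg, zero_comp]
    · rw [zero_comp, ← cancel_mono (Formal.smulMod R F' t), zero_comp, Category.assoc, ← FFun.smulMod_naturality,
        ← Category.assoc, hg, zero_comp]
  haveI : Epi q := by
    haveI : Epi (L.map (cokernel.π q)) := inferInstance
    have h0 : L.map (cokernel.π q) = 0 := by
      rw [← cancel_epi (L.map q), comp_zero, ← L.map_comp, cokernel.condition, L.map_zero]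
    exact Preadditive.epi_of_isZero_cokernel q (isZero_of_special hsq (QCoh.isCoh_cokernel hI.1 hB q)
      (IsZero.of_epi_eq_zero _ h0))
  haveI : Mono q := by
    refine Preadditive.mono_of_isZero_kernel q (isZero_of_special hsq (QCoh.isCoh_kernel hI hB q) ?_)
    obtain ⟨htK, -, hepi⟩ := fibre_exact hsq ht (QCoh.isCoh_kernel hI hB q).1
    obtain ⟨_, hexI, -⟩ := fibre_exact hsq ht hI.1
    haveI := hepi
    haveI : Epi (Formal.smulMod R (kernel q) t) := by
      refine Preadditive.epi_of_cancel_zero _ fun {Z} g hg => ?_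
      have h1 : kernel.ι q ≫ runit i I = 0 := by
        rw [← cancel_mono (P.map (L.map q)), zero_comp, Category.assoc, runit_naturality, ← Category.assoc,
          kernel.condition, zero_comp]
      obtain ⟨A, e, he, z, hz⟩ := hexI.exact_up_to_refinements _ h1
      change e ≫ kernel.ι q = z ≫ Formal.smulMod R I t at hz
      have h2 : z ≫ q = 0 := by
        rw [← cancel_mono (Formal.smulMod R (F ⊞ F') t), zero_comp, Category.assoc, ← FFun.smulMod_naturality,
          ← Category.assoc, ← hz, Category.assoc, kernel.condition, comp_zero]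
      have h3 : e = kernel.lift q z h2 ≫ Formal.smulMod R (kernel q) t := by
        rw [← cancel_mono (kernel.ι q), Category.assoc, FFun.smulMod_naturality, kernel.lift_ι_assoc]
        exact hz
      haveI := he
      rw [← cancel_epi e, comp_zero, h3, Category.assoc, hg, comp_zero]
    have h4 : runit i (kernel q) = 0 := by rw [← cancel_epi (Formal.smulMod R (kernel q) t), htK, comp_zero]
    refine (IsZero.iff_id_eq_zero _).2 (push_map_eq_zero (i := i) (QCoh.isQCoh_pullback i (QCoh.isCoh_kernel hI hB q).1) ?_)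
    rw [← cancel_epi (runit i (kernel q)), h4, zero_comp, zero_comp]
  exact isIso_of_mono_of_epi q

include hsq hΩ hφ ht hI hIΩ hIs hF hq in
/-- A flat family with simple general fibre has no two flat quotients splitting the special fibre. -/
theorem false_of_split {F' : X.Modules} (hF' : Coh.IsCoh F') [Mono (Formal.smulMod R F' t)]
    (p' : I ⟶ F') {Y' : Set Xs}
    (hq' : TFOne.IsQuotOn Xs ((Scheme.Modules.pullback i).obj I) Y' ((Scheme.Modules.pullback i).obj F')
      ((Scheme.Modules.pullback i).map p'))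
    [IsIso (biprod.lift ((Scheme.Modules.pullback i).map p) ((Scheme.Modules.pullback i).map p'))] [Epi p']
    (hY : ∃ η, IsGen η ∧ η ∈ Y) (hY' : ∃ η, IsGen η ∧ η ∈ Y')
    (hs : TFOne.IsSimple XΩ Ω (XΩ ↘ Spec (CommRingCat.of Ω)) ((Scheme.Modules.pullback φ).obj I)) : False := by
  haveI := isIso_of_special_split hsq ht hI hF p hF' p'
  let L := Scheme.Modules.pullback φ
  let q := biprod.lift p p'
  let ψ : I ⟶ I := q ≫ biprod.fst ≫ biprod.inl ≫ inv q
  have h1 : inv q ≫ p = biprod.fst := by rw [IsIso.inv_comp_eq, biprod.lift_fst]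
  have h2 : inv q ≫ p' = biprod.snd := by rw [IsIso.inv_comp_eq, biprod.lift_snd]
  have hψp : ψ ≫ p = p := by
    rw [Category.assoc, Category.assoc, Category.assoc, h1, biprod.inl_fst, Category.comp_id, biprod.lift_fst]
  have hψp' : ψ ≫ p' = 0 := by
    rw [Category.assoc, Category.assoc, Category.assoc, h2, biprod.inl_snd, comp_zero, comp_zero]
  obtain ⟨c, hc⟩ := hs.2 (L.map ψ)
  have kill : ∀ {G : X.Modules}, Coh.IsCoh G → ∀ [Mono (Formal.smulMod R G t)] (π : I ⟶ G) [Epi π] {Z : Set Xs},
      TFOne.IsQuotOn Xs ((Scheme.Modules.pullback i).obj I) Z ((Scheme.Modules.pullback i).obj G)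
        ((Scheme.Modules.pullback i).map π) →
      (∃ η, IsGen η ∧ η ∈ Z) → L.map π ≠ 0 := by
    intro G hG _ π _ Z hπ hZ h0
    have hz := isZero_of_omega hsq Ω hΩ hφ ht hG (IsZero.of_epi_eq_zero (L.map π) h0)
    obtain ⟨η, hη, hηZ⟩ := hZ
    refine (hπ.2.2.2.ge hηZ) (subsingleton_of_forall_eq 0 fun v => ?_)
    rw [← sm_id η v, ((Scheme.Modules.pullback i).map_isZero hz).eq_of_src (𝟙 _) 0, sm_zero]
  by_cases h0 : c = 0
  · refine kill hF p hq hY ?_
    rw [← hψp, L.map_comp, hc, h0, FFun.smulMod_zero, zero_comp]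
  · refine kill hF' p' hq' hY' ?_
    have h3 : Formal.smulMod Ω (L.obj I) c ≫ L.map p' = 0 := by
      rw [← hc, ← L.map_comp, hψp', L.map_zero]
    calc L.map p' = Formal.smulMod Ω (L.obj I) (c * c⁻¹) ≫ L.map p' := by
          rw [mul_inv_cancel₀ h0, FFun.smulMod_one, Category.id_comp]
      _ = 0 := by rw [FFun.smulMod_mul, Category.assoc, h3, comp_zero]

end Compare

end Groth.Agent.BunLib68.TF
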