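import Groth.Agent.BunLib68.TF.Fibres

/-!
# Conditions on the generic fibre
-/

set_option autoImplicit false
set_option backward.isDefEq.respectTransparency false
set_option backward.isDefEq.respectTransparency.types false
set_option linter.style.haveILetI false
set_option linter.unusedSectionVars false
set_option linter.overlappingInstances false

universe u

open CategoryTheory CategoryTheory.Limits AlgebraicGeometry TopologicalSpace Opposite

noncomputable section

namespace Groth.Agent.BunLib68.TF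

variable {R : Type u} [CommRing R] [IsDomain R] [IsDiscreteValuationRing R]
  {X : Scheme.{u}} [X.Over (Spec (CommRingCat.of R))]
  {Xg : Scheme.{u}} [Xg.Over (Spec (CommRingCat.of (FractionRing R)))] {j : Xg ⟶ X}
  (hgen : IsPullback j (Xg ↘ Spec (CommRingCat.of (FractionRing R))) (X ↘ Spec (CommRingCat.of R))
    (Spec.map (CommRingCat.ofHom (algebraMap R (FractionRing R)))))
  {I E : X.Modules} {r : ℕ}

include hgen in
theorem exists_generic_square {Ω : Type u} [Field Ω] [Algebra R Ω] (hΩ : Function.Injective (algebraMap R Ω))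
    {W : Scheme.{u}} {φ : W ⟶ X} {q : W ⟶ Spec (CommRingCat.of Ω)}
    (hp : IsPullback φ q (X ↘ Spec (CommRingCat.of R)) (Spec.map (CommRingCat.ofHom (algebraMap R Ω)))) :
    ∃ (s : Spec (CommRingCat.of Ω) ⟶ Spec (CommRingCat.of (FractionRing R))) (g : W ⟶ Xg),
      IsPullback g q (Xg ↘ Spec (CommRingCat.of (FractionRing R))) s ∧ g ≫ j = φ ∧
      s ≫ Spec.map (CommRingCat.ofHom (algebraMap R (FractionRing R))) =
        Spec.map (CommRingCat.ofHom (algebraMap R Ω)) := by
  let K := FractionRing R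
  let ψ : K →+* Ω := IsFractionRing.lift (A := R) (K := K) hΩ
  have hs : Spec.map (CommRingCat.ofHom ψ) ≫ Spec.map (CommRingCat.ofHom (algebraMap R K)) =
      Spec.map (CommRingCat.ofHom (algebraMap R Ω)) := by
    rw [← Spec.map_comp]
    congr 1
    ext a
    exact IsFractionRing.lift_algebraMap hΩ a
  exact ⟨_, hgen.lift φ (q ≫ Spec.map (CommRingCat.ofHom ψ)) (by rw [Category.assoc, hs, hp.w]),
    IsPullback.of_right (h₁₂ := j) (by rw [hgen.lift_fst, hs]; exact hp) (hgen.lift_snd _ _ _) hgen,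
    hgen.lift_fst _ _ _, hs⟩

include hgen in
theorem genSS_of_generic (h : TFOne.FibSemistable (Xg ↘ Spec (CommRingCat.of (FractionRing R)))
    ((Scheme.Modules.pullback j).obj I) ((Scheme.Modules.pullback j).obj E) r) : GenSS (R := R) I E r := by
  intro Ω _ _ _ hΩ W φ q hp
  obtain ⟨s, g, hg, rfl, -⟩ := exists_generic_square hgen hΩ hp
  exact isSemistable_iso Ω q ((Scheme.Modules.pullbackComp g j).app I) ((Scheme.Modules.pullbackComp g j).app E)
    (h Ω s W g q hg)

include hgen in
theorem genSimple_of_generic (hI : TFOne.IsRelTF1 (X ↘ Spec (CommRingCat.of R)) I)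
    (h : TFOne.FibSimple (Xg ↘ Spec (CommRingCat.of (FractionRing R))) ((Scheme.Modules.pullback j).obj I)) :
    GenSimple (R := R) I := by
  intro Ω _ _ _ hΩ W φ q hp
  obtain ⟨s, g, hg, rfl, -⟩ := exists_generic_square hgen hΩ hp
  exact ⟨hI.2.2 Ω _ W _ q hp, isSimple_iso Ω q ((Scheme.Modules.pullbackComp g j).app I) (h Ω s W g q hg)⟩

include hgen in
theorem genQS_of_generic {σ : Spec (CommRingCat.of R) ⟶ X}
    {σg : Spec (CommRingCat.of (FractionRing R)) ⟶ Xg}
    (hσg : σg ≫ (Xg ↘ Spec (CommRingCat.of (FractionRing R))) = 𝟙 _)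
    (hσgj : σg ≫ j = Spec.map (CommRingCat.ofHom (algebraMap R (FractionRing R))) ≫ σ)
    (h : TFOne.FibQuasistableAlong (Xg ↘ Spec (CommRingCat.of (FractionRing R)))
      ((Scheme.Modules.pullback j).obj I) ((Scheme.Modules.pullback j).obj E) σg hσg r) :
    GenQS (R := R) I E σ r := by
  intro Ω _ _ _ hΩ W φ q hp y hy hy'
  obtain ⟨s, g, hg, rfl, hs⟩ := exists_generic_square hgen hΩ hp
  refine isQuasistableAtPt_iso Ω q ((Scheme.Modules.pullbackComp g j).app I) ((Scheme.Modules.pullbackComp g j).app E)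
    (h Ω s W g q hg y ?_ hy)
  refine hgen.hom_ext ?_ ?_
  · rw [Category.assoc, Category.assoc, hσgj, ← Category.assoc s, hs, hy',
      ← Category.assoc (g ≫ j), hp.w, ← Category.assoc y, ← Category.assoc y, hy, Category.id_comp]
  · rw [Category.assoc, Category.assoc, hσg, Category.comp_id, hg.w, ← Category.assoc, hy, Category.id_comp]

theorem genSS_of_genQS {σ : Spec (CommRingCat.of R) ⟶ X} (hσ : σ ≫ (X ↘ Spec (CommRingCat.of R)) = 𝟙 _)
    (h : GenQS (R := R) I E σ r) : GenSS (R := R) I E r := by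
  intro Ω _ _ _ hΩ W φ q hp
  refine (h Ω hΩ W φ q hp (hp.lift (Spec.map (CommRingCat.ofHom (algebraMap R Ω)) ≫ σ) (𝟙 _)
    (by rw [Category.assoc, hσ, Category.comp_id, Category.id_comp])) (hp.lift_snd _ _ _) ?_).1
  rw [← Category.assoc _ φ, hp.lift_fst, Category.assoc, ← Category.assoc σ, hσ, Category.id_comp]

include hgen in
theorem iso_of_genIso {J : X.Modules} (h : GenIso (R := R) I J) :
    Nonempty ((Scheme.Modules.pullback j).obj J ≅ ((Scheme.Modules.pullback j).obj I)) := by
  obtain ⟨e⟩ := h (FractionRing R) (IsFractionRing.injective R (FractionRing R)) Xg j _ hgen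
  exact ⟨e.symm⟩

variable [IsProper (X ↘ Spec (CommRingCat.of R))]
  {Xs : Scheme.{u}} {i : Xs ⟶ X} {qs : Xs ⟶ Spec (CommRingCat.of (IsLocalRing.ResidueField R))}
  (hsq : IsPullback i qs (X ↘ Spec (CommRingCat.of R)) (Spec.map (CommRingCat.ofHom (IsLocalRing.residue R))))

include hgen hsq in
theorem nonempty_special
    (h : TFOne.FibSimple (Xg ↘ Spec (CommRingCat.of (FractionRing R))) ((Scheme.Modules.pullback j).obj I)) :
    Nonempty Xs := by
  let K := FractionRing R
  let Ω := AlgebraicClosure K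
  let W := pullback (Xg ↘ Spec (CommRingCat.of K)) (Spec.map (CommRingCat.ofHom (algebraMap K Ω)))
  have hs := h Ω _ W _ _ (IsPullback.of_hasPullback _ _)
  have hne : Nonempty W := by
    by_contra hW
    haveI : IsEmpty W := not_nonempty_iff.1 hW
    refine hs.1 (KFlatLib.isZero_of_stalk _ fun x => isEmptyElim x)
  obtain ⟨w⟩ := hne
  let f := X ↘ Spec (CommRingCat.of R)
  let x := j (pullback.fst (Xg ↘ Spec (CommRingCat.of K)) (Spec.map (CommRingCat.ofHom (algebraMap K Ω))) w)
  obtain ⟨y, -, hy⟩ := (IsLocalRing.specializes_closedPoint (f x)).mem_closed (f.isClosedMap _ isClosed_univ)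
    ⟨x, trivial, rfl⟩
  obtain ⟨z, -⟩ := (range_special hsq).ge hy
  exact ⟨z⟩

include hsq in
theorem isDomain_of_smooth {U : X.Opens} [Smooth (U.ι ≫ (X ↘ Spec (CommRingCat.of R)))] {x : Xs} (hx : i x ∈ U) :
    IsDomain (Xs.presheaf.stalk x) := by
  haveI : Smooth ((i ⁻¹ᵁ U).ι ≫ qs) :=
    MorphismProperty.of_isPullback ((isPullback_morphismRestrict i U).paste_vert hsq) inferInstance
  haveI := GrpSchLib.isRegularLocalRing_stalk_of_smooth ((i ⁻¹ᵁ U).ι ≫ qs) ⟨x, hx⟩
  haveI := RegLoc6.isDomain_of_isRegularLocalRing ((i ⁻¹ᵁ U).toScheme.presheaf.stalk ⟨x, hx⟩)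
  exact (asIso ((i ⁻¹ᵁ U).ι.stalkMap ⟨x, hx⟩)).commRingCatIsoToRingEquiv.toMulEquiv.isDomain _

end Groth.Agent.BunLib68.TF
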