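import Groth.Agent.BunLib68.TF.Push
import Groth.Agent.AmpleVan.AdicBase
import Groth.Agent.KZ.ClosedDev
import Groth.Agent.FFun.Basic

/-!
# Restriction to the special fibre of an elementary modification
-/

set_option autoImplicit false
set_option backward.isDefEq.respectTransparency false
set_option backward.isDefEq.respectTransparency.types false
set_option linter.style.haveILetI false
set_option linter.unusedSectionVars false
set_option linter.overlappingInstances false

universe u

open CategoryTheory CategoryTheory.Limits AlgebraicGeometry TopologicalSpace Opposite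

noncomputable section

namespace Groth.Agent.BunLib68.TF

variable {X T : Scheme.{u}}

/-- Direct images are natural on stalks. -/
theorem pushStalk_sm (j : T ⟶ X) [IsClosedImmersion j] {A B : T.Modules} (g : A ⟶ B) (z : T)
    (v : ((Coh.push j).obj A).presheaf.stalk (j z)) :
    pushStalk j B z (sm ((Coh.push j).map g) (j z) v) = sm g z (pushStalk j A z v) := by
  obtain ⟨U, hU, s, rfl⟩ := TopCat.Presheaf.exists_germ_eq ((Coh.push j).obj A).presheaf v
  rw [sm_germ, pushStalk_germ j B z hU, pushStalk_germ j A z hU, sm_germ]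
  rfl

theorem epi_of_sm_surjective {A B : X.Modules} (φ : A ⟶ B) (h : ∀ x, Function.Surjective (sm φ x)) : Epi φ := by
  refine Preadditive.epi_of_cancel_zero φ fun g hg => ?_
  refine Scheme.Modules.hom_ext _ _ fun U => AddCommGrpCat.hom_ext (AddMonoidHom.ext fun s => ?_)
  refine ZClosLib.section_ext _ _ _ fun x hx => ?_
  obtain ⟨v, hv⟩ := h x (B.presheaf.germ U x hx s)
  refine Eq.trans ?_ (map_zero _).symm
  rw [← sm_germ g hx s, ← hv, ← sm_comp, hg, sm_zero]

/-- A coherent morphism into an object with trivial stalks at the generic points of a reduced scheme. -/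
theorem isZero_of_gen [IsLocallyNoetherian X] [IsReduced X] {F : X.Modules} (hF : Coh.IsQCoh F)
    (htF : TorSh.IsTorsionFree F) (h : ∀ η, IsGen η → Subsingleton (F.presheaf.stalk η)) : IsZero F :=
  (IsZero.iff_id_eq_zero _).2 (hom_eq_zero_of_gen _ hF htF fun η hη _ => haveI := h η hη; Subsingleton.elim _ _)

variable {R : Type u} [CommRing R] [IsDomain R]

/-- Multiplication by a non-zero scalar is injective on a flat module. -/
theorem mono_smulMod_of_flat [X.Over (Spec (CommRingCat.of R))] {M : X.Modules}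
    (hM : FlatMod.IsFlatOver (X ↘ Spec (CommRingCat.of R)) M) {t : R} (ht : t ≠ 0) :
    Mono (Formal.smulMod R M t) := by
  refine QCoh.mono_of_app_injective _ fun U => (injective_iff_map_eq_zero _).2 fun s hs => ?_
  refine ZClosLib.section_ext M _ _ fun x hx => ?_
  rw [map_zero]
  let f := X ↘ Spec (CommRingCat.of R)
  let τ : Γ(Spec (CommRingCat.of R), ⊤) := (Scheme.ΓSpecIso (CommRingCat.of R)).inv t
  let a := (Spec (CommRingCat.of R)).presheaf.germ ⊤ (f x) trivial τ
  have hτ : τ ≠ 0 := fun h0 => ht (by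
    have := congrArg (Scheme.ΓSpecIso (CommRingCat.of R)).hom h0
    rw [map_zero, ← CommRingCat.comp_apply, Iso.inv_hom_id] at this
    exact this)
  have ha : a ≠ 0 := fun h0 => hτ (germ_injective_of_isIntegral (U := ⊤) _ (f x) trivial (h0.trans (map_zero _).symm))
  letI := FlatMod.moduleStalkOver f M x
  haveI : Module.Flat ((Spec (CommRingCat.of R)).presheaf.stalk (f x)) (M.presheaf.stalk x) := hM x
  refine Module.Flat.isSMulRegular_of_nonZeroDivisors (M := M.presheaf.stalk x)
    (mem_nonZeroDivisors_of_ne_zero ha) (show a • M.presheaf.germ U x hx s = a • (0 : M.presheaf.stalk x) from ?_)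
  rw [smul_zero]
  show (f.stalkMap x).hom a • M.presheaf.germ U x hx s = 0
  have h := congrArg (M.presheaf.germ U x hx) hs
  rw [map_zero, FFun.smulMod_app, QCoh.germ_smul'] at h
  refine Eq.trans ?_ h
  congr 1
  exact (Scheme.Hom.germ_stalkMap_apply f ⊤ x trivial τ).trans
    (TopCat.Presheaf.germ_res_apply X.presheaf (homOfLE (le_top : U ≤ ⊤)) x hx _).symm

variable [IsDiscreteValuationRing R]

/-- The restriction to the special fibre of the elementary modification along a quotient of the special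
fibre. -/
theorem exists_modification (f : X ⟶ Spec (CommRingCat.of R)) [IsLocallyNoetherian X] {Xs : Scheme.{u}}
    (i : Xs ⟶ X) (q : Xs ⟶ Spec (CommRingCat.of (IsLocalRing.ResidueField R)))
    (hsq : IsPullback i q f (Spec.map (CommRingCat.ofHom (IsLocalRing.residue R))))
    {I : X.Modules} (hIc : Coh.IsCoh I) (hIf : FlatMod.IsFlatOver f I) {G : Xs.Modules}
    (π : (Scheme.Modules.pullback i).obj I ⟶ G) [Epi π] (hG : Coh.IsCoh G) (IY : X.Modules)
    (hIY : IY = kernel ((Scheme.Modules.pullbackPushforwardAdjunction i).unit.app I ≫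
      (Scheme.Modules.pushforward i).map π)) :
    ∃ (ψ : G ⟶ (Scheme.Modules.pullback i).obj IY)
      (α : (Scheme.Modules.pullback i).obj IY ⟶ (Scheme.Modules.pullback i).obj I),
      Coh.IsCoh IY ∧ Coh.IsCoh ((Scheme.Modules.pullback i).obj IY) ∧
      ∀ z : Xs, Function.Injective (sm ψ z) ∧
        (∀ v, sm α z v = 0 ↔ ∃ g, sm ψ z g = v) ∧
        (∀ v, sm π z v = 0 ↔ ∃ w, sm α z w = v) := by
  subst hIY
  letI : X.Over (Spec (CommRingCat.of R)) := ⟨f⟩
  haveI : IsClosedImmersion (Spec.map (CommRingCat.ofHom (IsLocalRing.residue R))) :=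
    IsClosedImmersion.spec_of_surjective _ Ideal.Quotient.mk_surjective
  haveI : IsClosedImmersion i := MorphismProperty.of_isPullback hsq.flip inferInstance
  obtain ⟨t, ht⟩ := IsDiscreteValuationRing.exists_irreducible R
  have hm : IsLocalRing.maximalIdeal R = Ideal.span {t} := ht.maximalIdeal_eq
  let adj := Scheme.Modules.pullbackPushforwardAdjunction i
  -- the unit is the cokernel of multiplication by the uniformiser
  have hq : ∀ (M : X.Modules), Coh.IsQCoh M → Epi (adj.unit.app M) ∧
      Formal.smulMod R M t ≫ adj.unit.app M = 0 ∧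
      ∀ x : X, ∀ v, sm (adj.unit.app M) x v = 0 → ∃ w, sm (Formal.smulMod R M t) x w = v := by
    intro M hM
    obtain ⟨h0, hiso⟩ := AmpleVan.unit_desc_iso (J := IsLocalRing.maximalIdeal R) (i := i) (q := q) hsq hM
    haveI := hiso
    have hι : ∀ (a : R) (ha : a ∈ IsLocalRing.maximalIdeal R),
        Sigma.ι (fun _ : IsLocalRing.maximalIdeal R => M) ⟨a, ha⟩ ≫ Formal.smulFamily _ M = Formal.smulMod R M a :=
      fun a ha => Sigma.ι_desc _ _
    have htη : Formal.smulMod R M t ≫ adj.unit.app M = 0 := by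
      rw [← hι t (hm ▸ Ideal.mem_span_singleton_self t), Category.assoc, h0, comp_zero]
    refine ⟨?_, htη, fun x v hv => ?_⟩
    · rw [← cokernel.π_desc (Formal.smulFamily _ M) _ h0]
      exact epi_comp _ _
    let C := cokernel (Formal.smulMod R M t)
    have hc : Formal.smulFamily (IsLocalRing.maximalIdeal R) M ≫ cokernel.π (Formal.smulMod R M t) = 0 := by
      refine Sigma.hom_ext _ _ fun a => ?_
      obtain ⟨b, hb⟩ := Ideal.mem_span_singleton'.1 (hm ▸ a.2 : (a : R) ∈ Ideal.span {t})
      rw [comp_zero, ← Category.assoc, hι a a.2, ← hb, FFun.smulMod_mul, Category.assoc,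
        FFun.smulMod_naturality (cokernel.π (Formal.smulMod R M t)) b, ← Category.assoc, cokernel.condition, zero_comp]
    have hfac : adj.unit.app M ≫ inv (cokernel.desc _ _ h0) ≫ cokernel.desc _ _ hc =
        cokernel.π (Formal.smulMod R M t) := by
      have h1 : adj.unit.app M ≫ inv (cokernel.desc _ _ h0) = cokernel.π _ := by
        rw [IsIso.comp_inv_eq, cokernel.π_desc]
      rw [← Category.assoc, h1, cokernel.π_desc]
    exact exists_sm_eq (ShortComplex.exact_cokernel (Formal.smulMod R M t)) x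
      (show sm (cokernel.π (Formal.smulMod R M t)) x v = 0 by
        rw [← hfac, sm_comp]
        exact (congrArg _ hv).trans (map_zero _))
  let P := (Scheme.Modules.pullback i).obj I
  let u : (Scheme.Modules.pushforward i).obj P ⟶ (Scheme.Modules.pushforward i).obj G :=
    (Scheme.Modules.pushforward i).map π
  let p : I ⟶ (Scheme.Modules.pushforward i).obj P := adj.unit.app I
  let b := p ≫ u
  have hPq : Coh.IsQCoh P := QCoh.isQCoh_pullback i hIc.1
  obtain ⟨hpe, hpt₀, hpx⟩ := hq I hIc.1
  have hpt : Formal.smulMod R I t ≫ p = 0 := hpt₀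
  haveI : Epi p := hpe
  haveI : Epi u := AmpleVan.epi_push i hPq hG.1 π
  haveI : Epi b := epi_comp _ _
  have hGc : Coh.IsCoh ((Scheme.Modules.pushforward i).obj G) := QCoh.isCoh_pushforward_finite i hG
  have hKc : Coh.IsCoh (kernel b) := QCoh.isCoh_kernel hIc hGc b
  obtain ⟨hpe', hpt₁, hpx'⟩ := hq (kernel b) hKc.1
  let p' : kernel b ⟶ (Scheme.Modules.pushforward i).obj ((Scheme.Modules.pullback i).obj (kernel b)) :=
    adj.unit.app (kernel b)
  have hpt' : Formal.smulMod R (kernel b) t ≫ p' = 0 := hpt₁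
  haveI : Epi p' := hpe'
  haveI : Mono (Formal.smulMod R I t) := mono_smulMod_of_flat hIf ht.ne_zero
  have hGt : Formal.smulMod R ((Scheme.Modules.pushforward i).obj G) t = 0 := by
    rw [← cancel_epi b, ← FFun.smulMod_naturality b t, ← Category.assoc, hpt, zero_comp, comp_zero]
  have hτb : Formal.smulMod R I t ≫ b = 0 := by rw [FFun.smulMod_naturality, hGt, comp_zero]
  let φ : I ⟶ kernel b := kernel.lift b _ hτb
  have hφ : φ ≫ kernel.ι b = Formal.smulMod R I t := kernel.lift_ι _ _ _
  have hφ' : kernel.ι b ≫ φ = Formal.smulMod R (kernel b) t := by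
    rw [← cancel_mono (kernel.ι b), Category.assoc, hφ]
    exact (FFun.smulMod_naturality (kernel.ι b) t).symm
  haveI : Mono φ := by
    haveI : Mono (φ ≫ kernel.ι b) := by rw [hφ]; infer_instance
    exact mono_of_mono φ (kernel.ι b)
  have hψ0 : kernel.ι b ≫ φ ≫ p' = 0 := by rw [← Category.assoc, hφ', hpt']
  let Ψ : (Scheme.Modules.pushforward i).obj G ⟶
      (Scheme.Modules.pushforward i).obj ((Scheme.Modules.pullback i).obj (kernel b)) :=
    Abelian.epiDesc b (φ ≫ p') hψ0
  have hΨ : b ≫ Ψ = φ ≫ p' := Abelian.comp_epiDesc _ _ _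
  let α₀ := (Scheme.Modules.pullback i).map (kernel.ι b)
  let A := (Scheme.Modules.pushforward i).map α₀
  have hA : p' ≫ A = kernel.ι b ≫ p := (adj.unit.naturality (kernel.ι b)).symm
  have hQc := KZ.ClosedDev.isCoh_pull i hKc
  obtain ⟨ψ, hψ⟩ := AmpleVan.exists_push_map i hG.1 hQc.1 Ψ
  refine ⟨ψ, α₀, hKc, hQc, fun z => ?_⟩
  let x := i z
  have eG := fun v => pushStalk_sm i ψ z v
  have eA := fun v => pushStalk_sm i α₀ z v
  have eu := fun v => pushStalk_sm i π z v
  refine ⟨(injective_iff_map_eq_zero _).2 fun g hg => ?_, fun v => ⟨fun hv => ?_, ?_⟩, fun v => ⟨fun hv => ?_, ?_⟩⟩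
  · obtain ⟨g', rfl⟩ := (pushStalk i G z).surjective g
    obtain ⟨m, rfl⟩ := sm_surjective b x g'
    have h1 : sm Ψ x (sm b x m) = 0 := (pushStalk i _ z).injective (by
      rw [← hψ, map_zero]; exact (eG _).trans hg)
    rw [← sm_comp, hΨ, sm_comp] at h1
    obtain ⟨w, hw⟩ := hpx' x _ h1
    rw [← hφ', sm_comp] at hw
    rw [← sm_injective φ x hw, ← sm_comp _ b, kernel.condition, sm_zero, map_zero]
  · obtain ⟨v', rfl⟩ := (pushStalk i _ z).surjective v
    obtain ⟨y, rfl⟩ := sm_surjective p' x v'
    have h1 : sm A x (sm p' x y) = 0 := (pushStalk i _ z).injective (by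
      rw [map_zero]; exact (eA _).trans hv)
    rw [← sm_comp, hA, sm_comp] at h1
    obtain ⟨w, hw⟩ := hpx x _ h1
    rw [← hφ, sm_comp] at hw
    refine ⟨pushStalk i G z (sm b x w), ?_⟩
    rw [← eG, ← sm_injective (kernel.ι b) x hw, ← sm_comp φ p', ← hΨ, sm_comp b Ψ, ← hψ]
  · rintro ⟨g, rfl⟩
    obtain ⟨g', rfl⟩ := (pushStalk i G z).surjective g
    obtain ⟨m, rfl⟩ := sm_surjective b x g'
    have h1 : sm A x (sm Ψ x (sm b x m)) = 0 := by
      rw [← sm_comp b Ψ, hΨ, sm_comp φ p', ← sm_comp p' A, hA, sm_comp, ← sm_comp φ (kernel.ι b), hφ, ← sm_comp,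
        hpt, sm_zero]
    rw [← eG, ← eA]
    show pushStalk i _ z (sm A x (sm ((Coh.push i).map ψ) x (sm b x m))) = 0
    rw [show (Coh.push i).map ψ = Ψ from hψ, h1, map_zero]
  · obtain ⟨v', rfl⟩ := (pushStalk i _ z).surjective v
    obtain ⟨m, rfl⟩ := sm_surjective p x v'
    have h1 : sm b x m = 0 := (pushStalk i G z).injective (by
      rw [map_zero, show sm b x m = sm u x (sm p x m) from sm_comp p u x m]
      exact (eu _).trans hv)
    obtain ⟨w, hw⟩ := exists_kernel_eq b x h1
    refine ⟨pushStalk i _ z (sm p' x w), ?_⟩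
    rw [← eA]
    show pushStalk i _ z (sm A x (sm p' x w)) = _
    rw [← sm_comp, hA, sm_comp, hw]
  · rintro ⟨w, rfl⟩
    obtain ⟨w', rfl⟩ := (pushStalk i _ z).surjective w
    obtain ⟨y, rfl⟩ := sm_surjective p' x w'
    rw [← eA, ← eu]
    show pushStalk i G z (sm u x (sm A x (sm p' x y))) = 0
    rw [← sm_comp p' A, hA, sm_comp, ← sm_comp p u, ← sm_comp, kernel.condition, sm_zero, map_zero]

end Groth.Agent.BunLib68.TF
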