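import Groth.Agent.BunLib68.TF.Euler
import Groth.Agent.BunLib68.TF.Snake

/-!
# Euler characteristics of the quotients of a modified sheaf
-/

set_option autoImplicit false
set_option backward.isDefEq.respectTransparency false
set_option backward.isDefEq.respectTransparency.types false
set_option linter.style.haveILetI false
set_option linter.unusedSectionVars false
set_option linter.overlappingInstances false

universe u

open CategoryTheory CategoryTheory.Limits AlgebraicGeometry TopologicalSpace Opposite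

noncomputable section

namespace Groth.Agent.BunLib68.TF

variable {X : Scheme.{u}} (k : Type u) [Field k] [X.Over (Spec (CommRingCat.of k))]
  [IsProper (X ↘ Spec (CommRingCat.of k))] [IsReduced X] [IsNoetherian X]

/-- The numerical properties of the restriction `M'` of the modification of a sheaf with restriction `M`
along its quotient on `Y`. -/
structure IsModif (M M' : X.Modules) (Y : X → Prop) : Prop where
  tf1 : TFOne.IsTF1 X M'
  euler_eq : Curv2.euler k X M' = Curv2.euler k X M
  le : ∀ P : X → Prop, chiQ k M (fun η => P η ∧ Y η) + chiQ k M (fun η => P η ∨ Y η) - chiQ k M Y ≤ chiQ k M' P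
  eq : ∀ P : X → Prop, ((∀ η, IsGen η → P η ∨ Y η) ∨ ∀ η, IsGen η → ¬ (P η ∧ Y η)) →
    chiQ k M' P = chiQ k M (fun η => P η ∧ Y η) + chiQ k M (fun η => P η ∨ Y η) - chiQ k M Y

variable {M M' GY : X.Modules} {Ys : Set X}

theorem isModif_of_exact (hpure : ∀ C ∈ irreducibleComponents (X : Type u), topologicalKrullDim C = 1)
    (hM : TFOne.IsTF1 X M) {πY : M ⟶ GY} (hGY : TFOne.IsQuotOn X M Ys GY πY)
    (ψ : GY ⟶ M') (α : M' ⟶ M) (hc : Coh.IsCoh M')
    (h : ∀ z : X, Function.Injective (sm ψ z) ∧
        (∀ v, sm α z v = 0 ↔ ∃ g, sm ψ z g = v) ∧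
        (∀ v, sm πY z v = 0 ↔ ∃ w, sm α z w = v)) :
    IsModif k M M' (· ∈ Ys) := by
  haveI := hGY.1
  have hψα : ψ ≫ α = 0 := by
    refine Scheme.Modules.hom_ext _ _ fun U => AddCommGrpCat.hom_ext (AddMonoidHom.ext fun s => ?_)
    refine ZClosLib.section_ext _ _ _ fun x hx => ?_
    refine Eq.trans ?_ (map_zero _).symm
    rw [← sm_germ (ψ ≫ α) hx s, sm_comp]
    exact ((h x).2.1 _).2 ⟨_, rfl⟩
  have hαπ : α ≫ πY = 0 := by
    refine Scheme.Modules.hom_ext _ _ fun U => AddCommGrpCat.hom_ext (AddMonoidHom.ext fun s => ?_)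
    refine ZClosLib.section_ext _ _ _ fun x hx => ?_
    refine Eq.trans ?_ (map_zero _).symm
    rw [← sm_germ (α ≫ πY) hx s, sm_comp]
    exact ((h x).2.2 _).2 ⟨_, rfl⟩
  have hKc : Coh.IsCoh (kernel πY) := QCoh.isCoh_kernel hM.1 hGY.2.1 πY
  have hKt : TorSh.IsTorsionFree (kernel πY) := isTorsionFree_of_mono (kernel.ι πY) hM.1.1 hM.2.1
  let c : M' ⟶ kernel πY := kernel.lift πY α hαπ
  have hcι : c ≫ kernel.ι πY = α := kernel.lift_ι _ _ _
  haveI : Epi c := epi_of_sm_surjective c fun x l => by
    have hl : sm πY x (sm (kernel.ι πY) x l) = 0 := by rw [← sm_comp, kernel.condition, sm_zero]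
    obtain ⟨w, hw⟩ := ((h x).2.2 _).1 hl
    exact ⟨w, sm_injective (kernel.ι πY) x (by rw [← sm_comp, hcι, hw])⟩
  haveI : Mono ψ := QCoh.mono_of_app_injective ψ fun U => (injective_iff_map_eq_zero (ψ.app U).hom).2 fun s hs => by
    refine ZClosLib.section_ext _ _ _ fun x hx => (h x).1 ?_
    rw [map_zero, map_zero, sm_germ, show ψ.app U s = 0 from hs, map_zero]
  have hψc : ψ ≫ c = 0 := by rw [← cancel_mono (kernel.ι πY), Category.assoc, hcι, hψα, zero_comp]
  have hS : (ShortComplex.mk ψ c hψc).ShortExact := by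
    refine { exact := ?_, mono_f := inferInstanceAs (Mono ψ), epi_g := inferInstanceAs (Epi c) }
    rw [ShortComplex.exact_iff_epi_kernel_lift]
    refine epi_of_sm_surjective _ fun x l => ?_
    have hl : sm α x (sm (kernel.ι c) x l) = 0 := by
      rw [← hcι, ← sm_comp, ← Category.assoc, kernel.condition, zero_comp, sm_zero]
    obtain ⟨g, hg⟩ := ((h x).2.1 _).1 hl
    exact ⟨g, sm_injective (kernel.ι c) x (by rw [← sm_comp, kernel.lift_ι]; exact hg)⟩
  have htf : TorSh.IsTorsionFree M' := isTorsionFree_ext hS hGY.2.1.1 hGY.2.2.1 hKc.1 hKt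
  have hrk : TFOne.IsRkOne X M' := by
    intro η hη'
    have hη := isGen_of_mem_genericPoints hη'
    obtain ⟨e⟩ := hM.2.2 η hη'
    by_cases hm : η ∈ Ys
    · have hs : Function.Bijective (sm ψ η) := ⟨(h η).1, fun v => ((h η).2.1 v).1
        (quot_injective hM.2.2 hGY hη hm (by rw [← sm_comp, hαπ, sm_zero]))⟩
      have hp : Function.Bijective (sm πY η) := ⟨(injective_iff_map_eq_zero _).2
        fun v hv => quot_injective hM.2.2 hGY hη hm hv, sm_surjective πY η⟩
      exact ⟨((LinearEquiv.ofBijective _ hp).trans (LinearEquiv.ofBijective _ hs)).symm.trans e⟩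
    · haveI := quot_subsingleton hGY hm
      have hs : Function.Bijective (sm α η) := ⟨(injective_iff_map_eq_zero _).2 fun v hv => by
        obtain ⟨g, rfl⟩ := ((h η).2.1 v).1 hv
        rw [Subsingleton.elim g 0, map_zero], fun v => ((h η).2.2 v).1 (Subsingleton.elim _ _)⟩
      exact ⟨(LinearEquiv.ofBijective _ hs).trans e⟩
  have hM' : TFOne.IsTF1 X M' := ⟨hc, htf, hrk⟩
  have heu : Curv2.euler k X M' = Curv2.euler k X M := by
    have h1 := CurveBundle.euler_add' k ψ c hψc hS hGY.2.1 hc hKc
    have h2 := CurveBundle.euler_add' k (kernel.ι πY) πY (kernel.condition πY)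
      { exact := ShortComplex.exact_kernel πY, mono_f := inferInstance, epi_g := inferInstance } hKc hM.1 hGY.2.1
    omega
  have main : ∀ P : X → Prop,
      chiQ k M (fun η => P η ∧ η ∈ Ys) + chiQ k M (fun η => P η ∨ η ∈ Ys) - chiQ k M (· ∈ Ys) ≤ chiQ k M' P ∧
      (((∀ η, IsGen η → P η ∨ η ∈ Ys) ∨ ∀ η, IsGen η → ¬ (P η ∧ η ∈ Ys)) →
        chiQ k M' P = chiQ k M (fun η => P η ∧ η ∈ Ys) + chiQ k M (fun η => P η ∨ η ∈ Ys) - chiQ k M (· ∈ Ys)) := by
    intro P
    have hG' := isQuotOn_quotM hM' P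
    let π' := quotπ M' P
    haveI : Epi π' := hG'.1
    have hW := isQuotOn_quotM hM (fun η => P η ∧ η ∈ Ys)
    let πW := quotπ M (fun η => P η ∧ η ∈ Ys)
    haveI : Epi πW := hW.1
    have hU := isQuotOn_quotM hM (fun η => P η ∨ η ∈ Ys)
    let πU := quotπ M (fun η => P η ∨ η ∈ Ys)
    haveI : Epi πU := hU.1
    obtain ⟨d, hd, hde⟩ := exists_trans hM.2.2 hU hGY fun η hη hm => (mem_compUnion_gen hη).2 (Or.inr hm)
    haveI := hde
    have hLc : Coh.IsCoh (kernel d) := QCoh.isCoh_kernel hU.2.1 hGY.2.1 d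
    have hLt : TorSh.IsTorsionFree (kernel d) := isTorsionFree_of_mono (kernel.ι d) hU.2.1.1 hU.2.2.1
    have heL := CurveBundle.euler_add' k (kernel.ι d) d (kernel.condition d)
      { exact := ShortComplex.exact_kernel d, mono_f := inferInstance, epi_g := inferInstance } hLc hU.2.1 hGY.2.1
    obtain ⟨e, he⟩ := exists_factor hM.2.2 hW (πY ≫ ψ ≫ π') hG'.2.1.1 hG'.2.2.1 fun η hη hn v => by
      by_cases hP : P η
      · haveI := quot_subsingleton hGY (x := η) fun hm => hn ((mem_compUnion_gen hη).2 ⟨hP, hm⟩)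
        rw [sm_comp, Subsingleton.elim (sm πY η v) 0, map_zero]
      · haveI := quot_subsingleton hG' (x := η) fun hm => hP ((mem_compUnion_gen hη).1 hm)
        exact Subsingleton.elim _ _
    have he' : ∀ (x : X) m, sm e x (sm πW x m) = sm π' x (sm ψ x (sm πY x m)) := fun x m => by
      rw [← sm_comp, he, sm_comp, sm_comp]
    let c₂ : M' ⟶ kernel d := kernel.lift d (α ≫ πU) (by rw [Category.assoc, hd, hαπ])
    have hc₂ : c₂ ≫ kernel.ι d = α ≫ πU := kernel.lift_ι _ _ _
    obtain ⟨g, hg⟩ := exists_factor hrk hG' c₂ hLc.1 hLt fun η hη hn v => by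
      refine sm_injective (kernel.ι d) η ?_
      rw [map_zero, ← sm_comp, hc₂, sm_comp]
      by_cases hm : η ∈ Ys
      · have : sm α η v = 0 := quot_injective hM.2.2 hGY hη hm (by rw [← sm_comp, hαπ, sm_zero])
        rw [this, map_zero]
      · haveI := quot_subsingleton hU (x := η) fun hh =>
          ((mem_compUnion_gen hη).1 hh).elim (fun hP => hn ((mem_compUnion_gen hη).2 hP)) hm
        exact Subsingleton.elim _ _
    haveI : Epi c₂ := epi_of_sm_surjective c₂ fun x l => by
      obtain ⟨m, hm⟩ := sm_surjective πU x (sm (kernel.ι d) x l)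
      have hπm : sm πY x m = 0 := by
        rw [← hd, sm_comp, hm, ← sm_comp, kernel.condition, sm_zero]
      obtain ⟨w, hw⟩ := ((h x).2.2 _).1 hπm
      exact ⟨w, sm_injective (kernel.ι d) x (by rw [← sm_comp, hc₂, sm_comp, hw, hm])⟩
    haveI : Epi g := by
      haveI : Epi (π' ≫ g) := by rw [hg]; infer_instance
      exact epi_of_epi π' g
    have heg : e ≫ g = 0 := by
      rw [← cancel_epi πW, ← Category.assoc, he, comp_zero, Category.assoc, Category.assoc, hg,
        ← cancel_mono (kernel.ι d), Category.assoc, Category.assoc, hc₂, zero_comp, reassoc_of% hψα, zero_comp,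
        comp_zero]
    haveI : Mono e := mono_of_gen e hW.2.1.1 hW.2.2.1 fun η hη v hv => by
      obtain ⟨m, rfl⟩ := sm_surjective πW η v
      by_cases hh : P η ∧ η ∈ Ys
      · rw [he'] at hv
        have h1 := quot_injective hrk hG' hη ((mem_compUnion_gen hη).2 hh.1) hv
        have h2 : sm πY η m = 0 := (h η).1 (h1.trans (map_zero _).symm)
        rw [quot_injective hM.2.2 hGY hη hh.2 h2, map_zero]
      · haveI := quot_subsingleton hW (x := η) fun hm => hh ((mem_compUnion_gen hη).1 hm)
        exact Subsingleton.elim _ _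
    have hKg : Coh.IsCoh (kernel g) := QCoh.isCoh_kernel hG'.2.1 hLc g
    have heg' := CurveBundle.euler_add' k (kernel.ι g) g (kernel.condition g)
      { exact := ShortComplex.exact_kernel g, mono_f := inferInstance, epi_g := inferInstance } hKg hG'.2.1 hLc
    let β := kernel.lift g e heg
    have hβ : β ≫ kernel.ι g = e := kernel.lift_ι _ _ _
    haveI : Mono β := by
      haveI : Mono (β ≫ kernel.ι g) := by rw [hβ]; infer_instance
      exact mono_of_mono β (kernel.ι g)
    have lift_at : ∀ (x : X) m', sm πU x (sm α x m') = 0 →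
        (sm α x m' = 0) → ∃ v, sm e x v = sm π' x m' := fun x m' _ h0 => by
      obtain ⟨g₀, rfl⟩ := ((h x).2.1 _).1 h0
      obtain ⟨m, rfl⟩ := sm_surjective πY x g₀
      exact ⟨sm πW x m, he' x m⟩
    have hker : ∀ (x : X) w, ∃ m', sm π' x m' = sm (kernel.ι g) x w ∧ sm πU x (sm α x m') = 0 := fun x w => by
      obtain ⟨m', hm'⟩ := sm_surjective π' x (sm (kernel.ι g) x w)
      refine ⟨m', hm', ?_⟩
      rw [← sm_comp, ← hc₂, sm_comp, ← hg, sm_comp, hm', ← sm_comp _ g, kernel.condition, sm_zero, map_zero]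
    obtain ⟨hle, -⟩ := euler_le_of_mono k hpure β hW.2.1 hKg fun η hη w => by
      obtain ⟨m', hm', h0⟩ := hker η w
      suffices ∃ v, sm e η v = sm π' η m' by
        obtain ⟨v, hv⟩ := this
        exact ⟨v, sm_injective (kernel.ι g) η (by rw [← sm_comp, hβ, hv, hm'])⟩
      by_cases hP : P η
      · exact lift_at η m' h0 (quot_injective hM.2.2 hU hη ((mem_compUnion_gen hη).2 (Or.inl hP)) h0)
      · haveI := quot_subsingleton hG' (x := η) fun hm => hP ((mem_compUnion_gen hη).1 hm)
        exact ⟨0, Subsingleton.elim _ _⟩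
    have eY : Curv2.euler k X GY = chiQ k M (· ∈ Ys) := euler_eq_chiQ k hM hGY fun η _ => Iff.rfl
    refine ⟨by unfold chiQ at *; omega, fun hcase => ?_⟩
    suffices IsIso β by
      have hb := CurveCohLib.euler_congr (k := k) (asIso β)
      unfold chiQ at *
      omega
    rcases hcase with hall | hnone
    · haveI : Mono πU := mono_of_gen πU hM.1.1 hM.2.1 fun η hη v hv =>
        quot_injective hM.2.2 hU hη ((mem_compUnion_gen hη).2 (hall η hη)) hv
      haveI : Epi β := epi_of_sm_surjective β fun x w => by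
        obtain ⟨m', hm', h0⟩ := hker x w
        obtain ⟨v, hv⟩ := lift_at x m' h0 (sm_injective πU x (h0.trans (map_zero _).symm))
        exact ⟨v, sm_injective (kernel.ι g) x (by rw [← sm_comp, hβ, hv, hm'])⟩
      exact isIso_of_mono_of_epi β
    · have hz : IsZero (kernel g) := by
        refine isZero_of_gen hKg.1 (isTorsionFree_of_mono (kernel.ι g) hG'.2.1.1 hG'.2.2.1) fun η hη => ?_
        refine subsingleton_of_forall_eq 0 fun w => sm_injective (kernel.ι g) η ?_
        obtain ⟨m', hm', h0⟩ := hker η w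
        rw [← hm', map_zero]
        by_cases hP : P η
        · obtain ⟨v, hv⟩ := lift_at η m' h0 (quot_injective hM.2.2 hU hη ((mem_compUnion_gen hη).2 (Or.inl hP)) h0)
          haveI := quot_subsingleton hW (x := η) fun hm => hnone η hη ((mem_compUnion_gen hη).1 hm)
          rw [← hv, Subsingleton.elim v 0, map_zero]
        · haveI := quot_subsingleton hG' (x := η) fun hm => hP ((mem_compUnion_gen hη).1 hm)
          exact Subsingleton.elim _ _
      haveI : Epi β := ⟨fun _ _ _ => hz.eq_of_src _ _⟩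
      exact isIso_of_mono_of_epi β
  exact ⟨hM', heu, fun P => (main P).1, fun P => (main P).2⟩

/-- The restriction of an elementary modification satisfies the numerical properties. -/
theorem isModif_pullback (hpure : ∀ C ∈ irreducibleComponents (X : Type u), topologicalKrullDim C = 1)
    {R : Type u} [CommRing R] [IsDomain R] [IsDiscreteValuationRing R]
    {X' : Scheme.{u}} [IsLocallyNoetherian X'] (f : X' ⟶ Spec (CommRingCat.of R))
    (i : X ⟶ X') (q : X ⟶ Spec (CommRingCat.of (IsLocalRing.ResidueField R)))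
    (hsq : IsPullback i q f (Spec.map (CommRingCat.ofHom (IsLocalRing.residue R))))
    {I : X'.Modules} (hIc : Coh.IsCoh I) (hIf : FlatMod.IsFlatOver f I)
    (hIs : TFOne.IsTF1 X ((Scheme.Modules.pullback i).obj I)) {G : X.Modules}
    {π : (Scheme.Modules.pullback i).obj I ⟶ G}
    (hG : TFOne.IsQuotOn X ((Scheme.Modules.pullback i).obj I) Ys G π) (IY : X'.Modules)
    (hIY : IY = kernel ((Scheme.Modules.pullbackPushforwardAdjunction i).unit.app I ≫
      (Scheme.Modules.pushforward i).map π)) :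
    IsModif k ((Scheme.Modules.pullback i).obj I) ((Scheme.Modules.pullback i).obj IY) (· ∈ Ys) := by
  haveI := hG.1
  obtain ⟨ψ, α, -, hc, h⟩ := exists_modification f i q hsq hIc hIf π hG.2.1 IY hIY
  exact isModif_of_exact k hpure hIs hG ψ α hc h

end Groth.Agent.BunLib68.TF
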