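import Groth.Agent.BunLib68.TF.Beta

/-!
# `χ(E ⊗ G)` for a sheaf of generic rank at most one, and `β` as an Euler characteristic
-/

set_option autoImplicit false
set_option backward.isDefEq.respectTransparency false
set_option backward.isDefEq.respectTransparency.types false
set_option linter.style.haveILetI false
set_option linter.unusedSectionVars false
set_option linter.overlappingInstances false

universe u

open CategoryTheory CategoryTheory.Limits AlgebraicGeometry TopologicalSpace Opposite

noncomputable section

namespace Groth.Agent.BunLib68.TF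

variable {X : Scheme.{u}} (k : Type u) [Field k] [X.Over (Spec (CommRingCat.of k))]
  [IsProper (X ↘ Spec (CommRingCat.of k))] [IsReduced X]
  (hpure : ∀ C ∈ irreducibleComponents (X : Type u), topologicalKrullDim C = 1)

/-- The local ring of a generic point of a reduced scheme has length one. -/
theorem length_stalk_gen {η : X} (hη : IsGen η) :
    Module.length (X.presheaf.stalk η) (X.presheaf.stalk η) = 1 := by
  letI := hη.toField
  haveI : IsSimpleModule (X.presheaf.stalk η) (X.presheaf.stalk η) :=
    isSimpleModule_self_iff_isUnit.2 ⟨inferInstance, fun a ha => (isUnit_iff_ne_zero).2 ha⟩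
  rw [Module.length_eq_one]

variable {E : X.Modules} {r : ℕ} (hE : FlatMod.IsFinLocFreeOfRank r E)

include hpure in
/-- `χ(E ⊗ F) = r χ(F) + deg` for `F` of rank one on the components selected by `P` and zero on the others. -/
theorem euler_tensor_eq {F : X.Modules} (hF : Coh.IsCoh F) {P : X → Prop}
    (h1 : ∀ η, IsGen η → P η → Nonempty (F.presheaf.stalk η ≃ₗ[X.presheaf.stalk η] X.presheaf.stalk η))
    (h0 : ∀ η, IsGen η → ¬ P η → Subsingleton (F.presheaf.stalk η)) :
    Curv2.euler k X ((DCoh.tensorBi.obj E).obj F) = (r : ℤ) * Curv2.euler k X F + dsum k hE P := by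
  classical
  haveI := CurveCohLib.isNoetherian_of_proper (k := k) (X := X)
  have hdim : topologicalKrullDim X ≤ ((1 : ℕ) : WithBot ℕ∞) := H23.TopDim.dim_eq_iSup_irreducibleComponents.trans_le
    (iSup₂_le fun C hC => (hpure C hC).le)
  have key : VarBase.psi k hE F = dsum k hE P := by
    rw [VarBase.psi_eq_compSum k hE hF
      ((topologicalKrullDim_subspace_le X (CohB1.support F)).trans hdim)]
    refine finsum_congr fun η => ?_
    by_cases hg : IsGen η
    · rw [if_pos ((dim_closure_eq_one_iff hpure η).2 hg)]
      by_cases hP : P η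
      · obtain ⟨e⟩ := h1 η hg hP
        have hl : VarBase.lenAt F η = 1 := by
          rw [VarBase.lenAt, show Module.length (X.presheaf.stalk η) (F.presheaf.stalk η) = 1 from
            e.length_eq.trans (length_stalk_gen hg)]
          rfl
        rw [if_pos ⟨hg, hP⟩, hl, one_smul]
        rfl
      · haveI := h0 η hg hP
        rw [if_neg fun h => hP h.2, VarBase.lenAt_eq_zero (fun hs => hs (h0 η hg hP)), zero_smul]
    · rw [if_neg fun h => hg ((dim_closure_eq_one_iff hpure η).1 h), if_neg fun h => hg h.1]
  have : Curv2.euler k X ((DCoh.tensorBi.obj E).obj F) - (r : ℤ) * Curv2.euler k X F = dsum k hE P := key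
  linarith

variable {M G : X.Modules} {Z : Set X}

/-- At a generic point of its subcurve the quotient of a rank one sheaf has rank one. -/
theorem quot_stalk_equiv (hM : TFOne.IsRkOne X M) {π : M ⟶ G} (hG : TFOne.IsQuotOn X M Z G π) {η : X}
    (hη : IsGen η) (hZ : η ∈ Z) :
    Nonempty (G.presheaf.stalk η ≃ₗ[X.presheaf.stalk η] X.presheaf.stalk η) := by
  haveI := hG.1
  obtain ⟨e₀⟩ := hM η hη.mem_genericPoints
  exact ⟨(LinearEquiv.ofBijective (sm π η) ⟨(injective_iff_map_eq_zero _).2
    fun v hv => quot_injective hM hG hη hZ hv, sm_surjective π η⟩).symm.trans e₀⟩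

variable [IsNoetherian X]

include hE hpure in
/-- `r β` of a quotient is an Euler characteristic. -/
theorem beta_eq_euler_tensor (hM : TFOne.IsTF1 X M) {π : M ⟶ G} (hG : TFOne.IsQuotOn X M Z G π) {P : X → Prop}
    (h : ∀ η, IsGen η → (η ∈ Z ↔ P η)) :
    beta k hE M P = Curv2.euler k X ((DCoh.tensorBi.obj E).obj G) := by
  haveI := CurveCohLib.isNoetherian_of_proper (k := k) (X := X)
  rw [euler_tensor_eq k hpure hE hG.2.1 (P := P) (fun η hη hP => quot_stalk_equiv hM.2.2 hG hη ((h η hη).2 hP))
    (fun η hη hP => quot_subsingleton hG fun hh => hP ((h η hη).1 hh)), beta, euler_eq_chiQ k hM hG h]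

end Groth.Agent.BunLib68.TF
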