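import Groth.Agent.BunLib68.TF.Euler
import Groth.Agent.AmpleVan.ThickPush

/-!
# Direct images from reduced subcurves
-/

set_option autoImplicit false
set_option backward.isDefEq.respectTransparency false
set_option backward.isDefEq.respectTransparency.types false
set_option linter.style.haveILetI false
set_option linter.unusedSectionVars false
set_option linter.overlappingInstances false

universe u

open CategoryTheory CategoryTheory.Limits AlgebraicGeometry TopologicalSpace Opposite

noncomputable section

namespace Groth.Agent.BunLib68.TF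

variable {X T : Scheme.{u}} (j : T ⟶ X) [IsClosedImmersion j]

/-- The comparison of the stalk of a direct image with the stalk. -/
def pushStalk (M : T.Modules) (z : T) :
    ((Coh.push j).obj M).presheaf.stalk (j z) ≃+ M.presheaf.stalk z :=
  VarBase.pushStalkEquiv j j.isClosedEmbedding.isClosedMap (fun _ h => j.isClosedEmbedding.injective h) M

theorem pushStalk_germ (M : T.Modules) (z : T) {U : X.Opens} (hU : j z ∈ U) (v : Γ(M, j ⁻¹ᵁ U)) :
    pushStalk j M z (((Coh.push j).obj M).presheaf.germ U (j z) hU v) = M.presheaf.germ (j ⁻¹ᵁ U) z hU v :=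
  congrArg (fun φ => φ v) (TopCat.Presheaf.stalkPushforward_germ Ab.{u} j.base M.presheaf U z hU)

variable [IsReduced T] [IsReduced X]

/-- A point over a generic point is generic. -/
theorem isGen_of_isGen_apply {z : T} (h : IsGen (j z)) : IsGen z :=
  isGen_of_mem_genericPoints ⟨isIrreducible_singleton.closure, fun S hS hle => by
    obtain ⟨ξ, hξ⟩ := QuasiSober.sober hS.closure isClosed_closure
    have hs : ξ ⤳ z := hξ.specializes (subset_closure (hle (subset_closure rfl)))
    obtain rfl := j.isClosedEmbedding.injective (h.eq_of_specializes (hs.map j.continuous))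
    exact subset_closure.trans hξ.def.ge⟩

/-- Generic points of a subcurve are generic. -/
theorem isGen_apply {P : X → Prop} (hj : Set.range j = compUnion P) {z : T} (h : IsGen z) : IsGen (j z) := by
  obtain ⟨η, hη, hP, hs⟩ := hj.le ⟨z, rfl⟩
  obtain ⟨z', rfl⟩ := hj.ge ⟨η, hη, hP, specializes_refl η⟩
  rwa [h.eq_of_specializes (j.isClosedEmbedding.isInducing.specializes_iff.1 hs)] at hη

theorem range_subschι (X : Scheme.{u}) (Z : Set X) (hZ : IsClosed Z) : Set.range (VecSt.subschι X Z hZ) = Z :=
  (Scheme.IdealSheafData.range_subschemeι _).trans (Scheme.IdealSheafData.coe_support_vanishingIdeal _)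

theorem nontrivial_push {M : T.Modules} (hM : TFOne.IsRkOne T M) {z : T} (hz : IsGen z) :
    Nontrivial (((Coh.push j).obj M).presheaf.stalk (j z)) :=
  haveI := nontrivial_stalk hM hz
  (pushStalk j M z).toEquiv.nontrivial

theorem subsingleton_push {M : T.Modules} (hM : Coh.IsQCoh M) {x : X} (hx : x ∉ Set.range j) :
    Subsingleton (((Coh.push j).obj M).presheaf.stalk x) :=
  not_not.1 fun h => hx (QCoh.support_push_subset j hM h)

variable [IsLocallyNoetherian T] [IsNoetherian X]

theorem isTorsionFree_push {M : T.Modules} (hM : Coh.IsQCoh M) (ht : TorSh.IsTorsionFree M)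
    {P : X → Prop} (hj : Set.range j = compUnion P) : TorSh.IsTorsionFree ((Coh.push j).obj M) :=
  isTorsionFree_of_gen fun U s hs => eq_zero_of_gen hM ht (U := j ⁻¹ᵁ U) s fun z hz hg => by
    rw [← pushStalk_germ j M z hz s, hs (j z) hz (isGen_apply j hj hg), map_zero]

theorem isLocallyNoetherian_subsch (X : Scheme.{u}) [IsLocallyNoetherian X] (Z : Set X) (hZ : IsClosed Z) :
    IsLocallyNoetherian (VecSt.subsch X Z hZ) :=
  LocallyOfFiniteType.isLocallyNoetherian (VecSt.subschι X Z hZ)

end Groth.Agent.BunLib68.TF
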