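import Groth.Agent.BunLib68.TF.Fibre
import Groth.Agent.Algz7.Completion
import Groth.Agent.S0004

/-!
# The formal quotient of a tower of modifications with constant steps, and its algebraization
-/

set_option autoImplicit false
set_option backward.isDefEq.respectTransparency false
set_option backward.isDefEq.respectTransparency.types false
set_option linter.style.haveILetI false
set_option linter.unusedSectionVars false
set_option linter.overlappingInstances false

universe u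

open CategoryTheory CategoryTheory.Limits AlgebraicGeometry TopologicalSpace Opposite

noncomputable section

namespace Groth.Agent.BunLib68.TF

variable {R : Type u} [CommRing R] {X : Scheme.{u}} [X.Over (Spec (CommRingCat.of R))]

/-- A decreasing tower of modules with multiplication by `t` moving one step down and identifying the
successive quotients. -/
structure ModTower (t : R) where
  M : ℕ → X.Modules
  a : ∀ n, M (n + 1) ⟶ M n
  u : ∀ n, M n ⟶ M (n + 1)
  T : ℕ → X.Modules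
  q : ∀ n, M n ⟶ T n
  c : ∀ n, T n ⟶ T (n + 1)
  mono_a : ∀ n, Mono (a n)
  epi_q : ∀ n, Epi (q n)
  exact : ∀ n {Z : X.Modules} (g : Z ⟶ M n), g ≫ q n = 0 ↔ ∃ g', g' ≫ a n = g
  au : ∀ n, a n ≫ u n = Formal.smulMod R (M (n + 1)) t
  ua : ∀ n, u n ≫ a n = Formal.smulMod R (M n) t
  qc : ∀ n, q n ≫ c n = u n ≫ q (n + 1)
  isIso_c : ∀ n, IsIso (c n)
  coh : ∀ n, Coh.IsCoh (M n)

namespace ModTower

variable {t : R} (D : ModTower (X := X) t)

attribute [instance] ModTower.mono_a ModTower.epi_q ModTower.isIso_c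

theorem a_q (n : ℕ) : D.a n ≫ D.q n = 0 := (D.exact n (D.a n)).2 ⟨𝟙 _, Category.id_comp _⟩

/-- The inclusion into the top of the tower. -/
def ι : ∀ n, D.M n ⟶ D.M 0
  | 0 => 𝟙 _
  | n + 1 => D.a n ≫ ι n

theorem ι_succ (n : ℕ) : D.ι (n + 1) = D.a n ≫ D.ι n := rfl

instance mono_ι : ∀ n, Mono (D.ι n)
  | 0 => inferInstanceAs (Mono (𝟙 (D.M 0)))
  | n + 1 => haveI := mono_ι n; inferInstanceAs (Mono (D.a n ≫ D.ι n))

/-- The factorisation of `t^n` through the tower. -/
def w : ∀ n, D.M 0 ⟶ D.M n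
  | 0 => 𝟙 _
  | n + 1 => w n ≫ D.u n

theorem w_ι : ∀ n, D.w n ≫ D.ι n = Formal.smulMod R (D.M 0) (t ^ n)
  | 0 => by rw [pow_zero, FFun.smulMod_one]; exact Category.comp_id _
  | n + 1 => by
    show (D.w n ≫ D.u n) ≫ D.a n ≫ D.ι n = _
    rw [Category.assoc, ← Category.assoc (D.u n), D.ua, FFun.smulMod_naturality, ← Category.assoc, w_ι n,
      ← FFun.smulMod_mul]
    congr 1
    rw [pow_succ]
    ring

theorem epi_w_q : ∀ n, Epi (D.w n ≫ D.q n)
  | 0 => by
    show Epi (𝟙 _ ≫ D.q 0)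
    rw [Category.id_comp]
    infer_instance
  | n + 1 => by
    haveI := epi_w_q n
    show Epi ((D.w n ≫ D.u n) ≫ D.q (n + 1))
    rw [Category.assoc, ← D.qc, ← Category.assoc]
    exact epi_comp _ _

/-- `M_n` is generated by `M_{n+1}` and `t^n M_0`. -/
theorem hom_eq_zero (n : ℕ) {Z : X.Modules} (g : D.M n ⟶ Z) (h₁ : D.a n ≫ g = 0) (h₂ : D.w n ≫ g = 0) :
    g = 0 := by
  let K := ShortComplex.exact_cokernel (D.a n)
  have hq : ∃ d, D.q n ≫ d = g := by
    refine ⟨Abelian.epiDesc (D.q n) g ?_, Abelian.comp_epiDesc _ _ _⟩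
    obtain ⟨g', hg'⟩ := (D.exact n (kernel.ι (D.q n))).1 (kernel.condition _)
    rw [← hg', Category.assoc, h₁, comp_zero]
  obtain ⟨d, rfl⟩ := hq
  haveI := D.epi_w_q n
  rw [← Category.assoc] at h₂
  rw [(cancel_epi (D.w n ≫ D.q n)).1 (h₂.trans comp_zero.symm), comp_zero]

theorem ι_le {m n : ℕ} (h : m ≤ n) : ∃ g, g ≫ D.ι m = D.ι n := by
  induction n, h using Nat.le_induction with
  | base => exact ⟨𝟙 _, Category.id_comp _⟩
  | succ k _ ih =>
    obtain ⟨g, hg⟩ := ih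
    exact ⟨D.a k ≫ g, by rw [Category.assoc, hg]; rfl⟩

/-- An element whose multiple by `t` lies in `M_{n+1}` lies in `M_n`. -/
theorem exists_factor_of_smul (n : ℕ) {Z : X.Modules} (g : Z ⟶ D.M 0) (h : Z ⟶ D.M (n + 1))
    (hgh : g ≫ Formal.smulMod R (D.M 0) t = h ≫ D.ι (n + 1)) : ∃ g', g' ≫ D.ι n = g := by
  suffices ∀ m ≤ n, ∃ g', g' ≫ D.ι m = g from this n le_rfl
  intro m hm
  induction m with
  | zero => exact ⟨g, Category.comp_id _⟩
  | succ m ih =>
    obtain ⟨gm, hgm⟩ := ih (by omega)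
    obtain ⟨e, he⟩ := D.ι_le (show m + 2 ≤ n + 1 by omega)
    obtain ⟨h', hh'⟩ : ∃ h' : Z ⟶ D.M (m + 2), h' ≫ D.ι (m + 2) = h ≫ D.ι (n + 1) :=
      ⟨h ≫ e, by rw [Category.assoc, he]⟩
    have h1 : gm ≫ D.u m = h' ≫ D.a (m + 1) := by
      rw [← cancel_mono (D.ι (m + 1))]
      refine Eq.trans ?_ ((Category.assoc _ _ _).trans (hh'.trans hgh.symm)).symm
      rw [ι_succ, Category.assoc, ← Category.assoc (D.u m), D.ua, FFun.smulMod_naturality, ← Category.assoc,
        hgm]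
    have h2 : gm ≫ D.q m = 0 := by
      rw [← cancel_mono (D.c m), zero_comp, Category.assoc, D.qc, ← Category.assoc, h1, Category.assoc, D.a_q,
        comp_zero]
    obtain ⟨g', hg'⟩ := (D.exact m gm).1 h2
    exact ⟨g', by rw [ι_succ, ← Category.assoc, hg', hgm]⟩

/-- The quotient by the `n`th step. -/
def Φ (n : ℕ) : X.Modules := cokernel (D.ι n)

/-- The projection to the quotient by the `n`th step. -/
def P (n : ℕ) : D.M 0 ⟶ D.Φ n := cokernel.π (D.ι n)

instance epi_P (n : ℕ) : Epi (D.P n) := inferInstanceAs (Epi (cokernel.π (D.ι n)))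

theorem ι_P (n : ℕ) : D.ι n ≫ D.P n = 0 := cokernel.condition _

/-- The transition maps. -/
def tr (n : ℕ) : D.Φ (n + 1) ⟶ D.Φ n :=
  cokernel.desc _ (D.P n) (by rw [ι_succ, Category.assoc, ι_P, comp_zero])

theorem P_tr (n : ℕ) : D.P (n + 1) ≫ D.tr n = D.P n := cokernel.π_desc _ _ _

/-- The formal module of quotients. -/
def sys : ℕᵒᵖ ⥤ X.Modules := Functor.ofOpSequence (X := fun n => D.Φ (n + 1)) fun n => D.tr (n + 1)

theorem smul_P (n : ℕ) : Formal.smulMod R (D.M 0) (t ^ n) ≫ D.P n = 0 := by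
  rw [← w_ι, Category.assoc, ι_P, comp_zero]

theorem killed (n : ℕ) : Formal.KilledBy (Ideal.span {t} ^ n) (D.Φ n) := fun b hb => by
  rw [Ideal.span_singleton_pow] at hb
  obtain ⟨c, rfl⟩ := Ideal.mem_span_singleton'.1 hb
  rw [← cancel_epi (D.P n), comp_zero, ← FFun.smulMod_naturality, FFun.smulMod_mul, Category.assoc,
    FFun.smulMod_naturality (D.P n) c, ← Category.assoc, smul_P, zero_comp]

variable [IsLocallyNoetherian X]

theorem isCohFormal_sys : Formal.IsCohFormal (Ideal.span {t}) D.sys := by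
  refine ⟨fun n => QCoh.isCoh_cokernel (D.coh _).1 (D.coh 0) _, fun n => D.killed (n + 1), fun n => ?_⟩
  rw [show D.sys.map (homOfLE (Nat.le_succ n)).op = D.tr (n + 1) from Functor.ofOpSequence_map_homOfLE_succ _ n]
  change Algz7.IsQuot (Ideal.span {t} ^ (n + 1)) (M := D.Φ (n + 1 + 1)) (N := D.Φ (n + 1)) (D.tr (n + 1))
  haveI : Epi (D.tr (n + 1)) := by
    haveI : Epi (D.P (n + 1 + 1) ≫ D.tr (n + 1)) := by rw [P_tr]; infer_instance
    exact epi_of_epi (D.P (n + 1 + 1)) _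
  refine Algz7.IsQuot.mk' _ (D.killed (n + 1)) fun {Z} φ hφ => ?_
  have h1 : D.ι (n + 1) ≫ D.P (n + 1 + 1) ≫ φ = 0 := by
    refine D.hom_eq_zero (n + 1) _ ?_ ?_
    · rw [← Category.assoc, ← Category.assoc, ← ι_succ, ι_P, zero_comp]
    · rw [← Category.assoc, w_ι, ← Category.assoc, FFun.smulMod_naturality, Category.assoc,
        Algz7.smulMod_comp_eq_zero hφ (Ideal.pow_mem_pow (Ideal.mem_span_singleton_self t) _), comp_zero]
  refine ⟨cokernel.desc _ (D.P (n + 1 + 1) ≫ φ) h1, ?_⟩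
  rw [← cancel_epi (D.P (n + 1 + 1)), ← Category.assoc, P_tr]
  exact cokernel.π_desc _ _ _

/-- Multiplication by `t` from one quotient to the next is injective. -/
theorem exists_tbar (n : ℕ) : ∃ τ : D.Φ n ⟶ D.Φ (n + 1), Mono τ ∧
    D.tr n ≫ τ = Formal.smulMod R (D.Φ (n + 1)) t := by
  have h0 : D.ι n ≫ Formal.smulMod R (D.M 0) t ≫ D.P (n + 1) = 0 := by
    rw [← Category.assoc, ← FFun.smulMod_naturality, ← D.ua, Category.assoc (D.u n), ← ι_succ, Category.assoc,
      ι_P, comp_zero]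
  let τ : D.Φ n ⟶ D.Φ (n + 1) := cokernel.desc _ _ h0
  have hτ : D.P n ≫ τ = Formal.smulMod R (D.M 0) t ≫ D.P (n + 1) := cokernel.π_desc _ _ _
  refine ⟨τ, Preadditive.mono_of_cancel_zero _ fun {Z} x hx => ?_, ?_⟩
  · obtain ⟨Z', e, he, g, hg⟩ := surjective_up_to_refinements_of_epi (D.P n) x
    have h1 : (g ≫ Formal.smulMod R (D.M 0) t) ≫ cokernel.π (D.ι (n + 1)) = 0 := by
      show (g ≫ _) ≫ D.P (n + 1) = 0
      rw [Category.assoc, ← hτ, ← Category.assoc, ← hg, Category.assoc, hx, comp_zero]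
    obtain ⟨Z'', e', he', h, hh⟩ :=
      (ShortComplex.exact_cokernel (D.ι (n + 1))).exact_up_to_refinements _ h1
    obtain ⟨g', hg'⟩ := D.exists_factor_of_smul n (e' ≫ g) h ((Category.assoc _ _ _).trans hh)
    haveI := he
    haveI := he'
    rw [← cancel_epi e, ← cancel_epi e', comp_zero, comp_zero, hg, ← Category.assoc, ← hg', Category.assoc,
      ι_P, comp_zero]
  · rw [← cancel_epi (D.P (n + 1)), ← Category.assoc, P_tr, hτ, FFun.smulMod_naturality]

/-- Algebraization of the formal quotient. -/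
theorem exists_quotient [IsNoetherianRing R] [IsAdicComplete (Ideal.span {t}) R]
    [IsProper (X ↘ Spec (CommRingCat.of R))] :
    ∃ (F : X.Modules) (p : D.M 0 ⟶ F) (θ : F ⟶ D.T 0), Coh.IsCoh F ∧ Epi p ∧
      Mono (Formal.smulMod R F t) ∧ p ≫ θ = D.q 0 ∧
      (∀ {Z : X.Modules} (g : F ⟶ Z), Formal.smulMod R F t ≫ g = 0 → ∃ g', θ ≫ g' = g) := by
  let I : Ideal R := Ideal.span {t}
  obtain ⟨hA, hB⟩ := Groth.Agent.S0004.result R I X
  obtain ⟨F, hF, ⟨θ⟩⟩ := hB D.sys D.isCohFormal_sys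
  have huniq : ∀ {N N' : X.Modules}, Coh.IsCoh N → Coh.IsCoh N' → ∀ g : N ⟶ N',
      (∀ n, g ≫ Formal.modPowπ I (n + 1) N' = 0) → g = 0 := fun {N N'} hN hN' g hg =>
    (hA N N' hN hN' 0).unique (fun n => comp_zero.trans (hg n).symm) (fun n => comp_zero.trans zero_comp.symm)
  let ρ : ∀ n, F ⟶ D.Φ (n + 1) := fun n => Formal.modPowπ I (n + 1) F ≫ θ.hom.app (op n)
  have hρtr : ∀ n, ρ (n + 1) ≫ D.tr (n + 1) = ρ n := fun n => by
    have h := θ.hom.naturality (homOfLE (Nat.le_succ n)).op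
    rw [show D.sys.map (homOfLE (Nat.le_succ n)).op = D.tr (n + 1) from Functor.ofOpSequence_map_homOfLE_succ _ n,
      Algz7.completion_map_succ] at h
    show (Formal.modPowπ I (n + 1 + 1) F ≫ _) ≫ _ = _
    rw [Category.assoc]
    refine (congrArg (Formal.modPowπ I (n + 1 + 1) F ≫ ·) h.symm).trans ?_
    rw [← Category.assoc]
    exact congrArg (· ≫ _) (Formal.modPowπ_trans I (n + 1) F)
  have hρπ : ∀ n, ρ n ≫ θ.inv.app (op n) = Formal.modPowπ I (n + 1) F := fun n => by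
    rw [Category.assoc, Iso.hom_inv_id_app]
    exact Category.comp_id _
  have hPk : ∀ n, Formal.smulFamily (I ^ (n + 1)) (D.M 0) ≫ D.P (n + 1) = 0 := fun n =>
    Algz7.smulFamily_comp_eq_zero (D.killed (n + 1)) _
  let ψ : Formal.completion I (D.M 0) ⟶ D.sys :=
    NatTrans.ofOpSequence (fun n => cokernel.desc _ (D.P (n + 1)) (hPk n)) fun n => by
      rw [Algz7.completion_map_succ,
        show D.sys.map (homOfLE (Nat.le_succ n)).op = D.tr (n + 1) from Functor.ofOpSequence_map_homOfLE_succ _ n]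
      refine coequalizer.hom_ext ?_
      refine (Category.assoc _ _ _).symm.trans ?_
      refine (congrArg (· ≫ _) (Formal.modPowπ_trans I (n + 1) (D.M 0))).trans ?_
      refine (cokernel.π_desc _ _ _).trans ?_
      refine (D.P_tr (n + 1)).symm.trans ?_
      refine Eq.trans ?_ (Category.assoc _ _ _)
      exact congrArg (· ≫ _) (cokernel.π_desc _ _ _).symm
  obtain ⟨p, hp, -⟩ := hA (D.M 0) F (D.coh 0) hF (ψ ≫ θ.inv)
  have hpρ : ∀ n, p ≫ ρ n = D.P (n + 1) := fun n => by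
    show p ≫ Formal.modPowπ I (n + 1) F ≫ θ.hom.app (op n) = _
    rw [← Category.assoc, ← hp n, Category.assoc, NatTrans.comp_app, Category.assoc, Iso.inv_hom_id_app]
    refine (congrArg (Formal.modPowπ I (n + 1) (D.M 0) ≫ ·) (Category.comp_id _)).trans ?_
    exact cokernel.π_desc _ _ _
  refine ⟨F, p, ρ 0 ≫ cokernel.desc _ (D.q 0) ?_, hF, ?_, ?_, ?_, ?_⟩
  · show (D.a 0 ≫ 𝟙 _) ≫ D.q 0 = 0
    rw [Category.comp_id, D.a_q]
  · have hC : Coh.IsCoh (cokernel p) := QCoh.isCoh_cokernel (D.coh 0).1 hF _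
    refine Preadditive.epi_of_cokernel_zero ?_
    have h1 : ∀ n, cokernel.π p ≫ Formal.modPowπ I (n + 1) (cokernel p) = 0 := fun n => by
      have h0 : Formal.smulFamily (I ^ (n + 1)) F ≫ cokernel.π p ≫ Formal.modPowπ I (n + 1) (cokernel p) = 0 :=
        Algz7.smulFamily_comp_eq_zero (Algz7.killedBy_of_isQuot (Algz7.isQuot_modPowπ I (n + 1) (cokernel p))) _
      obtain ⟨d, hd⟩ := (Algz7.isQuot_modPowπ I (n + 1) F).desc _ h0
      have h2 : p ≫ ρ n ≫ θ.inv.app (op n) ≫ d = 0 := by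
        rw [← Category.assoc (ρ n), hρπ, hd, ← Category.assoc, cokernel.condition, zero_comp]
      rw [← Category.assoc, hpρ] at h2
      have h3 := (cancel_epi (D.P (n + 1))).1 (h2.trans comp_zero.symm)
      rw [← hd, ← hρπ, Category.assoc, h3, comp_zero]
    have h4 : 𝟙 (cokernel p) = 0 := huniq hC hC _ fun n => by
      rw [Category.id_comp, ← cancel_epi (cokernel.π p), h1, comp_zero]
    rw [← Category.comp_id (cokernel.π p), h4, comp_zero]
  · refine Preadditive.mono_of_kernel_zero ?_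
    refine huniq (QCoh.isCoh_kernel hF hF _) hF _ fun n => ?_
    obtain ⟨τ, hτm, hτ⟩ := D.exists_tbar (n + 1)
    haveI := hτm
    have : kernel.ι (Formal.smulMod R F t) ≫ ρ n = 0 := by
      rw [← cancel_mono τ, zero_comp, ← hρtr, Category.assoc, Category.assoc, hτ, ← FFun.smulMod_naturality,
        ← Category.assoc, kernel.condition, zero_comp]
    rw [← hρπ, ← Category.assoc, this, zero_comp]
  · rw [← Category.assoc, hpρ]
    exact cokernel.π_desc _ _ _
  · intro Z g hg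
    have h0 : Formal.smulFamily (I ^ (0 + 1)) F ≫ g = 0 := by
      refine Sigma.hom_ext _ _ fun b => ?_
      have hb : (b : R) ∈ Ideal.span {t} := by simpa [I] using b.2
      obtain ⟨c, hc⟩ := Ideal.mem_span_singleton'.1 hb
      rw [comp_zero, ← Category.assoc, Formal.smulFamily, Sigma.ι_desc, ← hc, FFun.smulMod_mul, Category.assoc,
        FFun.smulMod_naturality g c, ← Category.assoc, hg, zero_comp]
    obtain ⟨d, hd⟩ := (Algz7.isQuot_modPowπ I (0 + 1) F).desc g h0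
    have h1 : D.ι 1 ≫ D.P 1 = 0 := D.ι_P 1
    let π₁ : D.Φ (0 + 1) ⟶ D.T 0 := cokernel.desc _ (D.q 0) (by
      show (D.a 0 ≫ 𝟙 _) ≫ D.q 0 = 0
      rw [Category.comp_id, D.a_q])
    have hπ₁ : D.P 1 ≫ π₁ = D.q 0 := cokernel.π_desc _ _ _
    have hk : kernel.ι (D.q 0) ≫ D.P 1 = 0 := by
      obtain ⟨g', hg'⟩ := (D.exact 0 (kernel.ι (D.q 0))).1 (kernel.condition _)
      rw [← hg', Category.assoc,
        show D.a 0 = D.ι 1 from (Category.comp_id _).symm, h1, comp_zero]
    let s : D.T 0 ⟶ D.Φ (0 + 1) := Abelian.epiDesc (D.q 0) (D.P 1) hk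
    have hs : π₁ ≫ s = 𝟙 _ := by
      rw [← cancel_epi (D.P 1), ← Category.assoc, hπ₁, Category.comp_id]
      exact Abelian.comp_epiDesc _ _ _
    refine ⟨s ≫ θ.inv.app (op 0) ≫ d, ?_⟩
    rw [Category.assoc, ← Category.assoc _ s, hs, Category.id_comp, ← Category.assoc, hρπ, hd]

end ModTower

end Groth.Agent.BunLib68.TF
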