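import Groth.Agent.BunLib68.TF.Limit
import Groth.Agent.S2269

/-!
# The stability notions are invariant under isomorphism
-/

set_option autoImplicit false
set_option backward.isDefEq.respectTransparency false
set_option backward.isDefEq.respectTransparency.types false
set_option linter.style.haveILetI false
set_option linter.unusedSectionVars false
set_option linter.overlappingInstances false

universe u

open CategoryTheory CategoryTheory.Limits AlgebraicGeometry TopologicalSpace Opposite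

noncomputable section

namespace Groth.Agent.BunLib68.TF

variable {X : Scheme.{u}} {M M' : X.Modules}

/-- An isomorphism of modules on stalks. -/
def smEquiv (e : M ≅ M') (x : X) : M.presheaf.stalk x ≃ₗ[X.presheaf.stalk x] M'.presheaf.stalk x :=
  LinearEquiv.ofBijective (sm e.hom x) ⟨sm_injective e.hom x, sm_surjective e.hom x⟩

theorem isTF1_iso (e : M ≅ M') (h : TFOne.IsTF1 X M) : TFOne.IsTF1 X M' := by
  refine ⟨S2269.isCoh_of_iso' e h.1, fun x => ?_, fun x hx => ?_⟩
  · haveI := h.2.1 x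
    exact Function.Injective.moduleIsTorsionFree (smEquiv e x).symm (smEquiv e x).symm.injective
      fun a m => map_smul _ a m
  · obtain ⟨f⟩ := h.2.2 x hx
    exact ⟨(smEquiv e x).symm.trans f⟩

theorem isQuotOn_source_iso {Z : Set X} {G : X.Modules} {π : M ⟶ G} (e : M' ≅ M)
    (h : TFOne.IsQuotOn X M Z G π) : TFOne.IsQuotOn X M' Z G (e.hom ≫ π) := by
  haveI := h.1
  exact ⟨epi_comp _ _, h.2⟩

variable (k : Type u) [Field k] (q : X ⟶ Spec (CommRingCat.of k)) {E E' : X.Modules} {r : ℕ}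

theorem rBeta_iso (Z : Set X) (hZ : IsClosed Z) (eE : E ≅ E') (G : X.Modules) :
    TFOne.rBeta X k q Z hZ E r G = TFOne.rBeta X k q Z hZ E' r G := by
  letI : X.Over (Spec (CommRingCat.of k)) := ⟨q⟩
  letI : (VecSt.subsch X Z hZ).Over (Spec (CommRingCat.of k)) := ⟨VecSt.subschι X Z hZ ≫ q⟩
  unfold TFOne.rBeta Curv2.deg
  rw [CurveCohLib.euler_congr (k := k) ((Scheme.Modules.pullback (VecSt.subschι X Z hZ)).mapIso eE)]

theorem isSemistable_iso (e : M ≅ M') (eE : E ≅ E') (h : TFOne.IsSemistable X k q M E r) :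
    TFOne.IsSemistable X k q M' E' r :=
  ⟨isTF1_iso e h.1, fun Z hZ h1 h2 G π hπ => by
    rw [← rBeta_iso k q Z hZ eE]
    exact h.2 Z hZ h1 h2 G _ (isQuotOn_source_iso e hπ)⟩

theorem isQuasistableAtPt_iso (e : M ≅ M') (eE : E ≅ E') {p : X}
    (h : TFOne.IsQuasistableAtPt X k q M E r p) : TFOne.IsQuasistableAtPt X k q M' E' r p :=
  ⟨isSemistable_iso k q e eE h.1, fun Z hZ h1 h2 h3 G π hπ => by
    rw [← rBeta_iso k q Z hZ eE]
    exact h.2 Z hZ h1 h2 h3 G _ (isQuotOn_source_iso e hπ)⟩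

theorem isSimple_iso (e : M ≅ M') (h : TFOne.IsSimple X k q M) : TFOne.IsSimple X k q M' := by
  letI : X.Over (Spec (CommRingCat.of k)) := ⟨q⟩
  refine ⟨fun hz => h.1 (hz.of_iso e), fun φ => ?_⟩
  obtain ⟨c, hc⟩ := h.2 (e.hom ≫ φ ≫ e.inv)
  refine ⟨c, ?_⟩
  rw [← cancel_epi e.hom, ← cancel_mono e.inv, Category.assoc, hc, Category.assoc,
    FFun.smulMod_naturality, e.hom_inv_id_assoc]

end Groth.Agent.BunLib68.TF
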